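import Cfsg.Agent.Spor.LyMca.D0

set_option autoImplicit false
set_option maxRecDepth 100000000
set_option Elab.async false

namespace Cfsg.Agent.Spor.LyMca

theorem ok0 : Net.okb 13 n0 = true := by decide +kernel

theorem ok1 : Net.okb 13 n1 = true := by decide +kernel

theorem ok2 : Net.okb 13 n2 = true := by decide +kernel

theorem ok3 : Net.okb 13 n3 = true := by decide +kernel

theorem rel0 : T.rel 13 [3, 2, 2, 7, 2, 3, 6, 6, 7, 2, 7, 3, 2, 2, 7, 2, 3, 6, 6, 7, 2, 7, 3, 2, 2, 7, 2, 3, 6, 6, 7, 2, 7, 3, 2, 2, 7, 2, 3, 6, 6, 7, 2, 7] 0 13 = true := by decide +kernel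

theorem rel1 : T.rel 13 [7, 7, 2, 2, 7, 7, 3, 6, 3, 2, 2, 7, 6, 3, 6, 6, 7, 2, 3, 2, 2, 7, 2, 3, 6, 6, 7, 2, 7] 0 13 = true := by decide +kernel

theorem rel2 : T.rel 13 [7, 7, 3, 2, 2, 7, 2, 3, 6, 6, 7, 2, 7, 7, 7, 3, 2, 2, 7, 2, 3, 6, 6, 7, 2, 7, 3, 2, 2, 7, 2, 3, 6, 6, 7, 2, 7, 7, 7, 3, 6, 3, 2, 2, 7, 6, 3, 6, 6, 7] 0 13 = true := by decide +kernel

theorem rel3 : T.rel 13 [2, 3, 2, 2, 7, 2, 3, 6, 6, 7, 2, 7, 6, 3, 2, 2, 7, 2, 3, 6, 6, 7, 2, 7, 6, 6, 3, 6, 3, 2, 2, 7, 6, 3, 6, 6, 7, 3, 6, 3, 2, 2, 7, 6, 3, 6, 6, 7] 0 13 = true := by decide +kernel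

theorem rel4 : T.rel 13 [7, 7, 2, 7, 7, 2, 7, 7, 6, 7, 7, 6] 0 13 = true := by decide +kernel

theorem rel5 : T.rel 13 [7, 7, 7, 7] 0 13 = true := by decide +kernel

theorem rel6 : T.rel 13 [2, 2, 2, 2, 2] 0 13 = true := by decide +kernel

theorem rel7 : T.rel 13 [3, 2, 3, 3, 2, 2, 7, 6, 3, 6, 3, 2, 7, 3, 6, 3, 2, 2, 7, 6, 3, 6, 6, 7] 0 13 = true := by decide +kernel

theorem rel8 : T.rel 13 [3, 2, 3, 2, 2, 7, 2, 2, 3, 2, 7, 2, 2, 3, 3, 2] 0 13 = true := by decide +kernel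

theorem rel9 : T.rel 13 [3, 2, 7, 6, 3, 2, 7, 6, 3, 2, 7, 6] 0 13 = true := by decide +kernel

theorem rel10 : T.rel 13 [1, 1, 8, 8] 0 13 = true := by decide +kernel

theorem rel11 : T.rel 13 [1, 7, 1, 7] 0 13 = true := by decide +kernel

theorem rel12 : T.rel 13 [1, 1, 1, 1, 7, 7] 0 13 = true := by decide +kernel

theorem rel13 : T.rel 13 [1, 3, 1, 3] 0 13 = true := by decide +kernel

theorem rel14 : T.rel 13 [3, 4, 7, 7, 8, 3] 0 13 = true := by decide +kernel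

theorem rel15 : T.rel 13 [1, 4, 1, 8, 5, 8] 0 13 = true := by decide +kernel

theorem rel16 : T.rel 13 [1, 2, 4, 6, 8, 5, 2] 0 13 = true := by decide +kernel

theorem rel17 : T.rel 13 [1, 2, 2, 5, 4, 6, 8, 2] 0 13 = true := by decide +kernel

theorem rel18 : T.rel 13 [5, 8, 7, 7, 8, 5] 0 13 = true := by decide +kernel

theorem rel19 : T.rel 13 [2, 4, 1, 2, 5, 6, 6, 8] 0 13 = true := by decide +kernel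

theorem rel20 : T.rel 13 [8, 3, 4, 4, 3, 8] 0 13 = true := by decide +kernel

theorem rel21 : T.rel 13 [1, 3, 2, 8, 2, 1, 8, 6, 5, 8, 7] 0 13 = true := by decide +kernel

theorem rel22 : T.rel 13 [1, 6, 4, 5, 6, 4, 5, 6, 8] 0 13 = true := by decide +kernel

theorem rel23 : T.rel 13 [1, 3, 4, 2, 1, 4, 2, 2, 1, 4, 6, 7] 0 13 = true := by decide +kernel

theorem rel24 : T.rel 13 [1, 3, 6, 8, 6, 8, 6, 5, 2, 7] 0 13 = true := by decide +kernel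

theorem rel25 : T.rel 13 [1, 3, 2, 1, 1, 4, 2, 4, 6, 1, 2, 7] 0 13 = true := by decide +kernel

theorem rel26 : T.rel 13 [1, 6, 7, 2, 2, 3, 6, 6, 3, 6, 7, 2] 0 13 = true := by decide +kernel

theorem rel27 : T.rel 13 [4, 6, 7, 2, 7, 6, 1, 6, 3, 2, 4, 6] 0 13 = true := by decide +kernel

theorem rel28 : T.rel 13 [4, 1, 3, 2, 8, 2, 7, 4, 2, 1, 2, 7, 8, 7, 2, 2, 7, 2, 2] 0 13 = true := by decide +kernel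

theorem hcov : T.treeCov (ones 7128) L 1 = true := by decide +kernel

theorem hg : lall (fun z => band (memL L z) (band (sub (ones 7128) (T.let z).cl) (T.closed (ones 7128) z))) gs = true := by decide +kernel

theorem rot1_1 : T.rot 1 [5] (sel (ones 7128) ip1 1) = true := by decide +kernel

theorem rot1_1r : band (Rule.ok (2 * 0) EX RL ⟨1 :: [5], [], 29, false⟩) (lall (memL L) [5]) = true := by decide +kernel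

theorem rot1_2 : T.rot 1 [1, 8, 8] (sel (ones 7128) ip1 2) = true := by decide +kernel

theorem rot1_2r : band (Rule.ok (2 * 0) EX RL ⟨1 :: [1, 8, 8], [], 10, true⟩) (lall (memL L) [1, 8, 8]) = true := by decide +kernel

theorem rot1_3 : T.rot 1 [8, 8, 1] (sel (ones 7128) ip1 3) = true := by decide +kernel

theorem rot1_3r : band (Rule.ok (2 * 0) EX RL ⟨1 :: [8, 8, 1], [1], 10, true⟩) (lall (memL L) [8, 8, 1]) = true := by decide +kernel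

theorem rot1_4 : T.rot 1 [7, 1, 7] (sel (ones 7128) ip1 4) = true := by decide +kernel

theorem rot1_4r : band (Rule.ok (2 * 0) EX RL ⟨1 :: [7, 1, 7], [], 11, true⟩) (lall (memL L) [7, 1, 7]) = true := by decide +kernel

theorem rot1_5 : T.rot 1 [3, 1, 3] (sel (ones 7128) ip1 5) = true := by decide +kernel

theorem rot1_5r : band (Rule.ok (2 * 0) EX RL ⟨1 :: [3, 1, 3], [], 13, true⟩) (lall (memL L) [3, 1, 3]) = true := by decide +kernel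

theorem rot1_6 : T.rot 1 [1, 1, 1, 7, 7] (sel (ones 7128) ip1 6) = true := by decide +kernel

theorem rot1_6r : band (Rule.ok (2 * 0) EX RL ⟨1 :: [1, 1, 1, 7, 7], [], 12, true⟩) (lall (memL L) [1, 1, 1, 7, 7]) = true := by decide +kernel

theorem rot1_7 : T.rot 1 [1, 1, 7, 7, 1] (sel (ones 7128) ip1 7) = true := by decide +kernel

theorem rot1_7r : band (Rule.ok (2 * 0) EX RL ⟨1 :: [1, 1, 7, 7, 1], [1], 12, true⟩) (lall (memL L) [1, 1, 7, 7, 1]) = true := by decide +kernel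

theorem rot1_8 : T.rot 1 [1, 7, 7, 1, 1] (sel (ones 7128) ip1 8) = true := by decide +kernel

theorem rot1_8r : band (Rule.ok (2 * 0) EX RL ⟨1 :: [1, 7, 7, 1, 1], [1, 1], 12, true⟩) (lall (memL L) [1, 7, 7, 1, 1]) = true := by decide +kernel

theorem rot1_9 : T.rot 1 [7, 7, 1, 1, 1] (sel (ones 7128) ip1 9) = true := by decide +kernel

theorem rot1_9r : band (Rule.ok (2 * 0) EX RL ⟨1 :: [7, 7, 1, 1, 1], [5, 5, 0], 12, true⟩) (lall (memL L) [7, 7, 1, 1, 1]) = true := by decide +kernel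

theorem rot1_10 : T.rot 1 [4, 1, 8, 5, 8] (sel (ones 7128) ip1 10) = true := by decide +kernel

theorem rot1_10r : band (Rule.ok (2 * 0) EX RL ⟨1 :: [4, 1, 8, 5, 8], [], 15, true⟩) (lall (memL L) [4, 1, 8, 5, 8]) = true := by decide +kernel

theorem rot1_11 : T.rot 1 [8, 5, 8, 1, 4] (sel (ones 7128) ip1 11) = true := by decide +kernel

theorem rot1_11r : band (Rule.ok (2 * 0) EX RL ⟨1 :: [8, 5, 8, 1, 4], [1, 7], 15, true⟩) (lall (memL L) [8, 5, 8, 1, 4]) = true := by decide +kernel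

theorem rot1_12 : T.rot 1 [4, 5, 8, 5, 4] (sel (ones 7128) ip1 12) = true := by decide +kernel

theorem rot1_12r : band (Rule.ok (2 * 0) EX RL ⟨1 :: [4, 5, 8, 5, 4], [7], 15, false⟩) (lall (memL L) [4, 5, 8, 5, 4]) = true := by decide +kernel

theorem rot1_13 : T.rot 1 [4, 3, 3, 4, 1] (sel (ones 7128) ip1 13) = true := by decide +kernel

theorem rot1_13r : band (Rule.ok (2 * 0) EX RL ⟨1 :: [4, 3, 3, 4, 1], [], 18, false⟩) (lall (memL L) [4, 3, 3, 4, 1]) = true := by decide +kernel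

theorem rot1_14 : T.rot 1 [1, 4, 3, 3, 4] (sel (ones 7128) ip1 14) = true := by decide +kernel

theorem rot1_14r : band (Rule.ok (2 * 0) EX RL ⟨1 :: [1, 4, 3, 3, 4], [0], 18, false⟩) (lall (memL L) [1, 4, 3, 3, 4]) = true := by decide +kernel

theorem rot1_15 : T.rot 1 [2, 4, 6, 8, 5, 2] (sel (ones 7128) ip1 15) = true := by decide +kernel

theorem rot1_15r : band (Rule.ok (2 * 0) EX RL ⟨1 :: [2, 4, 6, 8, 5, 2], [], 16, true⟩) (lall (memL L) [2, 4, 6, 8, 5, 2]) = true := by decide +kernel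

theorem rot1_16 : T.rot 1 [4, 2, 8, 6, 5, 6] (sel (ones 7128) ip1 16) = true := by decide +kernel

theorem rot1_16r : band (Rule.ok (2 * 0) EX RL ⟨1 :: [4, 2, 8, 6, 5, 6], [2], 16, false⟩) (lall (memL L) [4, 2, 8, 6, 5, 6]) = true := by decide +kernel

theorem rot1_17 : T.rot 1 [2, 2, 5, 4, 6, 8, 2] (sel (ones 7128) ip1 17) = true := by decide +kernel

theorem rot1_17r : band (Rule.ok (2 * 0) EX RL ⟨1 :: [2, 2, 5, 4, 6, 8, 2], [], 17, true⟩) (lall (memL L) [2, 2, 5, 4, 6, 8, 2]) = true := by decide +kernel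

theorem rot1_18 : T.rot 1 [6, 6, 5, 6, 4, 2, 8] (sel (ones 7128) ip1 18) = true := by decide +kernel

theorem rot1_18r : band (Rule.ok (2 * 0) EX RL ⟨1 :: [6, 6, 5, 6, 4, 2, 8], [1, 3, 3, 0], 17, false⟩) (lall (memL L) [6, 6, 5, 6, 4, 2, 8]) = true := by decide +kernel

theorem rot1_19 : T.rot 1 [2, 5, 6, 6, 8, 2, 4] (sel (ones 7128) ip1 19) = true := by decide +kernel

theorem rot1_19r : band (Rule.ok (2 * 0) EX RL ⟨1 :: [2, 5, 6, 6, 8, 2, 4], [3, 7], 19, true⟩) (lall (memL L) [2, 5, 6, 6, 8, 2, 4]) = true := by decide +kernel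

theorem rot1_20 : T.rot 1 [6, 5, 8, 6, 4, 2, 2] (sel (ones 7128) ip1 20) = true := by decide +kernel

theorem rot1_20r : band (Rule.ok (2 * 0) EX RL ⟨1 :: [6, 5, 8, 6, 4, 2, 2], [7, 3, 3], 19, false⟩) (lall (memL L) [6, 5, 8, 6, 4, 2, 2]) = true := by decide +kernel

theorem rot1_21 : T.rot 1 [6, 4, 5, 6, 4, 5, 6, 8] (sel (ones 7128) ip1 21) = true := by decide +kernel

theorem rot1_21r : band (Rule.ok (2 * 0) EX RL ⟨1 :: [6, 4, 5, 6, 4, 5, 6, 8], [], 22, true⟩) (lall (memL L) [6, 4, 5, 6, 4, 5, 6, 8]) = true := by decide +kernel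

theorem rot1_22 : T.rot 1 [8, 2, 1, 8, 2, 5, 4, 2] (sel (ones 7128) ip1 22) = true := by decide +kernel

theorem rot1_22r : band (Rule.ok (2 * 0) EX RL ⟨1 :: [8, 2, 1, 8, 2, 5, 4, 2], [7, 3], 22, false⟩) (lall (memL L) [8, 2, 1, 8, 2, 5, 4, 2]) = true := by decide +kernel

theorem rot1_23 : T.rot 1 [8, 2, 5, 4, 2, 1, 8, 2] (sel (ones 7128) ip1 23) = true := by decide +kernel

theorem rot1_23r : band (Rule.ok (2 * 0) EX RL ⟨1 :: [8, 2, 5, 4, 2, 1, 8, 2], [1, 2, 7, 0], 22, false⟩) (lall (memL L) [8, 2, 5, 4, 2, 1, 8, 2]) = true := by decide +kernel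

theorem rot1_24 : T.rot 1 [3, 6, 8, 6, 8, 6, 5, 2, 7] (sel (ones 7128) ip1 24) = true := by decide +kernel

theorem rot1_24r : band (Rule.ok (2 * 0) EX RL ⟨1 :: [3, 6, 8, 6, 8, 6, 5, 2, 7], [], 24, true⟩) (lall (memL L) [3, 6, 8, 6, 8, 6, 5, 2, 7]) = true := by decide +kernel

theorem rot1_25 : T.rot 1 [2, 4, 2, 4, 2, 7, 5, 3, 6] (sel (ones 7128) ip1 25) = true := by decide +kernel

theorem rot1_25r : band (Rule.ok (2 * 0) EX RL ⟨1 :: [2, 4, 2, 4, 2, 7, 5, 3, 6], [5, 2], 24, false⟩) (lall (memL L) [2, 4, 2, 4, 2, 7, 5, 3, 6]) = true := by decide +kernel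

theorem rot1_26 : T.rot 1 [3, 2, 8, 2, 1, 8, 6, 5, 8, 7] (sel (ones 7128) ip1 26) = true := by decide +kernel

theorem rot1_26r : band (Rule.ok (2 * 0) EX RL ⟨1 :: [3, 2, 8, 2, 1, 8, 6, 5, 8, 7], [], 21, true⟩) (lall (memL L) [3, 2, 8, 2, 1, 8, 6, 5, 8, 7]) = true := by decide +kernel

theorem rot1_27 : T.rot 1 [8, 6, 5, 8, 7, 1, 3, 2, 8, 2] (sel (ones 7128) ip1 27) = true := by decide +kernel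

theorem rot1_27r : band (Rule.ok (2 * 0) EX RL ⟨1 :: [8, 6, 5, 8, 7, 1, 3, 2, 8, 2], [1, 5, 3, 6, 3], 21, true⟩) (lall (memL L) [8, 6, 5, 8, 7, 1, 3, 2, 8, 2]) = true := by decide +kernel

theorem rot1_28 : T.rot 1 [2, 4, 5, 6, 4, 6, 7, 5, 3, 4] (sel (ones 7128) ip1 28) = true := by decide +kernel

theorem rot1_28r : band (Rule.ok (2 * 0) EX RL ⟨1 :: [2, 4, 5, 6, 4, 6, 7, 5, 3, 4], [5, 7], 21, false⟩) (lall (memL L) [2, 4, 5, 6, 4, 6, 7, 5, 3, 4]) = true := by decide +kernel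

theorem rot1_29 : T.rot 1 [3, 4, 2, 1, 4, 2, 2, 1, 4, 6, 7] (sel (ones 7128) ip1 29) = true := by decide +kernel

theorem rot1_29r : band (Rule.ok (2 * 0) EX RL ⟨1 :: [3, 4, 2, 1, 4, 2, 2, 1, 4, 6, 7], [], 23, true⟩) (lall (memL L) [3, 4, 2, 1, 4, 2, 2, 1, 4, 6, 7]) = true := by decide +kernel

theorem rot1_30 : T.rot 1 [4, 2, 2, 1, 4, 6, 7, 1, 3, 4, 2] (sel (ones 7128) ip1 30) = true := by decide +kernel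

theorem rot1_30r : band (Rule.ok (2 * 0) EX RL ⟨1 :: [4, 2, 2, 1, 4, 6, 7, 1, 3, 4, 2], [1, 5, 7, 3], 23, true⟩) (lall (memL L) [4, 2, 2, 1, 4, 6, 7, 1, 3, 4, 2]) = true := by decide +kernel

theorem rot1_31 : T.rot 1 [4, 6, 7, 1, 3, 4, 2, 1, 4, 2, 2] (sel (ones 7128) ip1 31) = true := by decide +kernel

theorem rot1_31r : band (Rule.ok (2 * 0) EX RL ⟨1 :: [4, 6, 7, 1, 3, 4, 2, 1, 4, 2, 2], [5, 3, 6, 0], 23, true⟩) (lall (memL L) [4, 6, 7, 1, 3, 4, 2, 1, 4, 2, 2]) = true := by decide +kernel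

theorem rot1_32 : T.rot 1 [3, 2, 1, 1, 4, 2, 4, 6, 1, 2, 7] (sel (ones 7128) ip1 32) = true := by decide +kernel

theorem rot1_32r : band (Rule.ok (2 * 0) EX RL ⟨1 :: [3, 2, 1, 1, 4, 2, 4, 6, 1, 2, 7], [], 25, true⟩) (lall (memL L) [3, 2, 1, 1, 4, 2, 4, 6, 1, 2, 7]) = true := by decide +kernel

theorem rot1_33 : T.rot 1 [1, 4, 2, 4, 6, 1, 2, 7, 1, 3, 2] (sel (ones 7128) ip1 33) = true := by decide +kernel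

theorem rot1_33r : band (Rule.ok (2 * 0) EX RL ⟨1 :: [1, 4, 2, 4, 6, 1, 2, 7, 1, 3, 2], [1, 5, 3], 25, true⟩) (lall (memL L) [1, 4, 2, 4, 6, 1, 2, 7, 1, 3, 2]) = true := by decide +kernel

theorem rot1_34 : T.rot 1 [4, 2, 4, 6, 1, 2, 7, 1, 3, 2, 1] (sel (ones 7128) ip1 34) = true := by decide +kernel

theorem rot1_34r : band (Rule.ok (2 * 0) EX RL ⟨1 :: [4, 2, 4, 6, 1, 2, 7, 1, 3, 2, 1], [1, 5, 3, 1], 25, true⟩) (lall (memL L) [4, 2, 4, 6, 1, 2, 7, 1, 3, 2, 1]) = true := by decide +kernel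

theorem rot1_35 : T.rot 1 [2, 7, 1, 3, 2, 1, 1, 4, 2, 4, 6] (sel (ones 7128) ip1 35) = true := by decide +kernel

theorem rot1_35r : band (Rule.ok (2 * 0) EX RL ⟨1 :: [2, 7, 1, 3, 2, 1, 1, 4, 2, 4, 6], [5, 2, 0], 25, true⟩) (lall (memL L) [2, 7, 1, 3, 2, 1, 1, 4, 2, 4, 6]) = true := by decide +kernel

theorem rot1_36 : T.rot 1 [6, 7, 2, 2, 3, 6, 6, 3, 6, 7, 2] (sel (ones 7128) ip1 36) = true := by decide +kernel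

theorem rot1_36r : band (Rule.ok (2 * 0) EX RL ⟨1 :: [6, 7, 2, 2, 3, 6, 6, 3, 6, 7, 2], [], 26, true⟩) (lall (memL L) [6, 7, 2, 2, 3, 6, 6, 3, 6, 7, 2]) = true := by decide +kernel

theorem rot1_37 : T.rot 1 [6, 3, 2, 4, 6, 4, 6, 7, 2, 7, 6] (sel (ones 7128) ip1 37) = true := by decide +kernel

theorem rot1_37r : band (Rule.ok (2 * 0) EX RL ⟨1 :: [6, 3, 2, 4, 6, 4, 6, 7, 2, 7, 6], [3, 6, 2, 4, 3, 0], 27, true⟩) (lall (memL L) [6, 3, 2, 4, 6, 4, 6, 7, 2, 7, 6]) = true := by decide +kernel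

theorem rot1_38 : T.rot 1 [3, 2, 8, 2, 7, 4, 2, 1, 2, 7, 8, 7, 2, 2, 7, 2, 2, 4] (sel (ones 7128) ip1 38) = true := by decide +kernel

theorem rot1_38r : band (Rule.ok (2 * 0) EX RL ⟨1 :: [3, 2, 8, 2, 7, 4, 2, 1, 2, 7, 8, 7, 2, 2, 7, 2, 2, 4], [7], 28, true⟩) (lall (memL L) [3, 2, 8, 2, 7, 4, 2, 1, 2, 7, 8, 7, 2, 2, 7, 2, 2, 4]) = true := by decide +kernel

theorem rot1_39 : T.rot 1 [2, 7, 8, 7, 2, 2, 7, 2, 2, 4, 1, 3, 2, 8, 2, 7, 4, 2] (sel (ones 7128) ip1 39) = true := by decide +kernel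

theorem rot1_39r : band (Rule.ok (2 * 0) EX RL ⟨1 :: [2, 7, 8, 7, 2, 2, 7, 2, 2, 4, 1, 3, 2, 8, 2, 7, 4, 2], [7, 1, 5, 3, 6, 3, 4, 7, 3], 28, true⟩) (lall (memL L) [2, 7, 8, 7, 2, 2, 7, 2, 2, 4, 1, 3, 2, 8, 2, 7, 4, 2]) = true := by decide +kernel

theorem cov1 : T.cover 1 [(sel (ones 7128) ip1 1), (sel (ones 7128) ip1 2), (sel (ones 7128) ip1 3), (sel (ones 7128) ip1 4), (sel (ones 7128) ip1 5), (sel (ones 7128) ip1 6), (sel (ones 7128) ip1 7), (sel (ones 7128) ip1 8), (sel (ones 7128) ip1 9), (sel (ones 7128) ip1 10), (sel (ones 7128) ip1 11), (sel (ones 7128) ip1 12), (sel (ones 7128) ip1 13), (sel (ones 7128) ip1 14), (sel (ones 7128) ip1 15), (sel (ones 7128) ip1 16), (sel (ones 7128) ip1 17), (sel (ones 7128) ip1 18), (sel (ones 7128) ip1 19), (sel (ones 7128) ip1 20),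 (sel (ones 7128) ip1 21), (sel (ones 7128) ip1 22), (sel (ones 7128) ip1 23), (sel (ones 7128) ip1 24), (sel (ones 7128) ip1 25), (sel (ones 7128) ip1 26), (sel (ones 7128) ip1 27), (sel (ones 7128) ip1 28), (sel (ones 7128) ip1 29), (sel (ones 7128) ip1 30), (sel (ones 7128) ip1 31), (sel (ones 7128) ip1 32), (sel (ones 7128) ip1 33), (sel (ones 7128) ip1 34), (sel (ones 7128) ip1 35), (sel (ones 7128) ip1 36), (sel (ones 7128) ip1 37), (sel (ones 7128) ip1 38), (sel (ones 7128) ip1 39)] = true := by decide +kernel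

theorem tl1 : T.treeLt 13 1 = true := by decide +kernel

theorem rot2_1 : T.rot 2 [6] (sel (ones 7128) ip2 1) = true := by decide +kernel

theorem rot2_1r : band (Rule.ok (2 * 0) EX RL ⟨2 :: [6], [], 29, false⟩) (lall (memL L) [6]) = true := by decide +kernel

theorem rot2_2 : T.rot 2 [2, 2, 2, 2] (sel (ones 7128) ip2 2) = true := by decide +kernel

theorem rot2_2r : band (Rule.ok (2 * 0) EX RL ⟨2 :: [2, 2, 2, 2], [], 6, true⟩) (lall (memL L) [2, 2, 2, 2]) = true := by decide +kernel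

theorem rot2_3 : T.rot 2 [4, 6, 8, 5, 2, 1] (sel (ones 7128) ip2 3) = true := by decide +kernel

theorem rot2_3r : band (Rule.ok (2 * 0) EX RL ⟨2 :: [4, 6, 8, 5, 2, 1], [1], 16, true⟩) (lall (memL L) [4, 6, 8, 5, 2, 1]) = true := by decide +kernel

theorem rot2_4 : T.rot 2 [1, 2, 4, 6, 8, 5] (sel (ones 7128) ip2 4) = true := by decide +kernel

theorem rot2_4r : band (Rule.ok (2 * 0) EX RL ⟨2 :: [1, 2, 4, 6, 8, 5], [2], 16, true⟩) (lall (memL L) [1, 2, 4, 6, 8, 5]) = true := by decide +kernel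

theorem rot2_5 : T.rot 2 [8, 6, 5, 6, 1, 4] (sel (ones 7128) ip2 5) = true := by decide +kernel

theorem rot2_5r : band (Rule.ok (2 * 0) EX RL ⟨2 :: [8, 6, 5, 6, 1, 4], [2, 1, 7], 16, false⟩) (lall (memL L) [8, 6, 5, 6, 1, 4]) = true := by decide +kernel

theorem rot2_6 : T.rot 2 [2, 5, 4, 6, 8, 2, 1] (sel (ones 7128) ip2 6) = true := by decide +kernel

theorem rot2_6r : band (Rule.ok (2 * 0) EX RL ⟨2 :: [2, 5, 4, 6, 8, 2, 1], [1], 17, true⟩) (lall (memL L) [2, 5, 4, 6, 8, 2, 1]) = true := by decide +kernel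

theorem rot2_7 : T.rot 2 [5, 4, 6, 8, 2, 1, 2] (sel (ones 7128) ip2 7) = true := by decide +kernel

theorem rot2_7r : band (Rule.ok (2 * 0) EX RL ⟨2 :: [5, 4, 6, 8, 2, 1, 2], [1, 3], 17, true⟩) (lall (memL L) [5, 4, 6, 8, 2, 1, 2]) = true := by decide +kernel

theorem rot2_8 : T.rot 2 [1, 2, 2, 5, 4, 6, 8] (sel (ones 7128) ip2 8) = true := by decide +kernel

theorem rot2_8r : band (Rule.ok (2 * 0) EX RL ⟨2 :: [1, 2, 2, 5, 4, 6, 8], [2], 17, true⟩) (lall (memL L) [1, 2, 2, 5, 4, 6, 8]) = true := by decide +kernel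

theorem rot2_9 : T.rot 2 [8, 1, 6, 6, 5, 6, 4] (sel (ones 7128) ip2 9) = true := by decide +kernel

theorem rot2_9r : band (Rule.ok (2 * 0) EX RL ⟨2 :: [8, 1, 6, 6, 5, 6, 4], [2, 7], 17, false⟩) (lall (memL L) [8, 1, 6, 6, 5, 6, 4]) = true := by decide +kernel

theorem rot2_10 : T.rot 2 [4, 1, 2, 5, 6, 6, 8] (sel (ones 7128) ip2 10) = true := by decide +kernel

theorem rot2_10r : band (Rule.ok (2 * 0) EX RL ⟨2 :: [4, 1, 2, 5, 6, 6, 8], [], 19, true⟩) (lall (memL L) [4, 1, 2, 5, 6, 6, 8]) = true := by decide +kernel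

theorem rot2_11 : T.rot 2 [5, 6, 6, 8, 2, 4, 1] (sel (ones 7128) ip2 11) = true := by decide +kernel

theorem rot2_11r : band (Rule.ok (2 * 0) EX RL ⟨2 :: [5, 6, 6, 8, 2, 4, 1], [3, 7, 1], 19, true⟩) (lall (memL L) [5, 6, 6, 8, 2, 4, 1]) = true := by decide +kernel

theorem rot2_12 : T.rot 2 [2, 1, 6, 5, 8, 6, 4] (sel (ones 7128) ip2 12) = true := by decide +kernel

theorem rot2_12r : band (Rule.ok (2 * 0) EX RL ⟨2 :: [2, 1, 6, 5, 8, 6, 4], [7], 19, false⟩) (lall (memL L) [2, 1, 6, 5, 8, 6, 4]) = true := by decide +kernel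

theorem rot2_13 : T.rot 2 [1, 6, 5, 8, 6, 4, 2] (sel (ones 7128) ip2 13) = true := by decide +kernel

theorem rot2_13r : band (Rule.ok (2 * 0) EX RL ⟨2 :: [1, 6, 5, 8, 6, 4, 2], [7, 3], 19, false⟩) (lall (memL L) [1, 6, 5, 8, 6, 4, 2]) = true := by decide +kernel

theorem rot2_14 : T.rot 2 [1, 8, 2, 1, 8, 2, 5, 4] (sel (ones 7128) ip2 14) = true := by decide +kernel

theorem rot2_14r : band (Rule.ok (2 * 0) EX RL ⟨2 :: [1, 8, 2, 1, 8, 2, 5, 4], [7], 22, false⟩) (lall (memL L) [1, 8, 2, 1, 8, 2, 5, 4]) = true := by decide +kernel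

theorem rot2_15 : T.rot 2 [1, 8, 2, 5, 4, 2, 1, 8] (sel (ones 7128) ip2 15) = true := by decide +kernel

theorem rot2_15r : band (Rule.ok (2 * 0) EX RL ⟨2 :: [1, 8, 2, 5, 4, 2, 1, 8], [7, 3, 1, 6], 22, false⟩) (lall (memL L) [1, 8, 2, 5, 4, 2, 1, 8]) = true := by decide +kernel

theorem rot2_16 : T.rot 2 [5, 4, 2, 1, 8, 2, 1, 8] (sel (ones 7128) ip2 16) = true := by decide +kernel

theorem rot2_16r : band (Rule.ok (2 * 0) EX RL ⟨2 :: [5, 4, 2, 1, 8, 2, 1, 8], [1, 2], 22, false⟩) (lall (memL L) [5, 4, 2, 1, 8, 2, 1, 8]) = true := by decide +kernel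

theorem rot2_17 : T.rot 2 [7, 1, 3, 6, 8, 6, 8, 6, 5] (sel (ones 7128) ip2 17) = true := by decide +kernel

theorem rot2_17r : band (Rule.ok (2 * 0) EX RL ⟨2 :: [7, 1, 3, 6, 8, 6, 8, 6, 5], [5, 2], 24, true⟩) (lall (memL L) [7, 1, 3, 6, 8, 6, 8, 6, 5]) = true := by decide +kernel

theorem rot2_18 : T.rot 2 [4, 2, 4, 2, 7, 5, 3, 6, 1] (sel (ones 7128) ip2 18) = true := by decide +kernel

theorem rot2_18r : band (Rule.ok (2 * 0) EX RL ⟨2 :: [4, 2, 4, 2, 7, 5, 3, 6, 1], [5, 2, 1], 24, false⟩) (lall (memL L) [4, 2, 4, 2, 7, 5, 3, 6, 1]) = true := by decide +kernel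

theorem rot2_19 : T.rot 2 [4, 2, 7, 5, 3, 6, 1, 2, 4] (sel (ones 7128) ip2 19) = true := by decide +kernel

theorem rot2_19r : band (Rule.ok (2 * 0) EX RL ⟨2 :: [4, 2, 7, 5, 3, 6, 1, 2, 4], [1, 5, 2, 6, 2], 24, false⟩) (lall (memL L) [4, 2, 7, 5, 3, 6, 1, 2, 4]) = true := by decide +kernel

theorem rot2_20 : T.rot 2 [7, 5, 3, 6, 1, 2, 4, 2, 4] (sel (ones 7128) ip2 20) = true := by decide +kernel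

theorem rot2_20r : band (Rule.ok (2 * 0) EX RL ⟨2 :: [7, 5, 3, 6, 1, 2, 4, 2, 4], [1, 5, 2], 24, false⟩) (lall (memL L) [7, 5, 3, 6, 1, 2, 4, 2, 4]) = true := by decide +kernel

theorem rot2_21 : T.rot 2 [8, 2, 1, 8, 6, 5, 8, 7, 1, 3] (sel (ones 7128) ip2 21) = true := by decide +kernel

theorem rot2_21r : band (Rule.ok (2 * 0) EX RL ⟨2 :: [8, 2, 1, 8, 6, 5, 8, 7, 1, 3], [1, 5], 21, true⟩) (lall (memL L) [8, 2, 1, 8, 6, 5, 8, 7, 1, 3]) = true := by decide +kernel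

theorem rot2_22 : T.rot 2 [1, 8, 6, 5, 8, 7, 1, 3, 2, 8] (sel (ones 7128) ip2 22) = true := by decide +kernel

theorem rot2_22r : band (Rule.ok (2 * 0) EX RL ⟨2 :: [1, 8, 6, 5, 8, 7, 1, 3, 2, 8], [1, 5, 3, 6], 21, true⟩) (lall (memL L) [1, 8, 6, 5, 8, 7, 1, 3, 2, 8]) = true := by decide +kernel

theorem rot2_23 : T.rot 2 [4, 5, 6, 4, 6, 7, 5, 3, 4, 1] (sel (ones 7128) ip2 23) = true := by decide +kernel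

theorem rot2_23r : band (Rule.ok (2 * 0) EX RL ⟨2 :: [4, 5, 6, 4, 6, 7, 5, 3, 4, 1], [5, 7, 1], 21, false⟩) (lall (memL L) [4, 5, 6, 4, 6, 7, 5, 3, 4, 1]) = true := by decide +kernel

theorem rot2_24 : T.rot 2 [7, 7, 2, 7, 7, 6, 7, 7, 6, 7, 7] (sel (ones 7128) ip2 24) = true := by decide +kernel

theorem rot2_24r : band (Rule.ok (2 * 0) EX RL ⟨2 :: [7, 7, 2, 7, 7, 6, 7, 7, 6, 7, 7], [4, 4], 4, true⟩) (lall (memL L) [7, 7, 2, 7, 7, 6, 7, 7, 6, 7, 7]) = true := by decide +kernel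

theorem rot2_25 : T.rot 2 [7, 7, 6, 7, 7, 6, 7, 7, 2, 7, 7] (sel (ones 7128) ip2 25) = true := by decide +kernel

theorem rot2_25r : band (Rule.ok (2 * 0) EX RL ⟨2 :: [7, 7, 6, 7, 7, 6, 7, 7, 2, 7, 7], [4, 4, 3, 4, 4], 4, true⟩) (lall (memL L) [7, 7, 6, 7, 7, 6, 7, 7, 2, 7, 7]) = true := by decide +kernel

theorem rot2_26 : T.rot 2 [3, 3, 2, 3, 3, 6, 3, 3, 6, 3, 3] (sel (ones 7128) ip2 26) = true := by decide +kernel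

theorem rot2_26r : band (Rule.ok (2 * 0) EX RL ⟨2 :: [3, 3, 2, 3, 3, 6, 3, 3, 6, 3, 3], [], 4, false⟩) (lall (memL L) [3, 3, 2, 3, 3, 6, 3, 3, 6, 3, 3]) = true := by decide +kernel

theorem rot2_27 : T.rot 2 [3, 3, 6, 3, 3, 6, 3, 3, 2, 3, 3] (sel (ones 7128) ip2 27) = true := by decide +kernel

theorem rot2_27r : band (Rule.ok (2 * 0) EX RL ⟨2 :: [3, 3, 6, 3, 3, 6, 3, 3, 2, 3, 3], [3, 5, 5], 4, false⟩) (lall (memL L) [3, 3, 6, 3, 3, 6, 3, 3, 2, 3, 3]) = true := by decide +kernel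

theorem rot2_28 : T.rot 2 [7, 6, 3, 2, 7, 6, 3, 2, 7, 6, 3] (sel (ones 7128) ip2 28) = true := by decide +kernel

theorem rot2_28r : band (Rule.ok (2 * 0) EX RL ⟨2 :: [7, 6, 3, 2, 7, 6, 3, 2, 7, 6, 3], [5], 9, true⟩) (lall (memL L) [7, 6, 3, 2, 7, 6, 3, 2, 7, 6, 3]) = true := by decide +kernel

theorem rot2_29 : T.rot 2 [3, 6, 7, 2, 3, 6, 7, 2, 3, 6, 7] (sel (ones 7128) ip2 29) = true := by decide +kernel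

theorem rot2_29r : band (Rule.ok (2 * 0) EX RL ⟨2 :: [3, 6, 7, 2, 3, 6, 7, 2, 3, 6, 7], [], 9, false⟩) (lall (memL L) [3, 6, 7, 2, 3, 6, 7, 2, 3, 6, 7]) = true := by decide +kernel

theorem rot2_30 : T.rot 2 [1, 4, 2, 2, 1, 4, 6, 7, 1, 3, 4] (sel (ones 7128) ip2 30) = true := by decide +kernel

theorem rot2_30r : band (Rule.ok (2 * 0) EX RL ⟨2 :: [1, 4, 2, 2, 1, 4, 6, 7, 1, 3, 4], [1, 5, 7], 23, true⟩) (lall (memL L) [1, 4, 2, 2, 1, 4, 6, 7, 1, 3, 4]) = true := by decide +kernel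

theorem rot2_31 : T.rot 2 [2, 1, 4, 6, 7, 1, 3, 4, 2, 1, 4] (sel (ones 7128) ip2 31) = true := by decide +kernel

theorem rot2_31r : band (Rule.ok (2 * 0) EX RL ⟨2 :: [2, 1, 4, 6, 7, 1, 3, 4, 2, 1, 4], [5, 3, 6, 0, 2, 2], 23, true⟩) (lall (memL L) [2, 1, 4, 6, 7, 1, 3, 4, 2, 1, 4]) = true := by decide +kernel

theorem rot2_32 : T.rot 2 [1, 4, 6, 7, 1, 3, 4, 2, 1, 4, 2] (sel (ones 7128) ip2 32) = true := by decide +kernel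

theorem rot2_32r : band (Rule.ok (2 * 0) EX RL ⟨2 :: [1, 4, 6, 7, 1, 3, 4, 2, 1, 4, 2], [5, 3, 6, 0, 2], 23, true⟩) (lall (memL L) [1, 4, 6, 7, 1, 3, 4, 2, 1, 4, 2]) = true := by decide +kernel

theorem rot2_33 : T.rot 2 [8, 5, 6, 6, 8, 5, 6, 8, 7, 5, 3] (sel (ones 7128) ip2 33) = true := by decide +kernel

theorem rot2_33r : band (Rule.ok (2 * 0) EX RL ⟨2 :: [8, 5, 6, 6, 8, 5, 6, 8, 7, 5, 3], [5], 23, false⟩) (lall (memL L) [8, 5, 6, 6, 8, 5, 6, 8, 7, 5, 3]) = true := by decide +kernel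

theorem rot2_34 : T.rot 2 [1, 1, 4, 2, 4, 6, 1, 2, 7, 1, 3] (sel (ones 7128) ip2 34) = true := by decide +kernel

theorem rot2_34r : band (Rule.ok (2 * 0) EX RL ⟨2 :: [1, 1, 4, 2, 4, 6, 1, 2, 7, 1, 3], [1, 5], 25, true⟩) (lall (memL L) [1, 1, 4, 2, 4, 6, 1, 2, 7, 1, 3]) = true := by decide +kernel

theorem rot2_35 : T.rot 2 [4, 6, 1, 2, 7, 1, 3, 2, 1, 1, 4] (sel (ones 7128) ip2 35) = true := by decide +kernel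

theorem rot2_35r : band (Rule.ok (2 * 0) EX RL ⟨2 :: [4, 6, 1, 2, 7, 1, 3, 2, 1, 1, 4], [5, 2, 0, 3, 6, 2], 25, true⟩) (lall (memL L) [4, 6, 1, 2, 7, 1, 3, 2, 1, 1, 4]) = true := by decide +kernel

theorem rot2_36 : T.rot 2 [7, 1, 3, 2, 1, 1, 4, 2, 4, 6, 1] (sel (ones 7128) ip2 36) = true := by decide +kernel

theorem rot2_36r : band (Rule.ok (2 * 0) EX RL ⟨2 :: [7, 1, 3, 2, 1, 1, 4, 2, 4, 6, 1], [5, 2], 25, true⟩) (lall (memL L) [7, 1, 3, 2, 1, 1, 4, 2, 4, 6, 1]) = true := by decide +kernel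

theorem rot2_37 : T.rot 2 [8, 6, 8, 5, 5, 6, 7, 5, 3, 6, 5] (sel (ones 7128) ip2 37) = true := by decide +kernel

theorem rot2_37r : band (Rule.ok (2 * 0) EX RL ⟨2 :: [8, 6, 8, 5, 5, 6, 7, 5, 3, 6, 5], [5, 2, 0], 25, false⟩) (lall (memL L) [8, 6, 8, 5, 5, 6, 7, 5, 3, 6, 5]) = true := by decide +kernel

theorem rot2_38 : T.rot 2 [2, 3, 6, 6, 3, 6, 7, 2, 1, 6, 7] (sel (ones 7128) ip2 38) = true := by decide +kernel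

theorem rot2_38r : band (Rule.ok (2 * 0) EX RL ⟨2 :: [2, 3, 6, 6, 3, 6, 7, 2, 1, 6, 7], [1, 2, 4], 26, true⟩) (lall (memL L) [2, 3, 6, 6, 3, 6, 7, 2, 1, 6, 7]) = true := by decide +kernel

theorem rot2_39 : T.rot 2 [3, 6, 6, 3, 6, 7, 2, 1, 6, 7, 2] (sel (ones 7128) ip2 39) = true := by decide +kernel

theorem rot2_39r : band (Rule.ok (2 * 0) EX RL ⟨2 :: [3, 6, 6, 3, 6, 7, 2, 1, 6, 7, 2], [1, 2, 4, 3], 26, true⟩) (lall (memL L) [3, 6, 6, 3, 6, 7, 2, 1, 6, 7, 2]) = true := by decide +kernel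

theorem rot2_40 : T.rot 2 [1, 6, 7, 2, 2, 3, 6, 6, 3, 6, 7] (sel (ones 7128) ip2 40) = true := by decide +kernel

theorem rot2_40r : band (Rule.ok (2 * 0) EX RL ⟨2 :: [1, 6, 7, 2, 2, 3, 6, 6, 3, 6, 7], [2], 26, true⟩) (lall (memL L) [1, 6, 7, 2, 2, 3, 6, 6, 3, 6, 7]) = true := by decide +kernel

theorem rot2_41 : T.rot 2 [7, 2, 2, 7, 6, 6, 3, 2, 5, 6, 3] (sel (ones 7128) ip2 41) = true := by decide +kernel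

theorem rot2_41r : band (Rule.ok (2 * 0) EX RL ⟨2 :: [7, 2, 2, 7, 6, 6, 3, 2, 5, 6, 3], [2, 5], 26, false⟩) (lall (memL L) [7, 2, 2, 7, 6, 6, 3, 2, 5, 6, 3]) = true := by decide +kernel

theorem rot2_42 : T.rot 2 [2, 7, 6, 6, 3, 2, 5, 6, 3, 2, 7] (sel (ones 7128) ip2 42) = true := by decide +kernel

theorem rot2_42r : band (Rule.ok (2 * 0) EX RL ⟨2 :: [2, 7, 6, 6, 3, 2, 5, 6, 3, 2, 7], [2, 5, 3, 4], 26, false⟩) (lall (memL L) [2, 7, 6, 6, 3, 2, 5, 6, 3, 2, 7]) = true := by decide +kernel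

theorem rot2_43 : T.rot 2 [7, 6, 6, 3, 2, 5, 6, 3, 2, 7, 2] (sel (ones 7128) ip2 43) = true := by decide +kernel

theorem rot2_43r : band (Rule.ok (2 * 0) EX RL ⟨2 :: [7, 6, 6, 3, 2, 5, 6, 3, 2, 7, 2], [2, 5, 3, 4, 3], 26, false⟩) (lall (memL L) [7, 6, 6, 3, 2, 5, 6, 3, 2, 7, 2]) = true := by decide +kernel

theorem rot2_44 : T.rot 2 [5, 6, 3, 2, 7, 2, 2, 7, 6, 6, 3] (sel (ones 7128) ip2 44) = true := by decide +kernel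

theorem rot2_44r : band (Rule.ok (2 * 0) EX RL ⟨2 :: [5, 6, 3, 2, 7, 2, 2, 7, 6, 6, 3], [1, 2], 26, false⟩) (lall (memL L) [5, 6, 3, 2, 7, 2, 2, 7, 6, 6, 3]) = true := by decide +kernel

theorem rot2_45 : T.rot 2 [7, 6, 1, 6, 3, 2, 4, 6, 4, 6, 7] (sel (ones 7128) ip2 45) = true := by decide +kernel

theorem rot2_45r : band (Rule.ok (2 * 0) EX RL ⟨2 :: [7, 6, 1, 6, 3, 2, 4, 6, 4, 6, 7], [7, 2, 4], 27, true⟩) (lall (memL L) [7, 6, 1, 6, 3, 2, 4, 6, 4, 6, 7]) = true := by decide +kernel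

theorem rot2_46 : T.rot 2 [4, 6, 4, 6, 7, 2, 7, 6, 1, 6, 3] (sel (ones 7128) ip2 46) = true := by decide +kernel

theorem rot2_46r : band (Rule.ok (2 * 0) EX RL ⟨2 :: [4, 6, 4, 6, 7, 2, 7, 6, 1, 6, 3], [3, 6, 2], 27, true⟩) (lall (memL L) [4, 6, 4, 6, 7, 2, 7, 6, 1, 6, 3]) = true := by decide +kernel

theorem rot2_47 : T.rot 2 [8, 6, 7, 2, 5, 2, 3, 6, 3, 2, 8] (sel (ones 7128) ip2 47) = true := by decide +kernel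

theorem rot2_47r : band (Rule.ok (2 * 0) EX RL ⟨2 :: [8, 6, 7, 2, 5, 2, 3, 6, 3, 2, 8], [], 27, false⟩) (lall (memL L) [8, 6, 7, 2, 5, 2, 3, 6, 3, 2, 8]) = true := by decide +kernel

theorem rot2_48 : T.rot 2 [5, 2, 3, 6, 3, 2, 8, 2, 8, 6, 7] (sel (ones 7128) ip2 48) = true := by decide +kernel

theorem rot2_48r : band (Rule.ok (2 * 0) EX RL ⟨2 :: [5, 2, 3, 6, 3, 2, 8, 2, 8, 6, 7], [3, 6, 2, 4], 27, false⟩) (lall (memL L) [5, 2, 3, 6, 3, 2, 8, 2, 8, 6, 7]) = true := by decide +kernel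

theorem rot2_49 : T.rot 2 [3, 6, 3, 2, 8, 2, 8, 6, 7, 2, 5] (sel (ones 7128) ip2 49) = true := by decide +kernel

theorem rot2_49r : band (Rule.ok (2 * 0) EX RL ⟨2 :: [3, 6, 3, 2, 8, 2, 8, 6, 7, 2, 5], [7, 2, 4, 3, 4, 2], 27, false⟩) (lall (memL L) [3, 6, 3, 2, 8, 2, 8, 6, 7, 2, 5]) = true := by decide +kernel

theorem rot2_50 : T.rot 2 [8, 2, 8, 6, 7, 2, 5, 2, 3, 6, 3] (sel (ones 7128) ip2 50) = true := by decide +kernel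

theorem rot2_50r : band (Rule.ok (2 * 0) EX RL ⟨2 :: [8, 2, 8, 6, 7, 2, 5, 2, 3, 6, 3], [7, 2], 27, false⟩) (lall (memL L) [8, 2, 8, 6, 7, 2, 5, 2, 3, 6, 3]) = true := by decide +kernel

theorem rot2_51 : T.rot 2 [3, 2, 2, 7, 2, 2, 3, 2, 7, 2, 2, 3, 3, 2, 3] (sel (ones 7128) ip2 51) = true := by decide +kernel

theorem rot2_51r : band (Rule.ok (2 * 0) EX RL ⟨2 :: [3, 2, 2, 7, 2, 2, 3, 2, 7, 2, 2, 3, 3, 2, 3], [5], 8, true⟩) (lall (memL L) [3, 2, 2, 7, 2, 2, 3, 2, 7, 2, 2, 3, 3, 2, 3]) = true := by decide +kernel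

theorem rot2_52 : T.rot 2 [2, 7, 2, 2, 3, 2, 7, 2, 2, 3, 3, 2, 3, 2, 3] (sel (ones 7128) ip2 52) = true := by decide +kernel

theorem rot2_52r : band (Rule.ok (2 * 0) EX RL ⟨2 :: [2, 7, 2, 2, 3, 2, 7, 2, 2, 3, 3, 2, 3, 2, 3], [5, 3, 5], 8, true⟩) (lall (memL L) [2, 7, 2, 2, 3, 2, 7, 2, 2, 3, 3, 2, 3, 2, 3]) = true := by decide +kernel

theorem rot2_53 : T.rot 2 [7, 2, 2, 3, 2, 7, 2, 2, 3, 3, 2, 3, 2, 3, 2] (sel (ones 7128) ip2 53) = true := by decide +kernel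

theorem rot2_53r : band (Rule.ok (2 * 0) EX RL ⟨2 :: [7, 2, 2, 3, 2, 7, 2, 2, 3, 3, 2, 3, 2, 3, 2], [5, 3, 5, 3], 8, true⟩) (lall (memL L) [7, 2, 2, 3, 2, 7, 2, 2, 3, 3, 2, 3, 2, 3, 2]) = true := by decide +kernel

theorem rot2_54 : T.rot 2 [2, 3, 2, 7, 2, 2, 3, 3, 2, 3, 2, 3, 2, 2, 7] (sel (ones 7128) ip2 54) = true := by decide +kernel

theorem rot2_54r : band (Rule.ok (2 * 0) EX RL ⟨2 :: [2, 3, 2, 7, 2, 2, 3, 3, 2, 3, 2, 3, 2, 2, 7], [5, 3, 5, 3, 3, 4], 8, true⟩) (lall (memL L) [2, 3, 2, 7, 2, 2, 3, 3, 2, 3, 2, 3, 2, 2, 7]) = true := by decide +kernel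

theorem rot2_55 : T.rot 2 [3, 2, 7, 2, 2, 3, 3, 2, 3, 2, 3, 2, 2, 7, 2] (sel (ones 7128) ip2 55) = true := by decide +kernel

theorem rot2_55r : band (Rule.ok (2 * 0) EX RL ⟨2 :: [3, 2, 7, 2, 2, 3, 3, 2, 3, 2, 3, 2, 2, 7, 2], [5, 3, 5, 3, 3, 4, 3], 8, true⟩) (lall (memL L) [3, 2, 7, 2, 2, 3, 3, 2, 3, 2, 3, 2, 2, 7, 2]) = true := by decide +kernel

theorem rot2_56 : T.rot 2 [7, 2, 2, 3, 3, 2, 3, 2, 3, 2, 2, 7, 2, 2, 3] (sel (ones 7128) ip2 56) = true := by decide +kernel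

theorem rot2_56r : band (Rule.ok (2 * 0) EX RL ⟨2 :: [7, 2, 2, 3, 3, 2, 3, 2, 3, 2, 2, 7, 2, 2, 3], [2, 4, 4, 2, 2, 5, 2], 8, true⟩) (lall (memL L) [7, 2, 2, 3, 3, 2, 3, 2, 3, 2, 2, 7, 2, 2, 3]) = true := by decide +kernel

theorem rot2_57 : T.rot 2 [2, 3, 3, 2, 3, 2, 3, 2, 2, 7, 2, 2, 3, 2, 7] (sel (ones 7128) ip2 57) = true := by decide +kernel

theorem rot2_57r : band (Rule.ok (2 * 0) EX RL ⟨2 :: [2, 3, 3, 2, 3, 2, 3, 2, 2, 7, 2, 2, 3, 2, 7], [2, 4, 4, 2, 2], 8, true⟩) (lall (memL L) [2, 3, 3, 2, 3, 2, 3, 2, 2, 7, 2, 2, 3, 2, 7]) = true := by decide +kernel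

theorem rot2_58 : T.rot 2 [3, 3, 2, 3, 2, 3, 2, 2, 7, 2, 2, 3, 2, 7, 2] (sel (ones 7128) ip2 58) = true := by decide +kernel

theorem rot2_58r : band (Rule.ok (2 * 0) EX RL ⟨2 :: [3, 3, 2, 3, 2, 3, 2, 2, 7, 2, 2, 3, 2, 7, 2], [2, 4, 4, 2], 8, true⟩) (lall (memL L) [3, 3, 2, 3, 2, 3, 2, 2, 7, 2, 2, 3, 2, 7, 2]) = true := by decide +kernel

theorem rot2_59 : T.rot 2 [3, 2, 3, 2, 2, 7, 2, 2, 3, 2, 7, 2, 2, 3, 3] (sel (ones 7128) ip2 59) = true := by decide +kernel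

theorem rot2_59r : band (Rule.ok (2 * 0) EX RL ⟨2 :: [3, 2, 3, 2, 2, 7, 2, 2, 3, 2, 7, 2, 2, 3, 3], [2], 8, true⟩) (lall (memL L) [3, 2, 3, 2, 2, 7, 2, 2, 3, 2, 7, 2, 2, 3, 3]) = true := by decide +kernel

theorem rot2_60 : T.rot 2 [8, 2, 7, 4, 2, 1, 2, 7, 8, 7, 2, 2, 7, 2, 2, 4, 1, 3] (sel (ones 7128) ip2 60) = true := by decide +kernel

theorem rot2_60r : band (Rule.ok (2 * 0) EX RL ⟨2 :: [8, 2, 7, 4, 2, 1, 2, 7, 8, 7, 2, 2, 7, 2, 2, 4, 1, 3], [7, 1, 5], 28, true⟩) (lall (memL L) [8, 2, 7, 4, 2, 1, 2, 7, 8, 7, 2, 2, 7, 2, 2, 4, 1, 3]) = true := by decide +kernel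

theorem rot2_61 : T.rot 2 [7, 4, 2, 1, 2, 7, 8, 7, 2, 2, 7, 2, 2, 4, 1, 3, 2, 8] (sel (ones 7128) ip2 61) = true := by decide +kernel

theorem rot2_61r : band (Rule.ok (2 * 0) EX RL ⟨2 :: [7, 4, 2, 1, 2, 7, 8, 7, 2, 2, 7, 2, 2, 4, 1, 3, 2, 8], [7, 1, 5, 3, 6], 28, true⟩) (lall (memL L) [7, 4, 2, 1, 2, 7, 8, 7, 2, 2, 7, 2, 2, 4, 1, 3, 2, 8]) = true := by decide +kernel

theorem rot2_62 : T.rot 2 [1, 2, 7, 8, 7, 2, 2, 7, 2, 2, 4, 1, 3, 2, 8, 2, 7, 4] (sel (ones 7128) ip2 62) = true := by decide +kernel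

theorem rot2_62r : band (Rule.ok (2 * 0) EX RL ⟨2 :: [1, 2, 7, 8, 7, 2, 2, 7, 2, 2, 4, 1, 3, 2, 8, 2, 7, 4], [7, 1, 5, 3, 6, 3, 4, 7], 28, true⟩) (lall (memL L) [1, 2, 7, 8, 7, 2, 2, 7, 2, 2, 4, 1, 3, 2, 8, 2, 7, 4]) = true := by decide +kernel

theorem rot2_63 : T.rot 2 [7, 8, 7, 2, 2, 7, 2, 2, 4, 1, 3, 2, 8, 2, 7, 4, 2, 1] (sel (ones 7128) ip2 63) = true := by decide +kernel

theorem rot2_63r : band (Rule.ok (2 * 0) EX RL ⟨2 :: [7, 8, 7, 2, 2, 7, 2, 2, 4, 1, 3, 2, 8, 2, 7, 4, 2, 1], [2, 2, 5, 2, 2, 5, 7, 5, 2], 28, true⟩) (lall (memL L) [7, 8, 7, 2, 2, 7, 2, 2, 4, 1, 3, 2, 8, 2, 7, 4, 2, 1]) = true := by decide +kernel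

theorem rot2_64 : T.rot 2 [2, 7, 2, 2, 4, 1, 3, 2, 8, 2, 7, 4, 2, 1, 2, 7, 8, 7] (sel (ones 7128) ip2 64) = true := by decide +kernel

theorem rot2_64r : band (Rule.ok (2 * 0) EX RL ⟨2 :: [2, 7, 2, 2, 4, 1, 3, 2, 8, 2, 7, 4, 2, 1, 2, 7, 8, 7], [2, 2, 5, 2, 2], 28, true⟩) (lall (memL L) [2, 7, 2, 2, 4, 1, 3, 2, 8, 2, 7, 4, 2, 1, 2, 7, 8, 7]) = true := by decide +kernel

theorem rot2_65 : T.rot 2 [7, 2, 2, 4, 1, 3, 2, 8, 2, 7, 4, 2, 1, 2, 7, 8, 7, 2] (sel (ones 7128) ip2 65) = true := by decide +kernel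

theorem rot2_65r : band (Rule.ok (2 * 0) EX RL ⟨2 :: [7, 2, 2, 4, 1, 3, 2, 8, 2, 7, 4, 2, 1, 2, 7, 8, 7, 2], [2, 2, 5, 2], 28, true⟩) (lall (memL L) [7, 2, 2, 4, 1, 3, 2, 8, 2, 7, 4, 2, 1, 2, 7, 8, 7, 2]) = true := by decide +kernel

theorem rot2_66 : T.rot 2 [2, 4, 1, 3, 2, 8, 2, 7, 4, 2, 1, 2, 7, 8, 7, 2, 2, 7] (sel (ones 7128) ip2 66) = true := by decide +kernel

theorem rot2_66r : band (Rule.ok (2 * 0) EX RL ⟨2 :: [2, 4, 1, 3, 2, 8, 2, 7, 4, 2, 1, 2, 7, 8, 7, 2, 2, 7], [2, 2], 28, true⟩) (lall (memL L) [2, 4, 1, 3, 2, 8, 2, 7, 4, 2, 1, 2, 7, 8, 7, 2, 2, 7]) = true := by decide +kernel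

theorem rot2_67 : T.rot 2 [4, 1, 3, 2, 8, 2, 7, 4, 2, 1, 2, 7, 8, 7, 2, 2, 7, 2] (sel (ones 7128) ip2 67) = true := by decide +kernel

theorem rot2_67r : band (Rule.ok (2 * 0) EX RL ⟨2 :: [4, 1, 3, 2, 8, 2, 7, 4, 2, 1, 2, 7, 8, 7, 2, 2, 7, 2], [2], 28, true⟩) (lall (memL L) [4, 1, 3, 2, 8, 2, 7, 4, 2, 1, 2, 7, 8, 7, 2, 2, 7, 2]) = true := by decide +kernel

theorem rot2_68 : T.rot 2 [2, 7, 6, 3, 6, 3, 2, 7, 3, 6, 3, 2, 2, 7, 6, 3, 6, 6, 7, 3, 2, 3, 3] (sel (ones 7128) ip2 68) = true := by decide +kernel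

theorem rot2_68r : band (Rule.ok (2 * 0) EX RL ⟨2 :: [2, 7, 6, 3, 6, 3, 2, 7, 3, 6, 3, 2, 2, 7, 6, 3, 6, 6, 7, 3, 2, 3, 3], [5, 3, 5, 5], 7, true⟩) (lall (memL L) [2, 7, 6, 3, 6, 3, 2, 7, 3, 6, 3, 2, 2, 7, 6, 3, 6, 6, 7, 3, 2, 3, 3]) = true := by decide +kernel

theorem rot2_69 : T.rot 2 [7, 6, 3, 6, 3, 2, 7, 3, 6, 3, 2, 2, 7, 6, 3, 6, 6, 7, 3, 2, 3, 3, 2] (sel (ones 7128) ip2 69) = true := by decide +kernel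

theorem rot2_69r : band (Rule.ok (2 * 0) EX RL ⟨2 :: [7, 6, 3, 6, 3, 2, 7, 3, 6, 3, 2, 2, 7, 6, 3, 6, 6, 7, 3, 2, 3, 3, 2], [5, 3, 5, 5, 3], 7, true⟩) (lall (memL L) [7, 6, 3, 6, 3, 2, 7, 3, 6, 3, 2, 2, 7, 6, 3, 6, 6, 7, 3, 2, 3, 3, 2]) = true := by decide +kernel

theorem rot2_70 : T.rot 2 [2, 7, 6, 3, 6, 6, 7, 3, 2, 3, 3, 2, 2, 7, 6, 3, 6, 3, 2, 7, 3, 6, 3] (sel (ones 7128) ip2 70) = true := by decide +kernel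

theorem rot2_70r : band (Rule.ok (2 * 0) EX RL ⟨2 :: [2, 7, 6, 3, 6, 6, 7, 3, 2, 3, 3, 2, 2, 7, 6, 3, 6, 3, 2, 7, 3, 6, 3], [5, 3, 5, 5], 7, true⟩) (lall (memL L) [2, 7, 6, 3, 6, 6, 7, 3, 2, 3, 3, 2, 2, 7, 6, 3, 6, 3, 2, 7, 3, 6, 3]) = true := by decide +kernel

theorem rot2_71 : T.rot 2 [7, 6, 3, 6, 6, 7, 3, 2, 3, 3, 2, 2, 7, 6, 3, 6, 3, 2, 7, 3, 6, 3, 2] (sel (ones 7128) ip2 71) = true := by decide +kernel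

theorem rot2_71r : band (Rule.ok (2 * 0) EX RL ⟨2 :: [7, 6, 3, 6, 6, 7, 3, 2, 3, 3, 2, 2, 7, 6, 3, 6, 3, 2, 7, 3, 6, 3, 2], [5, 3, 5, 5, 3], 7, true⟩) (lall (memL L) [7, 6, 3, 6, 6, 7, 3, 2, 3, 3, 2, 2, 7, 6, 3, 6, 3, 2, 7, 3, 6, 3, 2]) = true := by decide +kernel

theorem rot2_72 : T.rot 2 [7, 2, 3, 6, 6, 7, 2, 7, 3, 6, 7, 2, 7, 2, 3, 6, 6, 7, 7, 6, 7, 3, 2] (sel (ones 7128) ip2 72) = true := by decide +kernel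

theorem rot2_72r : band (Rule.ok (2 * 0) EX RL ⟨2 :: [7, 2, 3, 6, 6, 7, 2, 7, 3, 6, 7, 2, 7, 2, 3, 6, 6, 7, 7, 6, 7, 3, 2], [5, 3], 7, false⟩) (lall (memL L) [7, 2, 3, 6, 6, 7, 2, 7, 3, 6, 7, 2, 7, 2, 3, 6, 6, 7, 7, 6, 7, 3, 2]) = true := by decide +kernel

theorem rot2_73 : T.rot 2 [3, 6, 6, 7, 2, 7, 3, 6, 7, 2, 7, 2, 3, 6, 6, 7, 7, 6, 7, 3, 2, 2, 7] (sel (ones 7128) ip2 73) = true := by decide +kernel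

theorem rot2_73r : band (Rule.ok (2 * 0) EX RL ⟨2 :: [3, 6, 6, 7, 2, 7, 3, 6, 7, 2, 7, 2, 3, 6, 6, 7, 7, 6, 7, 3, 2, 2, 7], [5, 3, 3, 4], 7, false⟩) (lall (memL L) [3, 6, 6, 7, 2, 7, 3, 6, 7, 2, 7, 2, 3, 6, 6, 7, 7, 6, 7, 3, 2, 2, 7]) = true := by decide +kernel

theorem rot2_74 : T.rot 2 [7, 2, 3, 6, 6, 7, 7, 6, 7, 3, 2, 2, 7, 2, 3, 6, 6, 7, 2, 7, 3, 6, 7] (sel (ones 7128) ip2 74) = true := by decide +kernel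

theorem rot2_74r : band (Rule.ok (2 * 0) EX RL ⟨2 :: [7, 2, 3, 6, 6, 7, 7, 6, 7, 3, 2, 2, 7, 2, 3, 6, 6, 7, 2, 7, 3, 6, 7], [5, 3], 7, false⟩) (lall (memL L) [7, 2, 3, 6, 6, 7, 7, 6, 7, 3, 2, 2, 7, 2, 3, 6, 6, 7, 2, 7, 3, 6, 7]) = true := by decide +kernel

theorem rot2_75 : T.rot 2 [3, 6, 6, 7, 7, 6, 7, 3, 2, 2, 7, 2, 3, 6, 6, 7, 2, 7, 3, 6, 7, 2, 7] (sel (ones 7128) ip2 75) = true := by decide +kernel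

theorem rot2_75r : band (Rule.ok (2 * 0) EX RL ⟨2 :: [3, 6, 6, 7, 7, 6, 7, 3, 2, 2, 7, 2, 3, 6, 6, 7, 2, 7, 3, 6, 7, 2, 7], [5, 3, 3, 4], 7, false⟩) (lall (memL L) [3, 6, 6, 7, 7, 6, 7, 3, 2, 2, 7, 2, 3, 6, 6, 7, 2, 7, 3, 6, 7, 2, 7]) = true := by decide +kernel

theorem rot2_76 : T.rot 2 [2, 7, 7, 3, 6, 3, 2, 2, 7, 6, 3, 6, 6, 7, 2, 3, 2, 2, 7, 2, 3, 6, 6, 7, 2, 7, 7, 7] (sel (ones 7128) ip2 76) = true := by decide +kernel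

theorem rot2_76r : band (Rule.ok (2 * 0) EX RL ⟨2 :: [2, 7, 7, 3, 6, 3, 2, 2, 7, 6, 3, 6, 6, 7, 2, 3, 2, 2, 7, 2, 3, 6, 6, 7, 2, 7, 7, 7], [4, 4], 1, true⟩) (lall (memL L) [2, 7, 7, 3, 6, 3, 2, 2, 7, 6, 3, 6, 6, 7, 2, 3, 2, 2, 7, 2, 3, 6, 6, 7, 2, 7, 7, 7]) = true := by decide +kernel

theorem rot2_77 : T.rot 2 [7, 7, 3, 6, 3, 2, 2, 7, 6, 3, 6, 6, 7, 2, 3, 2, 2, 7, 2, 3, 6, 6, 7, 2, 7, 7, 7, 2] (sel (ones 7128) ip2 77) = true := by decide +kernel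

theorem rot2_77r : band (Rule.ok (2 * 0) EX RL ⟨2 :: [7, 7, 3, 6, 3, 2, 2, 7, 6, 3, 6, 6, 7, 2, 3, 2, 2, 7, 2, 3, 6, 6, 7, 2, 7, 7, 7, 2], [4, 4, 3], 1, true⟩) (lall (memL L) [7, 7, 3, 6, 3, 2, 2, 7, 6, 3, 6, 6, 7, 2, 3, 2, 2, 7, 2, 3, 6, 6, 7, 2, 7, 7, 7, 2]) = true := by decide +kernel

theorem rot2_78 : T.rot 2 [2, 7, 6, 3, 6, 6, 7, 2, 3, 2, 2, 7, 2, 3, 6, 6, 7, 2, 7, 7, 7, 2, 2, 7, 7, 3, 6, 3] (sel (ones 7128) ip2 78) = true := by decide +kernel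

theorem rot2_78r : band (Rule.ok (2 * 0) EX RL ⟨2 :: [2, 7, 6, 3, 6, 6, 7, 2, 3, 2, 2, 7, 2, 3, 6, 6, 7, 2, 7, 7, 7, 2, 2, 7, 7, 3, 6, 3], [4, 4, 3, 3, 4, 2, 5], 1, true⟩) (lall (memL L) [2, 7, 6, 3, 6, 6, 7, 2, 3, 2, 2, 7, 2, 3, 6, 6, 7, 2, 7, 7, 7, 2, 2, 7, 7, 3, 6, 3]) = true := by decide +kernel

theorem rot2_79 : T.rot 2 [7, 6, 3, 6, 6, 7, 2, 3, 2, 2, 7, 2, 3, 6, 6, 7, 2, 7, 7, 7, 2, 2, 7, 7, 3, 6, 3, 2] (sel (ones 7128) ip2 79) = true := by decide +kernel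

theorem rot2_79r : band (Rule.ok (2 * 0) EX RL ⟨2 :: [7, 6, 3, 6, 6, 7, 2, 3, 2, 2, 7, 2, 3, 6, 6, 7, 2, 7, 7, 7, 2, 2, 7, 7, 3, 6, 3, 2], [4, 4, 3, 3, 4, 2, 5, 3], 1, true⟩) (lall (memL L) [7, 6, 3, 6, 6, 7, 2, 3, 2, 2, 7, 2, 3, 6, 6, 7, 2, 7, 7, 7, 2, 2, 7, 7, 3, 6, 3, 2]) = true := by decide +kernel

theorem rot2_80 : T.rot 2 [3, 2, 2, 7, 2, 3, 6, 6, 7, 2, 7, 7, 7, 2, 2, 7, 7, 3, 6, 3, 2, 2, 7, 6, 3, 6, 6, 7] (sel (ones 7128) ip2 80) = true := by decide +kernel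

theorem rot2_80r : band (Rule.ok (2 * 0) EX RL ⟨2 :: [3, 2, 2, 7, 2, 3, 6, 6, 7, 2, 7, 7, 7, 2, 2, 7, 7, 3, 6, 3, 2, 2, 7, 6, 3, 6, 6, 7], [5, 2, 5, 3, 3, 4, 2, 5, 2, 2, 4, 2], 1, true⟩) (lall (memL L) [3, 2, 2, 7, 2, 3, 6, 6, 7, 2, 7, 7, 7, 2, 2, 7, 7, 3, 6, 3, 2, 2, 7, 6, 3, 6, 6, 7]) = true := by decide +kernel

theorem rot2_81 : T.rot 2 [2, 7, 2, 3, 6, 6, 7, 2, 7, 7, 7, 2, 2, 7, 7, 3, 6, 3, 2, 2, 7, 6, 3, 6, 6, 7, 2, 3] (sel (ones 7128) ip2 81) = true := by decide +kernel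

theorem rot2_81r : band (Rule.ok (2 * 0) EX RL ⟨2 :: [2, 7, 2, 3, 6, 6, 7, 2, 7, 7, 7, 2, 2, 7, 7, 3, 6, 3, 2, 2, 7, 6, 3, 6, 6, 7, 2, 3], [5, 2, 5, 3, 3, 4, 2, 5, 2, 2], 1, true⟩) (lall (memL L) [2, 7, 2, 3, 6, 6, 7, 2, 7, 7, 7, 2, 2, 7, 7, 3, 6, 3, 2, 2, 7, 6, 3, 6, 6, 7, 2, 3]) = true := by decide +kernel

theorem rot2_82 : T.rot 2 [7, 2, 3, 6, 6, 7, 2, 7, 7, 7, 2, 2, 7, 7, 3, 6, 3, 2, 2, 7, 6, 3, 6, 6, 7, 2, 3, 2] (sel (ones 7128) ip2 82) = true := by decide +kernel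

theorem rot2_82r : band (Rule.ok (2 * 0) EX RL ⟨2 :: [7, 2, 3, 6, 6, 7, 2, 7, 7, 7, 2, 2, 7, 7, 3, 6, 3, 2, 2, 7, 6, 3, 6, 6, 7, 2, 3, 2], [5, 2, 5, 3, 3, 4, 2, 5, 2], 1, true⟩) (lall (memL L) [7, 2, 3, 6, 6, 7, 2, 7, 7, 7, 2, 2, 7, 7, 3, 6, 3, 2, 2, 7, 6, 3, 6, 6, 7, 2, 3, 2]) = true := by decide +kernel

theorem rot2_83 : T.rot 2 [3, 6, 6, 7, 2, 7, 7, 7, 2, 2, 7, 7, 3, 6, 3, 2, 2, 7, 6, 3, 6, 6, 7, 2, 3, 2, 2, 7] (sel (ones 7128) ip2 83) = true := by decide +kernel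

theorem rot2_83r : band (Rule.ok (2 * 0) EX RL ⟨2 :: [3, 6, 6, 7, 2, 7, 7, 7, 2, 2, 7, 7, 3, 6, 3, 2, 2, 7, 6, 3, 6, 6, 7, 2, 3, 2, 2, 7], [5, 2, 5, 3, 3, 4, 2], 1, true⟩) (lall (memL L) [3, 6, 6, 7, 2, 7, 7, 7, 2, 2, 7, 7, 3, 6, 3, 2, 2, 7, 6, 3, 6, 6, 7, 2, 3, 2, 2, 7]) = true := by decide +kernel

theorem rot2_84 : T.rot 2 [7, 7, 7, 2, 2, 7, 7, 3, 6, 3, 2, 2, 7, 6, 3, 6, 6, 7, 2, 3, 2, 2, 7, 2, 3, 6, 6, 7] (sel (ones 7128) ip2 84) = true := by decide +kernel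

theorem rot2_84r : band (Rule.ok (2 * 0) EX RL ⟨2 :: [7, 7, 7, 2, 2, 7, 7, 3, 6, 3, 2, 2, 7, 6, 3, 6, 6, 7, 2, 3, 2, 2, 7, 2, 3, 6, 6, 7], [5, 2], 1, true⟩) (lall (memL L) [7, 7, 7, 2, 2, 7, 7, 3, 6, 3, 2, 2, 7, 6, 3, 6, 6, 7, 2, 3, 2, 2, 7, 2, 3, 6, 6, 7]) = true := by decide +kernel

theorem rot2_85 : T.rot 2 [2, 7, 6, 3, 6, 6, 7, 6, 3, 2, 2, 7, 2, 3, 6, 6, 7, 2, 7, 3, 3, 6, 6, 3, 3, 3, 6, 3] (sel (ones 7128) ip2 85) = true := by decide +kernel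

theorem rot2_85r : band (Rule.ok (2 * 0) EX RL ⟨2 :: [2, 7, 6, 3, 6, 6, 7, 6, 3, 2, 2, 7, 2, 3, 6, 6, 7, 2, 7, 3, 3, 6, 6, 3, 3, 3, 6, 3], [5, 2, 5], 1, false⟩) (lall (memL L) [2, 7, 6, 3, 6, 6, 7, 6, 3, 2, 2, 7, 2, 3, 6, 6, 7, 2, 7, 3, 3, 6, 6, 3, 3, 3, 6, 3]) = true := by decide +kernel

theorem rot2_86 : T.rot 2 [7, 6, 3, 6, 6, 7, 6, 3, 2, 2, 7, 2, 3, 6, 6, 7, 2, 7, 3, 3, 6, 6, 3, 3, 3, 6, 3, 2] (sel (ones 7128) ip2 86) = true := by decide +kernel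

theorem rot2_86r : band (Rule.ok (2 * 0) EX RL ⟨2 :: [7, 6, 3, 6, 6, 7, 6, 3, 2, 2, 7, 2, 3, 6, 6, 7, 2, 7, 3, 3, 6, 6, 3, 3, 3, 6, 3, 2], [5, 2, 5, 3], 1, false⟩) (lall (memL L) [7, 6, 3, 6, 6, 7, 6, 3, 2, 2, 7, 2, 3, 6, 6, 7, 2, 7, 3, 3, 6, 6, 3, 3, 3, 6, 3, 2]) = true := by decide +kernel

theorem rot2_87 : T.rot 2 [2, 7, 2, 3, 6, 6, 7, 2, 7, 3, 3, 6, 6, 3, 3, 3, 6, 3, 2, 2, 7, 6, 3, 6, 6, 7, 6, 3] (sel (ones 7128) ip2 87) = true := by decide +kernel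

theorem rot2_87r : band (Rule.ok (2 * 0) EX RL ⟨2 :: [2, 7, 2, 3, 6, 6, 7, 2, 7, 3, 3, 6, 6, 3, 3, 3, 6, 3, 2, 2, 7, 6, 3, 6, 6, 7, 6, 3], [5, 2, 5, 3, 3, 4, 2, 5, 2, 2, 4, 2, 5], 1, false⟩) (lall (memL L) [2, 7, 2, 3, 6, 6, 7, 2, 7, 3, 3, 6, 6, 3, 3, 3, 6, 3, 2, 2, 7, 6, 3, 6, 6, 7, 6, 3]) = true := by decide +kernel

theorem rot2_88 : T.rot 2 [7, 2, 3, 6, 6, 7, 2, 7, 3, 3, 6, 6, 3, 3, 3, 6, 3, 2, 2, 7, 6, 3, 6, 6, 7, 6, 3, 2] (sel (ones 7128) ip2 88) = true := by decide +kernel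

theorem rot2_88r : band (Rule.ok (2 * 0) EX RL ⟨2 :: [7, 2, 3, 6, 6, 7, 2, 7, 3, 3, 6, 6, 3, 3, 3, 6, 3, 2, 2, 7, 6, 3, 6, 6, 7, 6, 3, 2], [4, 4, 3, 3, 4, 2, 5, 3, 3, 4, 2, 5, 2], 1, false⟩) (lall (memL L) [7, 2, 3, 6, 6, 7, 2, 7, 3, 3, 6, 6, 3, 3, 3, 6, 3, 2, 2, 7, 6, 3, 6, 6, 7, 6, 3, 2]) = true := by decide +kernel

theorem rot2_89 : T.rot 2 [3, 6, 6, 7, 2, 7, 3, 3, 6, 6, 3, 3, 3, 6, 3, 2, 2, 7, 6, 3, 6, 6, 7, 6, 3, 2, 2, 7] (sel (ones 7128) ip2 89) = true := by decide +kernel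

theorem rot2_89r : band (Rule.ok (2 * 0) EX RL ⟨2 :: [3, 6, 6, 7, 2, 7, 3, 3, 6, 6, 3, 3, 3, 6, 3, 2, 2, 7, 6, 3, 6, 6, 7, 6, 3, 2, 2, 7], [4, 4, 3, 3, 4, 2, 5, 3, 3, 4, 2], 1, false⟩) (lall (memL L) [3, 6, 6, 7, 2, 7, 3, 3, 6, 6, 3, 3, 3, 6, 3, 2, 2, 7, 6, 3, 6, 6, 7, 6, 3, 2, 2, 7]) = true := by decide +kernel

theorem rot2_90 : T.rot 2 [7, 3, 3, 6, 6, 3, 3, 3, 6, 3, 2, 2, 7, 6, 3, 6, 6, 7, 6, 3, 2, 2, 7, 2, 3, 6, 6, 7] (sel (ones 7128) ip2 90) = true := by decide +kernel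

theorem rot2_90r : band (Rule.ok (2 * 0) EX RL ⟨2 :: [7, 3, 3, 6, 6, 3, 3, 3, 6, 3, 2, 2, 7, 6, 3, 6, 6, 7, 6, 3, 2, 2, 7, 2, 3, 6, 6, 7], [4, 4, 3, 3, 4, 2], 1, false⟩) (lall (memL L) [7, 3, 3, 6, 6, 3, 3, 3, 6, 3, 2, 2, 7, 6, 3, 6, 6, 7, 6, 3, 2, 2, 7, 2, 3, 6, 6, 7]) = true := by decide +kernel

theorem rot2_91 : T.rot 2 [2, 7, 2, 3, 6, 6, 7, 2, 7, 3, 2, 2, 7, 2, 3, 6, 6, 7, 2, 7, 3, 2, 2, 7, 2, 3, 6, 6, 7, 2, 7, 3, 2, 2, 7, 2, 3, 6, 6, 7, 2, 7, 3] (sel (ones 7128) ip2 91) = true := by decide +kernel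

theorem rot2_91r : band (Rule.ok (2 * 0) EX RL ⟨2 :: [2, 7, 2, 3, 6, 6, 7, 2, 7, 3, 2, 2, 7, 2, 3, 6, 6, 7, 2, 7, 3, 2, 2, 7, 2, 3, 6, 6, 7, 2, 7, 3, 2, 2, 7, 2, 3, 6, 6, 7, 2, 7, 3], [5], 0, true⟩) (lall (memL L) [2, 7, 2, 3, 6, 6, 7, 2, 7, 3, 2, 2, 7, 2, 3, 6, 6, 7, 2, 7, 3, 2, 2, 7, 2, 3, 6, 6, 7, 2, 7, 3, 2, 2, 7, 2, 3, 6, 6, 7, 2, 7, 3]) = true := by decide +kernel

theorem rot2_92 : T.rot 2 [7, 2, 3, 6, 6, 7, 2, 7, 3, 2, 2, 7, 2, 3, 6, 6, 7, 2, 7, 3, 2, 2, 7, 2, 3, 6, 6, 7, 2, 7, 3, 2, 2, 7, 2, 3, 6, 6, 7, 2, 7, 3, 2] (sel (ones 7128) ip2 92) = true := by decide +kernel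

theorem rot2_92r : band (Rule.ok (2 * 0) EX RL ⟨2 :: [7, 2, 3, 6, 6, 7, 2, 7, 3, 2, 2, 7, 2, 3, 6, 6, 7, 2, 7, 3, 2, 2, 7, 2, 3, 6, 6, 7, 2, 7, 3, 2, 2, 7, 2, 3, 6, 6, 7, 2, 7, 3, 2], [5, 3], 0, true⟩) (lall (memL L) [7, 2, 3, 6, 6, 7, 2, 7, 3, 2, 2, 7, 2, 3, 6, 6, 7, 2, 7, 3, 2, 2, 7, 2, 3, 6, 6, 7, 2, 7, 3, 2, 2, 7, 2, 3, 6, 6, 7, 2, 7, 3, 2]) = true := by decide +kernel

theorem rot2_93 : T.rot 2 [3, 6, 6, 7, 2, 7, 3, 2, 2, 7, 2, 3, 6, 6, 7, 2, 7, 3, 2, 2, 7, 2, 3, 6, 6, 7, 2, 7, 3, 2, 2, 7, 2, 3, 6, 6, 7, 2, 7, 3, 2, 2, 7] (sel (ones 7128) ip2 93) = true := by decide +kernel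

theorem rot2_93r : band (Rule.ok (2 * 0) EX RL ⟨2 :: [3, 6, 6, 7, 2, 7, 3, 2, 2, 7, 2, 3, 6, 6, 7, 2, 7, 3, 2, 2, 7, 2, 3, 6, 6, 7, 2, 7, 3, 2, 2, 7, 2, 3, 6, 6, 7, 2, 7, 3, 2, 2, 7], [5, 3, 3, 4], 0, true⟩) (lall (memL L) [3, 6, 6, 7, 2, 7, 3, 2, 2, 7, 2, 3, 6, 6, 7, 2, 7, 3, 2, 2, 7, 2, 3, 6, 6, 7, 2, 7, 3, 2, 2, 7, 2, 3, 6, 6, 7, 2, 7, 3, 2, 2, 7]) = true := by decide +kernel

theorem rot2_94 : T.rot 2 [7, 3, 2, 2, 7, 2, 3, 6, 6, 7, 2, 7, 3, 2, 2, 7, 2, 3, 6, 6, 7, 2, 7, 3, 2, 2, 7, 2, 3, 6, 6, 7, 2, 7, 3, 2, 2, 7, 2, 3, 6, 6, 7] (sel (ones 7128) ip2 94) = true := by decide +kernel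

theorem rot2_94r : band (Rule.ok (2 * 0) EX RL ⟨2 :: [7, 3, 2, 2, 7, 2, 3, 6, 6, 7, 2, 7, 3, 2, 2, 7, 2, 3, 6, 6, 7, 2, 7, 3, 2, 2, 7, 2, 3, 6, 6, 7, 2, 7, 3, 2, 2, 7, 2, 3, 6, 6, 7], [5, 2], 0, true⟩) (lall (memL L) [7, 3, 2, 2, 7, 2, 3, 6, 6, 7, 2, 7, 3, 2, 2, 7, 2, 3, 6, 6, 7, 2, 7, 3, 2, 2, 7, 2, 3, 6, 6, 7, 2, 7, 3, 2, 2, 7, 2, 3, 6, 6, 7]) = true := by decide +kernel

theorem rot2_95 : T.rot 2 [2, 7, 6, 3, 6, 6, 7, 3, 6, 3, 2, 2, 7, 6, 3, 6, 6, 7, 3, 6, 3, 2, 2, 7, 6, 3, 6, 6, 7, 3, 6, 3, 2, 2, 7, 6, 3, 6, 6, 7, 3, 6, 3] (sel (ones 7128) ip2 95) = true := by decide +kernel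

theorem rot2_95r : band (Rule.ok (2 * 0) EX RL ⟨2 :: [2, 7, 6, 3, 6, 6, 7, 3, 6, 3, 2, 2, 7, 6, 3, 6, 6, 7, 3, 6, 3, 2, 2, 7, 6, 3, 6, 6, 7, 3, 6, 3, 2, 2, 7, 6, 3, 6, 6, 7, 3, 6, 3], [5, 2, 5], 0, false⟩) (lall (memL L) [2, 7, 6, 3, 6, 6, 7, 3, 6, 3, 2, 2, 7, 6, 3, 6, 6, 7, 3, 6, 3, 2, 2, 7, 6, 3, 6, 6, 7, 3, 6, 3, 2, 2, 7, 6, 3, 6, 6, 7, 3, 6, 3]) = true := by decide +kernel

theorem rot2_96 : T.rot 2 [7, 6, 3, 6, 6, 7, 3, 6, 3, 2, 2, 7, 6, 3, 6, 6, 7, 3, 6, 3, 2, 2, 7, 6, 3, 6, 6, 7, 3, 6, 3, 2, 2, 7, 6, 3, 6, 6, 7, 3, 6, 3, 2] (sel (ones 7128) ip2 96) = true := by decide +kernel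

theorem rot2_96r : band (Rule.ok (2 * 0) EX RL ⟨2 :: [7, 6, 3, 6, 6, 7, 3, 6, 3, 2, 2, 7, 6, 3, 6, 6, 7, 3, 6, 3, 2, 2, 7, 6, 3, 6, 6, 7, 3, 6, 3, 2, 2, 7, 6, 3, 6, 6, 7, 3, 6, 3, 2], [5, 2, 5, 3], 0, false⟩) (lall (memL L) [7, 6, 3, 6, 6, 7, 3, 6, 3, 2, 2, 7, 6, 3, 6, 6, 7, 3, 6, 3, 2, 2, 7, 6, 3, 6, 6, 7, 3, 6, 3, 2, 2, 7, 6, 3, 6, 6, 7, 3, 6, 3, 2]) = true := by decide +kernel

theorem rot2_97 : T.rot 2 [3, 2, 2, 7, 2, 3, 6, 6, 7, 2, 7, 6, 3, 2, 2, 7, 2, 3, 6, 6, 7, 2, 7, 6, 6, 3, 6, 3, 2, 2, 7, 6, 3, 6, 6, 7, 3, 6, 3, 2, 2, 7, 6, 3, 6, 6, 7] (sel (ones 7128) ip2 97) = true := by decide +kernel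

theorem rot2_97r : band (Rule.ok (2 * 0) EX RL ⟨2 :: [3, 2, 2, 7, 2, 3, 6, 6, 7, 2, 7, 6, 3, 2, 2, 7, 2, 3, 6, 6, 7, 2, 7, 6, 6, 3, 6, 3, 2, 2, 7, 6, 3, 6, 6, 7, 3, 6, 3, 2, 2, 7, 6, 3, 6, 6, 7], [], 3, true⟩) (lall (memL L) [3, 2, 2, 7, 2, 3, 6, 6, 7, 2, 7, 6, 3, 2, 2, 7, 2, 3, 6, 6, 7, 2, 7, 6, 6, 3, 6, 3, 2, 2, 7, 6, 3, 6, 6, 7, 3, 6, 3, 2, 2, 7, 6, 3, 6, 6, 7]) = true := by decide +kernel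

theorem rot2_98 : T.rot 2 [2, 7, 2, 3, 6, 6, 7, 2, 7, 6, 3, 2, 2, 7, 2, 3, 6, 6, 7, 2, 7, 6, 6, 3, 6, 3, 2, 2, 7, 6, 3, 6, 6, 7, 3, 6, 3, 2, 2, 7, 6, 3, 6, 6, 7, 2, 3] (sel (ones 7128) ip2 98) = true := by decide +kernel

theorem rot2_98r : band (Rule.ok (2 * 0) EX RL ⟨2 :: [2, 7, 2, 3, 6, 6, 7, 2, 7, 6, 3, 2, 2, 7, 2, 3, 6, 6, 7, 2, 7, 6, 6, 3, 6, 3, 2, 2, 7, 6, 3, 6, 6, 7, 3, 6, 3, 2, 2, 7, 6, 3, 6, 6, 7, 2, 3], [3, 5], 3, true⟩) (lall (memL L) [2, 7, 2, 3, 6, 6, 7, 2, 7, 6, 3, 2, 2, 7, 2, 3, 6, 6, 7, 2, 7, 6, 6, 3, 6, 3, 2, 2, 7, 6, 3, 6, 6, 7, 3, 6, 3, 2, 2, 7, 6, 3, 6, 6, 7, 2, 3]) = true := by decide +kernel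

theorem rot2_99 : T.rot 2 [3, 6, 6, 7, 2, 7, 6, 3, 2, 2, 7, 2, 3, 6, 6, 7, 2, 7, 6, 6, 3, 6, 3, 2, 2, 7, 6, 3, 6, 6, 7, 3, 6, 3, 2, 2, 7, 6, 3, 6, 6, 7, 2, 3, 2, 2, 7] (sel (ones 7128) ip2 99) = true := by decide +kernel

theorem rot2_99r : band (Rule.ok (2 * 0) EX RL ⟨2 :: [3, 6, 6, 7, 2, 7, 6, 3, 2, 2, 7, 2, 3, 6, 6, 7, 2, 7, 6, 6, 3, 6, 3, 2, 2, 7, 6, 3, 6, 6, 7, 3, 6, 3, 2, 2, 7, 6, 3, 6, 6, 7, 2, 3, 2, 2, 7], [3, 5, 3, 3, 4], 3, true⟩) (lall (memL L) [3, 6, 6, 7, 2, 7, 6, 3, 2, 2, 7, 2, 3, 6, 6, 7, 2, 7, 6, 6, 3, 6, 3, 2, 2, 7, 6, 3, 6, 6, 7, 3, 6, 3, 2, 2, 7, 6, 3, 6, 6, 7, 2, 3, 2, 2, 7]) = true := by decide +kernel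

theorem rot2_100 : T.rot 2 [7, 6, 3, 2, 2, 7, 2, 3, 6, 6, 7, 2, 7, 6, 6, 3, 6, 3, 2, 2, 7, 6, 3, 6, 6, 7, 3, 6, 3, 2, 2, 7, 6, 3, 6, 6, 7, 2, 3, 2, 2, 7, 2, 3, 6, 6, 7] (sel (ones 7128) ip2 100) = true := by decide +kernel

theorem rot2_100r : band (Rule.ok (2 * 0) EX RL ⟨2 :: [7, 6, 3, 2, 2, 7, 2, 3, 6, 6, 7, 2, 7, 6, 6, 3, 6, 3, 2, 2, 7, 6, 3, 6, 6, 7, 3, 6, 3, 2, 2, 7, 6, 3, 6, 6, 7, 2, 3, 2, 2, 7, 2, 3, 6, 6, 7], [3, 5, 3, 3, 4, 3, 5, 2, 2, 4], 3, true⟩) (lall (memL L) [7, 6, 3, 2, 2, 7, 2, 3, 6, 6, 7, 2, 7, 6, 6, 3, 6, 3, 2, 2, 7, 6, 3, 6, 6, 7, 3, 6, 3, 2, 2, 7, 6, 3, 6, 6, 7, 2, 3, 2, 2, 7, 2, 3, 6, 6, 7]) = true := by decide +kernel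

theorem rot2_101 : T.rot 2 [2, 7, 2, 3, 6, 6, 7, 2, 7, 6, 6, 3, 6, 3, 2, 2, 7, 6, 3, 6, 6, 7, 3, 6, 3, 2, 2, 7, 6, 3, 6, 6, 7, 2, 3, 2, 2, 7, 2, 3, 6, 6, 7, 2, 7, 6, 3] (sel (ones 7128) ip2 101) = true := by decide +kernel

theorem rot2_101r : band (Rule.ok (2 * 0) EX RL ⟨2 :: [2, 7, 2, 3, 6, 6, 7, 2, 7, 6, 6, 3, 6, 3, 2, 2, 7, 6, 3, 6, 6, 7, 3, 6, 3, 2, 2, 7, 6, 3, 6, 6, 7, 2, 3, 2, 2, 7, 2, 3, 6, 6, 7, 2, 7, 6, 3], [3, 5, 3, 3, 4, 3, 5, 2, 2, 4, 3, 4, 2, 5], 3, true⟩) (lall (memL L) [2, 7, 2, 3, 6, 6, 7, 2, 7, 6, 6, 3, 6, 3, 2, 2, 7, 6, 3, 6, 6, 7, 3, 6, 3, 2, 2, 7, 6, 3, 6, 6, 7, 2, 3, 2, 2, 7, 2, 3, 6, 6, 7, 2, 7, 6, 3]) = true := by decide +kernel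

theorem rot2_102 : T.rot 2 [7, 2, 3, 6, 6, 7, 2, 7, 6, 6, 3, 6, 3, 2, 2, 7, 6, 3, 6, 6, 7, 3, 6, 3, 2, 2, 7, 6, 3, 6, 6, 7, 2, 3, 2, 2, 7, 2, 3, 6, 6, 7, 2, 7, 6, 3, 2] (sel (ones 7128) ip2 102) = true := by decide +kernel

theorem rot2_102r : band (Rule.ok (2 * 0) EX RL ⟨2 :: [7, 2, 3, 6, 6, 7, 2, 7, 6, 6, 3, 6, 3, 2, 2, 7, 6, 3, 6, 6, 7, 3, 6, 3, 2, 2, 7, 6, 3, 6, 6, 7, 2, 3, 2, 2, 7, 2, 3, 6, 6, 7, 2, 7, 6, 3, 2], [3, 5, 3, 3, 4, 3, 5, 2, 2, 4, 3, 4, 2, 5, 3], 3, true⟩) (lall (memL L) [7, 2, 3, 6, 6, 7, 2, 7, 6, 6, 3, 6, 3, 2, 2, 7, 6, 3, 6, 6, 7, 3, 6, 3, 2, 2, 7, 6, 3, 6, 6, 7, 2, 3, 2, 2, 7, 2, 3, 6, 6, 7, 2, 7, 6, 3, 2]) = true := by decide +kernel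

theorem rot2_103 : T.rot 2 [3, 6, 6, 7, 2, 7, 6, 6, 3, 6, 3, 2, 2, 7, 6, 3, 6, 6, 7, 3, 6, 3, 2, 2, 7, 6, 3, 6, 6, 7, 2, 3, 2, 2, 7, 2, 3, 6, 6, 7, 2, 7, 6, 3, 2, 2, 7] (sel (ones 7128) ip2 103) = true := by decide +kernel

theorem rot2_103r : band (Rule.ok (2 * 0) EX RL ⟨2 :: [3, 6, 6, 7, 2, 7, 6, 6, 3, 6, 3, 2, 2, 7, 6, 3, 6, 6, 7, 3, 6, 3, 2, 2, 7, 6, 3, 6, 6, 7, 2, 3, 2, 2, 7, 2, 3, 6, 6, 7, 2, 7, 6, 3, 2, 2, 7], [3, 5, 3, 3, 4, 3, 5, 2, 2, 4, 3, 4, 2, 5, 3, 3, 4], 3, true⟩) (lall (memL L) [3, 6, 6, 7, 2, 7, 6, 6, 3, 6, 3, 2, 2, 7, 6, 3, 6, 6, 7, 3, 6, 3, 2, 2, 7, 6, 3, 6, 6, 7, 2, 3, 2, 2, 7, 2, 3, 6, 6, 7, 2, 7, 6, 3, 2, 2, 7]) = true := by decide +kernel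

theorem rot2_104 : T.rot 2 [7, 6, 6, 3, 6, 3, 2, 2, 7, 6, 3, 6, 6, 7, 3, 6, 3, 2, 2, 7, 6, 3, 6, 6, 7, 2, 3, 2, 2, 7, 2, 3, 6, 6, 7, 2, 7, 6, 3, 2, 2, 7, 2, 3, 6, 6, 7] (sel (ones 7128) ip2 104) = true := by decide +kernel

theorem rot2_104r : band (Rule.ok (2 * 0) EX RL ⟨2 :: [7, 6, 6, 3, 6, 3, 2, 2, 7, 6, 3, 6, 6, 7, 3, 6, 3, 2, 2, 7, 6, 3, 6, 6, 7, 2, 3, 2, 2, 7, 2, 3, 6, 6, 7, 2, 7, 6, 3, 2, 2, 7, 2, 3, 6, 6, 7], [3, 5, 3, 3, 4, 3, 5, 2, 2, 4, 3, 4, 2, 5, 3, 3, 4, 3, 5, 2, 2, 4], 3, true⟩) (lall (memL L) [7, 6, 6, 3, 6, 3, 2, 2, 7, 6, 3, 6, 6, 7, 3, 6, 3, 2, 2, 7, 6, 3, 6, 6, 7, 2, 3, 2, 2, 7, 2, 3, 6, 6, 7, 2, 7, 6, 3, 2, 2, 7, 2, 3, 6, 6, 7]) = true := by decide +kernel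

theorem rot2_105 : T.rot 2 [2, 7, 6, 3, 6, 6, 7, 3, 6, 3, 2, 2, 7, 6, 3, 6, 6, 7, 2, 3, 2, 2, 7, 2, 3, 6, 6, 7, 2, 7, 6, 3, 2, 2, 7, 2, 3, 6, 6, 7, 2, 7, 6, 6, 3, 6, 3] (sel (ones 7128) ip2 105) = true := by decide +kernel

theorem rot2_105r : band (Rule.ok (2 * 0) EX RL ⟨2 :: [2, 7, 6, 3, 6, 6, 7, 3, 6, 3, 2, 2, 7, 6, 3, 6, 6, 7, 2, 3, 2, 2, 7, 2, 3, 6, 6, 7, 2, 7, 6, 3, 2, 2, 7, 2, 3, 6, 6, 7, 2, 7, 6, 6, 3, 6, 3], [5, 3, 3, 4, 3, 5, 2, 2, 4, 3, 3, 3, 4, 3, 5, 2, 2], 3, true⟩) (lall (memL L) [2, 7, 6, 3, 6, 6, 7, 3, 6, 3, 2, 2, 7, 6, 3, 6, 6, 7, 2, 3, 2, 2, 7, 2, 3, 6, 6, 7, 2, 7, 6, 3, 2, 2, 7, 2, 3, 6, 6, 7, 2, 7, 6, 6, 3, 6, 3]) = true := by decide +kernel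

theorem rot2_106 : T.rot 2 [7, 6, 3, 6, 6, 7, 3, 6, 3, 2, 2, 7, 6, 3, 6, 6, 7, 2, 3, 2, 2, 7, 2, 3, 6, 6, 7, 2, 7, 6, 3, 2, 2, 7, 2, 3, 6, 6, 7, 2, 7, 6, 6, 3, 6, 3, 2] (sel (ones 7128) ip2 106) = true := by decide +kernel

theorem rot2_106r : band (Rule.ok (2 * 0) EX RL ⟨2 :: [7, 6, 3, 6, 6, 7, 3, 6, 3, 2, 2, 7, 6, 3, 6, 6, 7, 2, 3, 2, 2, 7, 2, 3, 6, 6, 7, 2, 7, 6, 3, 2, 2, 7, 2, 3, 6, 6, 7, 2, 7, 6, 6, 3, 6, 3, 2], [5, 3, 3, 4, 3, 5, 2, 2, 4, 3, 3, 3, 4, 3, 5, 2], 3, true⟩) (lall (memL L) [7, 6, 3, 6, 6, 7, 3, 6, 3, 2, 2, 7, 6, 3, 6, 6, 7, 2, 3, 2, 2, 7, 2, 3, 6, 6, 7, 2, 7, 6, 3, 2, 2, 7, 2, 3, 6, 6, 7, 2, 7, 6, 6, 3, 6, 3, 2]) = true := by decide +kernel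

theorem rot2_107 : T.rot 2 [2, 7, 6, 3, 6, 6, 7, 2, 3, 2, 2, 7, 2, 3, 6, 6, 7, 2, 7, 6, 3, 2, 2, 7, 2, 3, 6, 6, 7, 2, 7, 6, 6, 3, 6, 3, 2, 2, 7, 6, 3, 6, 6, 7, 3, 6, 3] (sel (ones 7128) ip2 107) = true := by decide +kernel

theorem rot2_107r : band (Rule.ok (2 * 0) EX RL ⟨2 :: [2, 7, 6, 3, 6, 6, 7, 2, 3, 2, 2, 7, 2, 3, 6, 6, 7, 2, 7, 6, 3, 2, 2, 7, 2, 3, 6, 6, 7, 2, 7, 6, 6, 3, 6, 3, 2, 2, 7, 6, 3, 6, 6, 7, 3, 6, 3], [5, 3, 3, 4, 3, 5, 2, 2], 3, true⟩) (lall (memL L) [2, 7, 6, 3, 6, 6, 7, 2, 3, 2, 2, 7, 2, 3, 6, 6, 7, 2, 7, 6, 3, 2, 2, 7, 2, 3, 6, 6, 7, 2, 7, 6, 6, 3, 6, 3, 2, 2, 7, 6, 3, 6, 6, 7, 3, 6, 3]) = true := by decide +kernel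

theorem rot2_108 : T.rot 2 [2, 7, 2, 3, 6, 6, 7, 2, 7, 3, 2, 2, 7, 2, 3, 6, 6, 7, 2, 7, 2, 2, 3, 6, 3, 2, 2, 7, 6, 3, 6, 6, 7, 2, 3, 6, 3, 2, 2, 7, 6, 3, 6, 6, 7, 6, 3] (sel (ones 7128) ip2 108) = true := by decide +kernel

theorem rot2_108r : band (Rule.ok (2 * 0) EX RL ⟨2 :: [2, 7, 2, 3, 6, 6, 7, 2, 7, 3, 2, 2, 7, 2, 3, 6, 6, 7, 2, 7, 2, 2, 3, 6, 3, 2, 2, 7, 6, 3, 6, 6, 7, 2, 3, 6, 3, 2, 2, 7, 6, 3, 6, 6, 7, 6, 3], [5], 3, false⟩) (lall (memL L) [2, 7, 2, 3, 6, 6, 7, 2, 7, 3, 2, 2, 7, 2, 3, 6, 6, 7, 2, 7, 2, 2, 3, 6, 3, 2, 2, 7, 6, 3, 6, 6, 7, 2, 3, 6, 3, 2, 2, 7, 6, 3, 6, 6, 7, 6, 3]) = true := by decide +kernel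

theorem rot2_109 : T.rot 2 [3, 6, 6, 7, 2, 7, 3, 2, 2, 7, 2, 3, 6, 6, 7, 2, 7, 2, 2, 3, 6, 3, 2, 2, 7, 6, 3, 6, 6, 7, 2, 3, 6, 3, 2, 2, 7, 6, 3, 6, 6, 7, 6, 3, 2, 2, 7] (sel (ones 7128) ip2 109) = true := by decide +kernel

theorem rot2_109r : band (Rule.ok (2 * 0) EX RL ⟨2 :: [3, 6, 6, 7, 2, 7, 3, 2, 2, 7, 2, 3, 6, 6, 7, 2, 7, 2, 2, 3, 6, 3, 2, 2, 7, 6, 3, 6, 6, 7, 2, 3, 6, 3, 2, 2, 7, 6, 3, 6, 6, 7, 6, 3, 2, 2, 7], [5, 3, 3, 4], 3, false⟩) (lall (memL L) [3, 6, 6, 7, 2, 7, 3, 2, 2, 7, 2, 3, 6, 6, 7, 2, 7, 2, 2, 3, 6, 3, 2, 2, 7, 6, 3, 6, 6, 7, 2, 3, 6, 3, 2, 2, 7, 6, 3, 6, 6, 7, 6, 3, 2, 2, 7]) = true := by decide +kernel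

theorem rot2_110 : T.rot 2 [7, 3, 2, 2, 7, 2, 3, 6, 6, 7, 2, 7, 2, 2, 3, 6, 3, 2, 2, 7, 6, 3, 6, 6, 7, 2, 3, 6, 3, 2, 2, 7, 6, 3, 6, 6, 7, 6, 3, 2, 2, 7, 2, 3, 6, 6, 7] (sel (ones 7128) ip2 110) = true := by decide +kernel

theorem rot2_110r : band (Rule.ok (2 * 0) EX RL ⟨2 :: [7, 3, 2, 2, 7, 2, 3, 6, 6, 7, 2, 7, 2, 2, 3, 6, 3, 2, 2, 7, 6, 3, 6, 6, 7, 2, 3, 6, 3, 2, 2, 7, 6, 3, 6, 6, 7, 6, 3, 2, 2, 7, 2, 3, 6, 6, 7], [5, 3, 3, 4, 3, 5, 2, 2, 4], 3, false⟩) (lall (memL L) [7, 3, 2, 2, 7, 2, 3, 6, 6, 7, 2, 7, 2, 2, 3, 6, 3, 2, 2, 7, 6, 3, 6, 6, 7, 2, 3, 6, 3, 2, 2, 7, 6, 3, 6, 6, 7, 6, 3, 2, 2, 7, 2, 3, 6, 6, 7]) = true := by decide +kernel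

theorem rot2_111 : T.rot 2 [2, 7, 2, 3, 6, 6, 7, 2, 7, 2, 2, 3, 6, 3, 2, 2, 7, 6, 3, 6, 6, 7, 2, 3, 6, 3, 2, 2, 7, 6, 3, 6, 6, 7, 6, 3, 2, 2, 7, 2, 3, 6, 6, 7, 2, 7, 3] (sel (ones 7128) ip2 111) = true := by decide +kernel

theorem rot2_111r : band (Rule.ok (2 * 0) EX RL ⟨2 :: [2, 7, 2, 3, 6, 6, 7, 2, 7, 2, 2, 3, 6, 3, 2, 2, 7, 6, 3, 6, 6, 7, 2, 3, 6, 3, 2, 2, 7, 6, 3, 6, 6, 7, 6, 3, 2, 2, 7, 2, 3, 6, 6, 7, 2, 7, 3], [5, 3, 3, 4, 3, 5, 2, 2, 4, 3], 3, false⟩) (lall (memL L) [2, 7, 2, 3, 6, 6, 7, 2, 7, 2, 2, 3, 6, 3, 2, 2, 7, 6, 3, 6, 6, 7, 2, 3, 6, 3, 2, 2, 7, 6, 3, 6, 6, 7, 6, 3, 2, 2, 7, 2, 3, 6, 6, 7, 2, 7, 3]) = true := by decide +kernel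

theorem rot2_112 : T.rot 2 [3, 6, 6, 7, 2, 7, 2, 2, 3, 6, 3, 2, 2, 7, 6, 3, 6, 6, 7, 2, 3, 6, 3, 2, 2, 7, 6, 3, 6, 6, 7, 6, 3, 2, 2, 7, 2, 3, 6, 6, 7, 2, 7, 3, 2, 2, 7] (sel (ones 7128) ip2 112) = true := by decide +kernel

theorem rot2_112r : band (Rule.ok (2 * 0) EX RL ⟨2 :: [3, 6, 6, 7, 2, 7, 2, 2, 3, 6, 3, 2, 2, 7, 6, 3, 6, 6, 7, 2, 3, 6, 3, 2, 2, 7, 6, 3, 6, 6, 7, 6, 3, 2, 2, 7, 2, 3, 6, 6, 7, 2, 7, 3, 2, 2, 7], [5, 3, 3, 4, 3, 5, 2, 2, 4, 3, 3, 3, 4], 3, false⟩) (lall (memL L) [3, 6, 6, 7, 2, 7, 2, 2, 3, 6, 3, 2, 2, 7, 6, 3, 6, 6, 7, 2, 3, 6, 3, 2, 2, 7, 6, 3, 6, 6, 7, 6, 3, 2, 2, 7, 2, 3, 6, 6, 7, 2, 7, 3, 2, 2, 7]) = true := by decide +kernel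

theorem rot2_113 : T.rot 2 [7, 2, 2, 3, 6, 3, 2, 2, 7, 6, 3, 6, 6, 7, 2, 3, 6, 3, 2, 2, 7, 6, 3, 6, 6, 7, 6, 3, 2, 2, 7, 2, 3, 6, 6, 7, 2, 7, 3, 2, 2, 7, 2, 3, 6, 6, 7] (sel (ones 7128) ip2 113) = true := by decide +kernel

theorem rot2_113r : band (Rule.ok (2 * 0) EX RL ⟨2 :: [7, 2, 2, 3, 6, 3, 2, 2, 7, 6, 3, 6, 6, 7, 2, 3, 6, 3, 2, 2, 7, 6, 3, 6, 6, 7, 6, 3, 2, 2, 7, 2, 3, 6, 6, 7, 2, 7, 3, 2, 2, 7, 2, 3, 6, 6, 7], [5, 3, 3, 4, 3, 5, 2, 2, 4, 3, 3, 3, 4, 3, 5, 2, 2, 4], 3, false⟩) (lall (memL L) [7, 2, 2, 3, 6, 3, 2, 2, 7, 6, 3, 6, 6, 7, 2, 3, 6, 3, 2, 2, 7, 6, 3, 6, 6, 7, 6, 3, 2, 2, 7, 2, 3, 6, 6, 7, 2, 7, 3, 2, 2, 7, 2, 3, 6, 6, 7]) = true := by decide +kernel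

theorem rot2_114 : T.rot 2 [2, 3, 6, 3, 2, 2, 7, 6, 3, 6, 6, 7, 2, 3, 6, 3, 2, 2, 7, 6, 3, 6, 6, 7, 6, 3, 2, 2, 7, 2, 3, 6, 6, 7, 2, 7, 3, 2, 2, 7, 2, 3, 6, 6, 7, 2, 7] (sel (ones 7128) ip2 114) = true := by decide +kernel

theorem rot2_114r : band (Rule.ok (2 * 0) EX RL ⟨2 :: [2, 3, 6, 3, 2, 2, 7, 6, 3, 6, 6, 7, 2, 3, 6, 3, 2, 2, 7, 6, 3, 6, 6, 7, 6, 3, 2, 2, 7, 2, 3, 6, 6, 7, 2, 7, 3, 2, 2, 7, 2, 3, 6, 6, 7, 2, 7], [5, 3, 3, 4, 3, 5, 2, 2, 4, 3, 3, 3, 4, 3, 5, 2, 2, 4, 3, 4], 3, false⟩) (lall (memL L) [2, 3, 6, 3, 2, 2, 7, 6, 3, 6, 6, 7, 2, 3, 6, 3, 2, 2, 7, 6, 3, 6, 6, 7, 6, 3, 2, 2, 7, 2, 3, 6, 6, 7, 2, 7, 3, 2, 2, 7, 2, 3, 6, 6, 7, 2, 7]) = true := by decide +kernel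

theorem rot2_115 : T.rot 2 [3, 6, 3, 2, 2, 7, 6, 3, 6, 6, 7, 2, 3, 6, 3, 2, 2, 7, 6, 3, 6, 6, 7, 6, 3, 2, 2, 7, 2, 3, 6, 6, 7, 2, 7, 3, 2, 2, 7, 2, 3, 6, 6, 7, 2, 7, 2] (sel (ones 7128) ip2 115) = true := by decide +kernel

theorem rot2_115r : band (Rule.ok (2 * 0) EX RL ⟨2 :: [3, 6, 3, 2, 2, 7, 6, 3, 6, 6, 7, 2, 3, 6, 3, 2, 2, 7, 6, 3, 6, 6, 7, 6, 3, 2, 2, 7, 2, 3, 6, 6, 7, 2, 7, 3, 2, 2, 7, 2, 3, 6, 6, 7, 2, 7, 2], [5, 3, 3, 4, 3, 5, 2, 2, 4, 3, 3, 3, 4, 3, 5, 2, 2, 4, 3, 4, 3], 3, false⟩) (lall (memL L) [3, 6, 3, 2, 2, 7, 6, 3, 6, 6, 7, 2, 3, 6, 3, 2, 2, 7, 6, 3, 6, 6, 7, 6, 3, 2, 2, 7, 2, 3, 6, 6, 7, 2, 7, 3, 2, 2, 7, 2, 3, 6, 6, 7, 2, 7, 2]) = true := by decide +kernel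

theorem rot2_116 : T.rot 2 [2, 7, 6, 3, 6, 6, 7, 2, 3, 6, 3, 2, 2, 7, 6, 3, 6, 6, 7, 6, 3, 2, 2, 7, 2, 3, 6, 6, 7, 2, 7, 3, 2, 2, 7, 2, 3, 6, 6, 7, 2, 7, 2, 2, 3, 6, 3] (sel (ones 7128) ip2 116) = true := by decide +kernel

theorem rot2_116r : band (Rule.ok (2 * 0) EX RL ⟨2 :: [2, 7, 6, 3, 6, 6, 7, 2, 3, 6, 3, 2, 2, 7, 6, 3, 6, 6, 7, 6, 3, 2, 2, 7, 2, 3, 6, 6, 7, 2, 7, 3, 2, 2, 7, 2, 3, 6, 6, 7, 2, 7, 2, 2, 3, 6, 3], [3, 5, 3, 3, 4, 3, 5, 2, 2, 4, 3, 4, 2, 5, 3, 3, 4, 3, 5, 2, 2], 3, false⟩) (lall (memL L) [2, 7, 6, 3, 6, 6, 7, 2, 3, 6, 3, 2, 2, 7, 6, 3, 6, 6, 7, 6, 3, 2, 2, 7, 2, 3, 6, 6, 7, 2, 7, 3, 2, 2, 7, 2, 3, 6, 6, 7, 2, 7, 2, 2, 3, 6, 3]) = true := by decide +kernel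

theorem rot2_117 : T.rot 2 [7, 6, 3, 6, 6, 7, 2, 3, 6, 3, 2, 2, 7, 6, 3, 6, 6, 7, 6, 3, 2, 2, 7, 2, 3, 6, 6, 7, 2, 7, 3, 2, 2, 7, 2, 3, 6, 6, 7, 2, 7, 2, 2, 3, 6, 3, 2] (sel (ones 7128) ip2 117) = true := by decide +kernel

theorem rot2_117r : band (Rule.ok (2 * 0) EX RL ⟨2 :: [7, 6, 3, 6, 6, 7, 2, 3, 6, 3, 2, 2, 7, 6, 3, 6, 6, 7, 6, 3, 2, 2, 7, 2, 3, 6, 6, 7, 2, 7, 3, 2, 2, 7, 2, 3, 6, 6, 7, 2, 7, 2, 2, 3, 6, 3, 2], [3, 5, 3, 3, 4, 3, 5, 2, 2, 4, 3, 4, 2, 5, 3, 3, 4, 3, 5, 2], 3, false⟩) (lall (memL L) [7, 6, 3, 6, 6, 7, 2, 3, 6, 3, 2, 2, 7, 6, 3, 6, 6, 7, 6, 3, 2, 2, 7, 2, 3, 6, 6, 7, 2, 7, 3, 2, 2, 7, 2, 3, 6, 6, 7, 2, 7, 2, 2, 3, 6, 3, 2]) = true := by decide +kernel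

theorem rot2_118 : T.rot 2 [3, 6, 3, 2, 2, 7, 6, 3, 6, 6, 7, 6, 3, 2, 2, 7, 2, 3, 6, 6, 7, 2, 7, 3, 2, 2, 7, 2, 3, 6, 6, 7, 2, 7, 2, 2, 3, 6, 3, 2, 2, 7, 6, 3, 6, 6, 7] (sel (ones 7128) ip2 118) = true := by decide +kernel

theorem rot2_118r : band (Rule.ok (2 * 0) EX RL ⟨2 :: [3, 6, 3, 2, 2, 7, 6, 3, 6, 6, 7, 6, 3, 2, 2, 7, 2, 3, 6, 6, 7, 2, 7, 3, 2, 2, 7, 2, 3, 6, 6, 7, 2, 7, 2, 2, 3, 6, 3, 2, 2, 7, 6, 3, 6, 6, 7], [3, 5, 3, 3, 4, 3, 5, 2, 2, 4, 3, 4, 2], 3, false⟩) (lall (memL L) [3, 6, 3, 2, 2, 7, 6, 3, 6, 6, 7, 6, 3, 2, 2, 7, 2, 3, 6, 6, 7, 2, 7, 3, 2, 2, 7, 2, 3, 6, 6, 7, 2, 7, 2, 2, 3, 6, 3, 2, 2, 7, 6, 3, 6, 6, 7]) = true := by decide +kernel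

theorem rot2_119 : T.rot 2 [7, 6, 3, 6, 6, 7, 6, 3, 2, 2, 7, 2, 3, 6, 6, 7, 2, 7, 3, 2, 2, 7, 2, 3, 6, 6, 7, 2, 7, 2, 2, 3, 6, 3, 2, 2, 7, 6, 3, 6, 6, 7, 2, 3, 6, 3, 2] (sel (ones 7128) ip2 119) = true := by decide +kernel

theorem rot2_119r : band (Rule.ok (2 * 0) EX RL ⟨2 :: [7, 6, 3, 6, 6, 7, 6, 3, 2, 2, 7, 2, 3, 6, 6, 7, 2, 7, 3, 2, 2, 7, 2, 3, 6, 6, 7, 2, 7, 2, 2, 3, 6, 3, 2, 2, 7, 6, 3, 6, 6, 7, 2, 3, 6, 3, 2], [3, 5, 3, 3, 4, 3, 5, 2], 3, false⟩) (lall (memL L) [7, 6, 3, 6, 6, 7, 6, 3, 2, 2, 7, 2, 3, 6, 6, 7, 2, 7, 3, 2, 2, 7, 2, 3, 6, 6, 7, 2, 7, 2, 2, 3, 6, 3, 2, 2, 7, 6, 3, 6, 6, 7, 2, 3, 6, 3, 2]) = true := by decide +kernel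

theorem rot2_120 : T.rot 2 [2, 7, 2, 3, 6, 6, 7, 2, 7, 7, 7, 3, 2, 2, 7, 2, 3, 6, 6, 7, 2, 7, 3, 2, 2, 7, 2, 3, 6, 6, 7, 2, 7, 7, 7, 3, 6, 3, 2, 2, 7, 6, 3, 6, 6, 7, 7, 7, 3] (sel (ones 7128) ip2 120) = true := by decide +kernel

theorem rot2_120r : band (Rule.ok (2 * 0) EX RL ⟨2 :: [2, 7, 2, 3, 6, 6, 7, 2, 7, 7, 7, 3, 2, 2, 7, 2, 3, 6, 6, 7, 2, 7, 3, 2, 2, 7, 2, 3, 6, 6, 7, 2, 7, 7, 7, 3, 6, 3, 2, 2, 7, 6, 3, 6, 6, 7, 7, 7, 3], [4], 2, true⟩) (lall (memL L) [2, 7, 2, 3, 6, 6, 7, 2, 7, 7, 7, 3, 2, 2, 7, 2, 3, 6, 6, 7, 2, 7, 3, 2, 2, 7, 2, 3, 6, 6, 7, 2, 7, 7, 7, 3, 6, 3, 2, 2, 7, 6, 3, 6, 6, 7, 7, 7, 3]) = true := by decide +kernel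

theorem rot2_121 : T.rot 2 [7, 2, 3, 6, 6, 7, 2, 7, 7, 7, 3, 2, 2, 7, 2, 3, 6, 6, 7, 2, 7, 3, 2, 2, 7, 2, 3, 6, 6, 7, 2, 7, 7, 7, 3, 6, 3, 2, 2, 7, 6, 3, 6, 6, 7, 7, 7, 3, 2] (sel (ones 7128) ip2 121) = true := by decide +kernel

theorem rot2_121r : band (Rule.ok (2 * 0) EX RL ⟨2 :: [7, 2, 3, 6, 6, 7, 2, 7, 7, 7, 3, 2, 2, 7, 2, 3, 6, 6, 7, 2, 7, 3, 2, 2, 7, 2, 3, 6, 6, 7, 2, 7, 7, 7, 3, 6, 3, 2, 2, 7, 6, 3, 6, 6, 7, 7, 7, 3, 2], [4, 3], 2, true⟩) (lall (memL L) [7, 2, 3, 6, 6, 7, 2, 7, 7, 7, 3, 2, 2, 7, 2, 3, 6, 6, 7, 2, 7, 3, 2, 2, 7, 2, 3, 6, 6, 7, 2, 7, 7, 7, 3, 6, 3, 2, 2, 7, 6, 3, 6, 6, 7, 7, 7, 3, 2]) = true := by decide +kernel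

theorem rot2_122 : T.rot 2 [3, 6, 6, 7, 2, 7, 7, 7, 3, 2, 2, 7, 2, 3, 6, 6, 7, 2, 7, 3, 2, 2, 7, 2, 3, 6, 6, 7, 2, 7, 7, 7, 3, 6, 3, 2, 2, 7, 6, 3, 6, 6, 7, 7, 7, 3, 2, 2, 7] (sel (ones 7128) ip2 122) = true := by decide +kernel

theorem rot2_122r : band (Rule.ok (2 * 0) EX RL ⟨2 :: [3, 6, 6, 7, 2, 7, 7, 7, 3, 2, 2, 7, 2, 3, 6, 6, 7, 2, 7, 3, 2, 2, 7, 2, 3, 6, 6, 7, 2, 7, 7, 7, 3, 6, 3, 2, 2, 7, 6, 3, 6, 6, 7, 7, 7, 3, 2, 2, 7], [4, 3, 3, 4], 2, true⟩) (lall (memL L) [3, 6, 6, 7, 2, 7, 7, 7, 3, 2, 2, 7, 2, 3, 6, 6, 7, 2, 7, 3, 2, 2, 7, 2, 3, 6, 6, 7, 2, 7, 7, 7, 3, 6, 3, 2, 2, 7, 6, 3, 6, 6, 7, 7, 7, 3, 2, 2, 7]) = true := by decide +kernel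

theorem rot2_123 : T.rot 2 [7, 7, 7, 3, 2, 2, 7, 2, 3, 6, 6, 7, 2, 7, 3, 2, 2, 7, 2, 3, 6, 6, 7, 2, 7, 7, 7, 3, 6, 3, 2, 2, 7, 6, 3, 6, 6, 7, 7, 7, 3, 2, 2, 7, 2, 3, 6, 6, 7] (sel (ones 7128) ip2 123) = true := by decide +kernel

theorem rot2_123r : band (Rule.ok (2 * 0) EX RL ⟨2 :: [7, 7, 7, 3, 2, 2, 7, 2, 3, 6, 6, 7, 2, 7, 3, 2, 2, 7, 2, 3, 6, 6, 7, 2, 7, 7, 7, 3, 6, 3, 2, 2, 7, 6, 3, 6, 6, 7, 7, 7, 3, 2, 2, 7, 2, 3, 6, 6, 7], [4, 3, 3, 4, 3, 5, 2, 2, 4], 2, true⟩) (lall (memL L) [7, 7, 7, 3, 2, 2, 7, 2, 3, 6, 6, 7, 2, 7, 3, 2, 2, 7, 2, 3, 6, 6, 7, 2, 7, 7, 7, 3, 6, 3, 2, 2, 7, 6, 3, 6, 6, 7, 7, 7, 3, 2, 2, 7, 2, 3, 6, 6, 7]) = true := by decide +kernel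

theorem rot2_124 : T.rot 2 [7, 2, 3, 6, 6, 7, 2, 7, 3, 2, 2, 7, 2, 3, 6, 6, 7, 2, 7, 7, 7, 3, 6, 3, 2, 2, 7, 6, 3, 6, 6, 7, 7, 7, 3, 2, 2, 7, 2, 3, 6, 6, 7, 2, 7, 7, 7, 3, 2] (sel (ones 7128) ip2 124) = true := by decide +kernel

theorem rot2_124r : band (Rule.ok (2 * 0) EX RL ⟨2 :: [7, 2, 3, 6, 6, 7, 2, 7, 3, 2, 2, 7, 2, 3, 6, 6, 7, 2, 7, 7, 7, 3, 6, 3, 2, 2, 7, 6, 3, 6, 6, 7, 7, 7, 3, 2, 2, 7, 2, 3, 6, 6, 7, 2, 7, 7, 7, 3, 2], [4, 3, 3, 4, 3, 5, 2, 2, 4, 3, 4, 4, 3], 2, true⟩) (lall (memL L) [7, 2, 3, 6, 6, 7, 2, 7, 3, 2, 2, 7, 2, 3, 6, 6, 7, 2, 7, 7, 7, 3, 6, 3, 2, 2, 7, 6, 3, 6, 6, 7, 7, 7, 3, 2, 2, 7, 2, 3, 6, 6, 7, 2, 7, 7, 7, 3, 2]) = true := by decide +kernel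

theorem rot2_125 : T.rot 2 [3, 6, 6, 7, 2, 7, 3, 2, 2, 7, 2, 3, 6, 6, 7, 2, 7, 7, 7, 3, 6, 3, 2, 2, 7, 6, 3, 6, 6, 7, 7, 7, 3, 2, 2, 7, 2, 3, 6, 6, 7, 2, 7, 7, 7, 3, 2, 2, 7] (sel (ones 7128) ip2 125) = true := by decide +kernel

theorem rot2_125r : band (Rule.ok (2 * 0) EX RL ⟨2 :: [3, 6, 6, 7, 2, 7, 3, 2, 2, 7, 2, 3, 6, 6, 7, 2, 7, 7, 7, 3, 6, 3, 2, 2, 7, 6, 3, 6, 6, 7, 7, 7, 3, 2, 2, 7, 2, 3, 6, 6, 7, 2, 7, 7, 7, 3, 2, 2, 7], [4, 3, 3, 4, 3, 5, 2, 2, 4, 3, 4, 4, 3, 3, 4], 2, true⟩) (lall (memL L) [3, 6, 6, 7, 2, 7, 3, 2, 2, 7, 2, 3, 6, 6, 7, 2, 7, 7, 7, 3, 6, 3, 2, 2, 7, 6, 3, 6, 6, 7, 7, 7, 3, 2, 2, 7, 2, 3, 6, 6, 7, 2, 7, 7, 7, 3, 2, 2, 7]) = true := by decide +kernel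

theorem rot2_126 : T.rot 2 [7, 3, 2, 2, 7, 2, 3, 6, 6, 7, 2, 7, 7, 7, 3, 6, 3, 2, 2, 7, 6, 3, 6, 6, 7, 7, 7, 3, 2, 2, 7, 2, 3, 6, 6, 7, 2, 7, 7, 7, 3, 2, 2, 7, 2, 3, 6, 6, 7] (sel (ones 7128) ip2 126) = true := by decide +kernel

theorem rot2_126r : band (Rule.ok (2 * 0) EX RL ⟨2 :: [7, 3, 2, 2, 7, 2, 3, 6, 6, 7, 2, 7, 7, 7, 3, 6, 3, 2, 2, 7, 6, 3, 6, 6, 7, 7, 7, 3, 2, 2, 7, 2, 3, 6, 6, 7, 2, 7, 7, 7, 3, 2, 2, 7, 2, 3, 6, 6, 7], [4, 3, 3, 4, 3, 5, 2, 2, 4, 3, 4, 4, 3, 3, 4, 3, 5, 2, 2, 4], 2, true⟩) (lall (memL L) [7, 3, 2, 2, 7, 2, 3, 6, 6, 7, 2, 7, 7, 7, 3, 6, 3, 2, 2, 7, 6, 3, 6, 6, 7, 7, 7, 3, 2, 2, 7, 2, 3, 6, 6, 7, 2, 7, 7, 7, 3, 2, 2, 7, 2, 3, 6, 6, 7]) = true := by decide +kernel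

theorem rot2_127 : T.rot 2 [2, 7, 2, 3, 6, 6, 7, 2, 7, 7, 7, 3, 6, 3, 2, 2, 7, 6, 3, 6, 6, 7, 7, 7, 3, 2, 2, 7, 2, 3, 6, 6, 7, 2, 7, 7, 7, 3, 2, 2, 7, 2, 3, 6, 6, 7, 2, 7, 3] (sel (ones 7128) ip2 127) = true := by decide +kernel

theorem rot2_127r : band (Rule.ok (2 * 0) EX RL ⟨2 :: [2, 7, 2, 3, 6, 6, 7, 2, 7, 7, 7, 3, 6, 3, 2, 2, 7, 6, 3, 6, 6, 7, 7, 7, 3, 2, 2, 7, 2, 3, 6, 6, 7, 2, 7, 7, 7, 3, 2, 2, 7, 2, 3, 6, 6, 7, 2, 7, 3], [5, 3, 3, 4, 3, 5, 2, 2, 4, 3, 5, 5, 2, 5, 3, 3, 4, 2, 5, 2, 2], 2, true⟩) (lall (memL L) [2, 7, 2, 3, 6, 6, 7, 2, 7, 7, 7, 3, 6, 3, 2, 2, 7, 6, 3, 6, 6, 7, 7, 7, 3, 2, 2, 7, 2, 3, 6, 6, 7, 2, 7, 7, 7, 3, 2, 2, 7, 2, 3, 6, 6, 7, 2, 7, 3]) = true := by decide +kernel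

theorem rot2_128 : T.rot 2 [7, 2, 3, 6, 6, 7, 2, 7, 7, 7, 3, 6, 3, 2, 2, 7, 6, 3, 6, 6, 7, 7, 7, 3, 2, 2, 7, 2, 3, 6, 6, 7, 2, 7, 7, 7, 3, 2, 2, 7, 2, 3, 6, 6, 7, 2, 7, 3, 2] (sel (ones 7128) ip2 128) = true := by decide +kernel

theorem rot2_128r : band (Rule.ok (2 * 0) EX RL ⟨2 :: [7, 2, 3, 6, 6, 7, 2, 7, 7, 7, 3, 6, 3, 2, 2, 7, 6, 3, 6, 6, 7, 7, 7, 3, 2, 2, 7, 2, 3, 6, 6, 7, 2, 7, 7, 7, 3, 2, 2, 7, 2, 3, 6, 6, 7, 2, 7, 3, 2], [5, 3, 3, 4, 3, 5, 2, 2, 4, 3, 5, 5, 2, 5, 3, 3, 4, 2, 5, 2], 2, true⟩) (lall (memL L) [7, 2, 3, 6, 6, 7, 2, 7, 7, 7, 3, 6, 3, 2, 2, 7, 6, 3, 6, 6, 7, 7, 7, 3, 2, 2, 7, 2, 3, 6, 6, 7, 2, 7, 7, 7, 3, 2, 2, 7, 2, 3, 6, 6, 7, 2, 7, 3, 2]) = true := by decide +kernel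

theorem rot2_129 : T.rot 2 [3, 6, 6, 7, 2, 7, 7, 7, 3, 6, 3, 2, 2, 7, 6, 3, 6, 6, 7, 7, 7, 3, 2, 2, 7, 2, 3, 6, 6, 7, 2, 7, 7, 7, 3, 2, 2, 7, 2, 3, 6, 6, 7, 2, 7, 3, 2, 2, 7] (sel (ones 7128) ip2 129) = true := by decide +kernel

theorem rot2_129r : band (Rule.ok (2 * 0) EX RL ⟨2 :: [3, 6, 6, 7, 2, 7, 7, 7, 3, 6, 3, 2, 2, 7, 6, 3, 6, 6, 7, 7, 7, 3, 2, 2, 7, 2, 3, 6, 6, 7, 2, 7, 7, 7, 3, 2, 2, 7, 2, 3, 6, 6, 7, 2, 7, 3, 2, 2, 7], [5, 3, 3, 4, 3, 5, 2, 2, 4, 3, 5, 5, 2, 5, 3, 3, 4, 2], 2, true⟩) (lall (memL L) [3, 6, 6, 7, 2, 7, 7, 7, 3, 6, 3, 2, 2, 7, 6, 3, 6, 6, 7, 7, 7, 3, 2, 2, 7, 2, 3, 6, 6, 7, 2, 7, 7, 7, 3, 2, 2, 7, 2, 3, 6, 6, 7, 2, 7, 3, 2, 2, 7]) = true := by decide +kernel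

theorem rot2_130 : T.rot 2 [7, 7, 7, 3, 6, 3, 2, 2, 7, 6, 3, 6, 6, 7, 7, 7, 3, 2, 2, 7, 2, 3, 6, 6, 7, 2, 7, 7, 7, 3, 2, 2, 7, 2, 3, 6, 6, 7, 2, 7, 3, 2, 2, 7, 2, 3, 6, 6, 7] (sel (ones 7128) ip2 130) = true := by decide +kernel

theorem rot2_130r : band (Rule.ok (2 * 0) EX RL ⟨2 :: [7, 7, 7, 3, 6, 3, 2, 2, 7, 6, 3, 6, 6, 7, 7, 7, 3, 2, 2, 7, 2, 3, 6, 6, 7, 2, 7, 7, 7, 3, 2, 2, 7, 2, 3, 6, 6, 7, 2, 7, 3, 2, 2, 7, 2, 3, 6, 6, 7], [5, 3, 3, 4, 3, 5, 2, 2, 4, 3, 5, 5, 2], 2, true⟩) (lall (memL L) [7, 7, 7, 3, 6, 3, 2, 2, 7, 6, 3, 6, 6, 7, 7, 7, 3, 2, 2, 7, 2, 3, 6, 6, 7, 2, 7, 7, 7, 3, 2, 2, 7, 2, 3, 6, 6, 7, 2, 7, 3, 2, 2, 7, 2, 3, 6, 6, 7]) = true := by decide +kernel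

theorem rot2_131 : T.rot 2 [2, 7, 6, 3, 6, 6, 7, 7, 7, 3, 2, 2, 7, 2, 3, 6, 6, 7, 2, 7, 7, 7, 3, 2, 2, 7, 2, 3, 6, 6, 7, 2, 7, 3, 2, 2, 7, 2, 3, 6, 6, 7, 2, 7, 7, 7, 3, 6, 3] (sel (ones 7128) ip2 131) = true := by decide +kernel

theorem rot2_131r : band (Rule.ok (2 * 0) EX RL ⟨2 :: [2, 7, 6, 3, 6, 6, 7, 7, 7, 3, 2, 2, 7, 2, 3, 6, 6, 7, 2, 7, 7, 7, 3, 2, 2, 7, 2, 3, 6, 6, 7, 2, 7, 3, 2, 2, 7, 2, 3, 6, 6, 7, 2, 7, 7, 7, 3, 6, 3], [5, 3, 3, 4, 3, 5, 2, 2], 2, true⟩) (lall (memL L) [2, 7, 6, 3, 6, 6, 7, 7, 7, 3, 2, 2, 7, 2, 3, 6, 6, 7, 2, 7, 7, 7, 3, 2, 2, 7, 2, 3, 6, 6, 7, 2, 7, 3, 2, 2, 7, 2, 3, 6, 6, 7, 2, 7, 7, 7, 3, 6, 3]) = true := by decide +kernel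

theorem rot2_132 : T.rot 2 [7, 6, 3, 6, 6, 7, 7, 7, 3, 2, 2, 7, 2, 3, 6, 6, 7, 2, 7, 7, 7, 3, 2, 2, 7, 2, 3, 6, 6, 7, 2, 7, 3, 2, 2, 7, 2, 3, 6, 6, 7, 2, 7, 7, 7, 3, 6, 3, 2] (sel (ones 7128) ip2 132) = true := by decide +kernel

theorem rot2_132r : band (Rule.ok (2 * 0) EX RL ⟨2 :: [7, 6, 3, 6, 6, 7, 7, 7, 3, 2, 2, 7, 2, 3, 6, 6, 7, 2, 7, 7, 7, 3, 2, 2, 7, 2, 3, 6, 6, 7, 2, 7, 3, 2, 2, 7, 2, 3, 6, 6, 7, 2, 7, 7, 7, 3, 6, 3, 2], [5, 3, 3, 4, 3, 5, 2], 2, true⟩) (lall (memL L) [7, 6, 3, 6, 6, 7, 7, 7, 3, 2, 2, 7, 2, 3, 6, 6, 7, 2, 7, 7, 7, 3, 2, 2, 7, 2, 3, 6, 6, 7, 2, 7, 3, 2, 2, 7, 2, 3, 6, 6, 7, 2, 7, 7, 7, 3, 6, 3, 2]) = true := by decide +kernel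

theorem rot2_133 : T.rot 2 [7, 2, 3, 6, 6, 7, 2, 7, 3, 3, 3, 6, 3, 2, 2, 7, 6, 3, 6, 6, 7, 3, 6, 3, 2, 2, 7, 6, 3, 6, 6, 7, 3, 3, 3, 6, 3, 2, 2, 7, 6, 3, 6, 6, 7, 3, 3, 3, 2] (sel (ones 7128) ip2 133) = true := by decide +kernel

theorem rot2_133r : band (Rule.ok (2 * 0) EX RL ⟨2 :: [7, 2, 3, 6, 6, 7, 2, 7, 3, 3, 3, 6, 3, 2, 2, 7, 6, 3, 6, 6, 7, 3, 6, 3, 2, 2, 7, 6, 3, 6, 6, 7, 3, 3, 3, 6, 3, 2, 2, 7, 6, 3, 6, 6, 7, 3, 3, 3, 2], [5, 3], 2, false⟩) (lall (memL L) [7, 2, 3, 6, 6, 7, 2, 7, 3, 3, 3, 6, 3, 2, 2, 7, 6, 3, 6, 6, 7, 3, 6, 3, 2, 2, 7, 6, 3, 6, 6, 7, 3, 3, 3, 6, 3, 2, 2, 7, 6, 3, 6, 6, 7, 3, 3, 3, 2]) = true := by decide +kernel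

theorem rot2_134 : T.rot 2 [2, 7, 6, 3, 6, 6, 7, 3, 3, 3, 6, 3, 2, 2, 7, 6, 3, 6, 6, 7, 3, 3, 3, 2, 2, 7, 2, 3, 6, 6, 7, 2, 7, 3, 3, 3, 6, 3, 2, 2, 7, 6, 3, 6, 6, 7, 3, 6, 3] (sel (ones 7128) ip2 134) = true := by decide +kernel

theorem rot2_134r : band (Rule.ok (2 * 0) EX RL ⟨2 :: [2, 7, 6, 3, 6, 6, 7, 3, 3, 3, 6, 3, 2, 2, 7, 6, 3, 6, 6, 7, 3, 3, 3, 2, 2, 7, 2, 3, 6, 6, 7, 2, 7, 3, 3, 3, 6, 3, 2, 2, 7, 6, 3, 6, 6, 7, 3, 6, 3], [4, 3, 3, 4, 3, 5, 2, 2, 4, 3, 4, 4, 3, 3, 4, 3, 5, 2, 2], 2, false⟩) (lall (memL L) [2, 7, 6, 3, 6, 6, 7, 3, 3, 3, 6, 3, 2, 2, 7, 6, 3, 6, 6, 7, 3, 3, 3, 2, 2, 7, 2, 3, 6, 6, 7, 2, 7, 3, 3, 3, 6, 3, 2, 2, 7, 6, 3, 6, 6, 7, 3, 6, 3]) = true := by decide +kernel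

theorem rot2_135 : T.rot 2 [7, 6, 3, 6, 6, 7, 3, 3, 3, 6, 3, 2, 2, 7, 6, 3, 6, 6, 7, 3, 3, 3, 2, 2, 7, 2, 3, 6, 6, 7, 2, 7, 3, 3, 3, 6, 3, 2, 2, 7, 6, 3, 6, 6, 7, 3, 6, 3, 2] (sel (ones 7128) ip2 135) = true := by decide +kernel

theorem rot2_135r : band (Rule.ok (2 * 0) EX RL ⟨2 :: [7, 6, 3, 6, 6, 7, 3, 3, 3, 6, 3, 2, 2, 7, 6, 3, 6, 6, 7, 3, 3, 3, 2, 2, 7, 2, 3, 6, 6, 7, 2, 7, 3, 3, 3, 6, 3, 2, 2, 7, 6, 3, 6, 6, 7, 3, 6, 3, 2], [4, 3, 3, 4, 3, 5, 2, 2, 4, 3, 4, 4, 3, 3, 4, 3, 5, 2], 2, false⟩) (lall (memL L) [7, 6, 3, 6, 6, 7, 3, 3, 3, 6, 3, 2, 2, 7, 6, 3, 6, 6, 7, 3, 3, 3, 2, 2, 7, 2, 3, 6, 6, 7, 2, 7, 3, 3, 3, 6, 3, 2, 2, 7, 6, 3, 6, 6, 7, 3, 6, 3, 2]) = true := by decide +kernel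

theorem rot2_136 : T.rot 2 [7, 6, 3, 6, 6, 7, 3, 3, 3, 2, 2, 7, 2, 3, 6, 6, 7, 2, 7, 3, 3, 3, 6, 3, 2, 2, 7, 6, 3, 6, 6, 7, 3, 6, 3, 2, 2, 7, 6, 3, 6, 6, 7, 3, 3, 3, 6, 3, 2] (sel (ones 7128) ip2 136) = true := by decide +kernel

theorem rot2_136r : band (Rule.ok (2 * 0) EX RL ⟨2 :: [7, 6, 3, 6, 6, 7, 3, 3, 3, 2, 2, 7, 2, 3, 6, 6, 7, 2, 7, 3, 3, 3, 6, 3, 2, 2, 7, 6, 3, 6, 6, 7, 3, 6, 3, 2, 2, 7, 6, 3, 6, 6, 7, 3, 3, 3, 6, 3, 2], [4, 3, 3, 4, 3, 5, 2], 2, false⟩) (lall (memL L) [7, 6, 3, 6, 6, 7, 3, 3, 3, 2, 2, 7, 2, 3, 6, 6, 7, 2, 7, 3, 3, 3, 6, 3, 2, 2, 7, 6, 3, 6, 6, 7, 3, 6, 3, 2, 2, 7, 6, 3, 6, 6, 7, 3, 3, 3, 6, 3, 2]) = true := by decide +kernel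

theorem cov2 : T.cover 2 [(sel (ones 7128) ip2 1), (sel (ones 7128) ip2 2), (sel (ones 7128) ip2 3), (sel (ones 7128) ip2 4), (sel (ones 7128) ip2 5), (sel (ones 7128) ip2 6), (sel (ones 7128) ip2 7), (sel (ones 7128) ip2 8), (sel (ones 7128) ip2 9), (sel (ones 7128) ip2 10), (sel (ones 7128) ip2 11), (sel (ones 7128) ip2 12), (sel (ones 7128) ip2 13), (sel (ones 7128) ip2 14), (sel (ones 7128) ip2 15), (sel (ones 7128) ip2 16), (sel (ones 7128) ip2 17), (sel (ones 7128) ip2 18), (sel (ones 7128) ip2 19), (sel (ones 7128) ip2 20), (sel (ones 7128) ip2 21), (sel (ones 7128) ip2 22), (sel (ones 7128) ip2 23), (sel (ones 7128) ip2 24), (sel (ones 7128) ip2 25), (sel (ones 7128) ip2 26), (sel (ones 7128) ip2 27), (sel (ones 7128) ip2 28), (sel (ones 7128) ip2 29), (sel (ones 7128)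 ip2 30), (sel (ones 7128) ip2 31), (sel (ones 7128) ip2 32), (sel (ones 7128) ip2 33), (sel (ones 7128) ip2 34), (sel (ones 7128) ip2 35), (sel (ones 7128) ip2 36), (sel (ones 7128) ip2 37), (sel (ones 7128) ip2 38), (sel (ones 7128) ip2 39), (sel (ones 7128) ip2 40), (sel (ones 7128) ip2 41), (sel (ones 7128) ip2 42), (sel (ones 7128) ip2 43), (sel (ones 7128) ip2 44), (sel (ones 7128) ip2 45), (sel (ones 7128) ip2 46), (sel (ones 7128) ip2 47), (sel (ones 7128) ip2 48), (sel (ones 7128) ip2 49), (sel (ones 7128) ip2 50), (sel (ones 7128) ip2 51), (sel (ones 7128) ip2 52), (sel (ones 7128) ip2 53), (sel (ones 7128) ip2 54), (sel (ones 7128) ip2 55), (sel (ones 7128) ip2 56), (sel (ones 7128) ip2 57), (sel (ones 7128) ip2 58), (sel (ones 7128) ip2 59), (sel (ones 7128) ip2 60),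 (sel (ones 7128) ip2 61), (sel (ones 7128) ip2 62), (sel (ones 7128) ip2 63), (sel (ones 7128) ip2 64), (sel (ones 7128) ip2 65), (sel (ones 7128) ip2 66), (sel (ones 7128) ip2 67), (sel (ones 7128) ip2 68), (sel (ones 7128) ip2 69), (sel (ones 7128) ip2 70), (sel (ones 7128) ip2 71), (sel (ones 7128) ip2 72), (sel (ones 7128) ip2 73), (sel (ones 7128) ip2 74), (sel (ones 7128) ip2 75), (sel (ones 7128) ip2 76), (sel (ones 7128) ip2 77), (sel (ones 7128) ip2 78), (sel (ones 7128) ip2 79), (sel (ones 7128) ip2 80), (sel (ones 7128) ip2 81), (sel (ones 7128) ip2 82), (sel (ones 7128) ip2 83), (sel (ones 7128) ip2 84), (sel (ones 7128) ip2 85), (sel (ones 7128) ip2 86), (sel (ones 7128) ip2 87), (sel (ones 7128) ip2 88), (sel (ones 7128) ip2 89), (sel (ones 7128) ip2 90), (sel (ones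 7128) ip2 91), (sel (ones 7128) ip2 92), (sel (ones 7128) ip2 93), (sel (ones 7128) ip2 94), (sel (ones 7128) ip2 95), (sel (ones 7128) ip2 96), (sel (ones 7128) ip2 97), (sel (ones 7128) ip2 98), (sel (ones 7128) ip2 99), (sel (ones 7128) ip2 100), (sel (ones 7128) ip2 101), (sel (ones 7128) ip2 102), (sel (ones 7128) ip2 103), (sel (ones 7128) ip2 104), (sel (ones 7128) ip2 105), (sel (ones 7128) ip2 106), (sel (ones 7128) ip2 107), (sel (ones 7128) ip2 108), (sel (ones 7128) ip2 109), (sel (ones 7128) ip2 110), (sel (ones 7128) ip2 111), (sel (ones 7128) ip2 112), (sel (ones 7128) ip2 113), (sel (ones 7128) ip2 114), (sel (ones 7128) ip2 115), (sel (ones 7128) ip2 116), (sel (ones 7128) ip2 117), (sel (ones 7128) ip2 118), (sel (ones 7128) ip2 119), (sel (ones 7128) ip2 120),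 (sel (ones 7128) ip2 121), (sel (ones 7128) ip2 122), (sel (ones 7128) ip2 123), (sel (ones 7128) ip2 124), (sel (ones 7128) ip2 125), (sel (ones 7128) ip2 126), (sel (ones 7128) ip2 127), (sel (ones 7128) ip2 128), (sel (ones 7128) ip2 129), (sel (ones 7128) ip2 130), (sel (ones 7128) ip2 131), (sel (ones 7128) ip2 132), (sel (ones 7128) ip2 133), (sel (ones 7128) ip2 134), (sel (ones 7128) ip2 135), (sel (ones 7128) ip2 136), 1] = true := by decide +kernel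

theorem tl2 : T.treeLt 13 2 = true := by decide +kernel

theorem rot3_1 : T.rot 3 [7] (sel (ones 7128) ip3 1) = true := by decide +kernel

theorem rot3_1r : band (Rule.ok (2 * 0) EX RL ⟨3 :: [7], [], 29, false⟩) (lall (memL L) [7]) = true := by decide +kernel

theorem rot3_2 : T.rot 3 [3, 3, 3] (sel (ones 7128) ip3 2) = true := by decide +kernel

theorem rot3_2r : band (Rule.ok (2 * 0) EX RL ⟨3 :: [3, 3, 3], [], 5, false⟩) (lall (memL L) [3, 3, 3]) = true := by decide +kernel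

theorem rot3_3 : T.rot 3 [5, 3, 5] (sel (ones 7128) ip3 3) = true := by decide +kernel

theorem rot3_3r : band (Rule.ok (2 * 0) EX RL ⟨3 :: [5, 3, 5], [], 11, false⟩) (lall (memL L) [5, 3, 5]) = true := by decide +kernel

theorem rot3_4 : T.rot 3 [1, 3, 1] (sel (ones 7128) ip3 4) = true := by decide +kernel

theorem rot3_4r : band (Rule.ok (2 * 0) EX RL ⟨3 :: [1, 3, 1], [4], 13, true⟩) (lall (memL L) [1, 3, 1]) = true := by decide +kernel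

theorem rot3_5 : T.rot 3 [3, 5, 5, 5, 5] (sel (ones 7128) ip3 5) = true := by decide +kernel

theorem rot3_5r : band (Rule.ok (2 * 0) EX RL ⟨3 :: [3, 5, 5, 5, 5], [], 12, false⟩) (lall (memL L) [3, 5, 5, 5, 5]) = true := by decide +kernel

theorem rot3_6 : T.rot 3 [5, 5, 5, 5, 3] (sel (ones 7128) ip3 6) = true := by decide +kernel

theorem rot3_6r : band (Rule.ok (2 * 0) EX RL ⟨3 :: [5, 5, 5, 5, 3], [5], 12, false⟩) (lall (memL L) [5, 5, 5, 5, 3]) = true := by decide +kernel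

theorem rot3_7 : T.rot 3 [4, 7, 7, 8, 3] (sel (ones 7128) ip3 7) = true := by decide +kernel

theorem rot3_7r : band (Rule.ok (2 * 0) EX RL ⟨3 :: [4, 7, 7, 8, 3], [], 14, true⟩) (lall (memL L) [4, 7, 7, 8, 3]) = true := by decide +kernel

theorem rot3_8 : T.rot 3 [3, 4, 7, 7, 8] (sel (ones 7128) ip3 8) = true := by decide +kernel

theorem rot3_8r : band (Rule.ok (2 * 0) EX RL ⟨3 :: [3, 4, 7, 7, 8], [4], 14, true⟩) (lall (memL L) [3, 4, 7, 7, 8]) = true := by decide +kernel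

theorem rot3_9 : T.rot 3 [3, 8, 7, 7, 4] (sel (ones 7128) ip3 9) = true := by decide +kernel

theorem rot3_9r : band (Rule.ok (2 * 0) EX RL ⟨3 :: [3, 8, 7, 7, 4], [4, 7], 14, false⟩) (lall (memL L) [3, 8, 7, 7, 4]) = true := by decide +kernel

theorem rot3_10 : T.rot 3 [8, 7, 7, 4, 3] (sel (ones 7128) ip3 10) = true := by decide +kernel

theorem rot3_10r : band (Rule.ok (2 * 0) EX RL ⟨3 :: [8, 7, 7, 4, 3], [5, 7, 4], 14, false⟩) (lall (memL L) [8, 7, 7, 4, 3]) = true := by decide +kernel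

theorem rot3_11 : T.rot 3 [3, 4, 1, 1, 4] (sel (ones 7128) ip3 11) = true := by decide +kernel

theorem rot3_11r : band (Rule.ok (2 * 0) EX RL ⟨3 :: [3, 4, 1, 1, 4], [1, 7], 18, false⟩) (lall (memL L) [3, 4, 1, 1, 4]) = true := by decide +kernel

theorem rot3_12 : T.rot 3 [4, 1, 1, 4, 3] (sel (ones 7128) ip3 12) = true := by decide +kernel

theorem rot3_12r : band (Rule.ok (2 * 0) EX RL ⟨3 :: [4, 1, 1, 4, 3], [0, 6, 4], 18, false⟩) (lall (memL L) [4, 1, 1, 4, 3]) = true := by decide +kernel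

theorem rot3_13 : T.rot 3 [4, 4, 3, 8, 8] (sel (ones 7128) ip3 13) = true := by decide +kernel

theorem rot3_13r : band (Rule.ok (2 * 0) EX RL ⟨3 :: [4, 4, 3, 8, 8], [6], 20, true⟩) (lall (memL L) [4, 4, 3, 8, 8]) = true := by decide +kernel

theorem rot3_14 : T.rot 3 [8, 8, 3, 4, 4] (sel (ones 7128) ip3 14) = true := by decide +kernel

theorem rot3_14r : band (Rule.ok (2 * 0) EX RL ⟨3 :: [8, 8, 3, 4, 4], [7, 4], 20, true⟩) (lall (memL L) [8, 8, 3, 4, 4]) = true := by decide +kernel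

theorem rot3_15 : T.rot 3 [6, 8, 6, 8, 6, 5, 2, 7, 1] (sel (ones 7128) ip3 15) = true := by decide +kernel

theorem rot3_15r : band (Rule.ok (2 * 0) EX RL ⟨3 :: [6, 8, 6, 8, 6, 5, 2, 7, 1], [1], 24, true⟩) (lall (memL L) [6, 8, 6, 8, 6, 5, 2, 7, 1]) = true := by decide +kernel

theorem rot3_16 : T.rot 3 [6, 1, 2, 4, 2, 4, 2, 7, 5] (sel (ones 7128) ip3 16) = true := by decide +kernel

theorem rot3_16r : band (Rule.ok (2 * 0) EX RL ⟨3 :: [6, 1, 2, 4, 2, 4, 2, 7, 5], [], 24, false⟩) (lall (memL L) [6, 1, 2, 4, 2, 4, 2, 7, 5]) = true := by decide +kernel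

theorem rot3_17 : T.rot 3 [2, 8, 2, 1, 8, 6, 5, 8, 7, 1] (sel (ones 7128) ip3 17) = true := by decide +kernel

theorem rot3_17r : band (Rule.ok (2 * 0) EX RL ⟨3 :: [2, 8, 2, 1, 8, 6, 5, 8, 7, 1], [1], 21, true⟩) (lall (memL L) [2, 8, 2, 1, 8, 6, 5, 8, 7, 1]) = true := by decide +kernel

theorem rot3_18 : T.rot 3 [4, 1, 2, 4, 5, 6, 4, 6, 7, 5] (sel (ones 7128) ip3 18) = true := by decide +kernel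

theorem rot3_18r : band (Rule.ok (2 * 0) EX RL ⟨3 :: [4, 1, 2, 4, 5, 6, 4, 6, 7, 5], [], 21, false⟩) (lall (memL L) [4, 1, 2, 4, 5, 6, 4, 6, 7, 5]) = true := by decide +kernel

theorem rot3_19 : T.rot 3 [3, 2, 3, 3, 6, 3, 3, 6, 3, 3, 2] (sel (ones 7128) ip3 19) = true := by decide +kernel

theorem rot3_19r : band (Rule.ok (2 * 0) EX RL ⟨3 :: [3, 2, 3, 3, 6, 3, 3, 6, 3, 3, 2], [3], 4, false⟩) (lall (memL L) [3, 2, 3, 3, 6, 3, 3, 6, 3, 3, 2]) = true := by decide +kernel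

theorem rot3_20 : T.rot 3 [2, 3, 3, 6, 3, 3, 6, 3, 3, 2, 3] (sel (ones 7128) ip3 20) = true := by decide +kernel

theorem rot3_20r : band (Rule.ok (2 * 0) EX RL ⟨3 :: [2, 3, 3, 6, 3, 3, 6, 3, 3, 2, 3], [3, 5], 4, false⟩) (lall (memL L) [2, 3, 3, 6, 3, 3, 6, 3, 3, 2, 3]) = true := by decide +kernel

theorem rot3_21 : T.rot 3 [3, 6, 3, 3, 6, 3, 3, 2, 3, 3, 2] (sel (ones 7128) ip3 21) = true := by decide +kernel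

theorem rot3_21r : band (Rule.ok (2 * 0) EX RL ⟨3 :: [3, 6, 3, 3, 6, 3, 3, 2, 3, 3, 2], [3, 5, 5, 3], 4, false⟩) (lall (memL L) [3, 6, 3, 3, 6, 3, 3, 2, 3, 3, 2]) = true := by decide +kernel

theorem rot3_22 : T.rot 3 [6, 3, 3, 6, 3, 3, 2, 3, 3, 2, 3] (sel (ones 7128) ip3 22) = true := by decide +kernel

theorem rot3_22r : band (Rule.ok (2 * 0) EX RL ⟨3 :: [6, 3, 3, 6, 3, 3, 2, 3, 3, 2, 3], [3, 5, 5, 3, 5], 4, false⟩) (lall (memL L) [6, 3, 3, 6, 3, 3, 2, 3, 3, 2, 3]) = true := by decide +kernel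

theorem rot3_23 : T.rot 3 [3, 6, 3, 3, 2, 3, 3, 2, 3, 3, 6] (sel (ones 7128) ip3 23) = true := by decide +kernel

theorem rot3_23r : band (Rule.ok (2 * 0) EX RL ⟨3 :: [3, 6, 3, 3, 2, 3, 3, 2, 3, 3, 6], [4, 4, 3, 4, 4], 4, false⟩) (lall (memL L) [3, 6, 3, 3, 2, 3, 3, 2, 3, 3, 6]) = true := by decide +kernel

theorem rot3_24 : T.rot 3 [6, 3, 3, 2, 3, 3, 2, 3, 3, 6, 3] (sel (ones 7128) ip3 24) = true := by decide +kernel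

theorem rot3_24r : band (Rule.ok (2 * 0) EX RL ⟨3 :: [6, 3, 3, 2, 3, 3, 2, 3, 3, 6, 3], [4, 4, 3, 4], 4, false⟩) (lall (memL L) [6, 3, 3, 2, 3, 3, 2, 3, 3, 6, 3]) = true := by decide +kernel

theorem rot3_25 : T.rot 3 [3, 2, 3, 3, 2, 3, 3, 6, 3, 3, 6] (sel (ones 7128) ip3 25) = true := by decide +kernel

theorem rot3_25r : band (Rule.ok (2 * 0) EX RL ⟨3 :: [3, 2, 3, 3, 2, 3, 3, 6, 3, 3, 6], [4, 4], 4, false⟩) (lall (memL L) [3, 2, 3, 3, 2, 3, 3, 6, 3, 3, 6]) = true := by decide +kernel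

theorem rot3_26 : T.rot 3 [2, 3, 3, 2, 3, 3, 6, 3, 3, 6, 3] (sel (ones 7128) ip3 26) = true := by decide +kernel

theorem rot3_26r : band (Rule.ok (2 * 0) EX RL ⟨3 :: [2, 3, 3, 2, 3, 3, 6, 3, 3, 6, 3], [4], 4, false⟩) (lall (memL L) [2, 3, 3, 2, 3, 3, 6, 3, 3, 6, 3]) = true := by decide +kernel

theorem rot3_27 : T.rot 3 [2, 7, 6, 3, 2, 7, 6, 3, 2, 7, 6] (sel (ones 7128) ip3 27) = true := by decide +kernel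

theorem rot3_27r : band (Rule.ok (2 * 0) EX RL ⟨3 :: [2, 7, 6, 3, 2, 7, 6, 3, 2, 7, 6], [], 9, true⟩) (lall (memL L) [2, 7, 6, 3, 2, 7, 6, 3, 2, 7, 6]) = true := by decide +kernel

theorem rot3_28 : T.rot 3 [6, 7, 2, 3, 6, 7, 2, 3, 6, 7, 2] (sel (ones 7128) ip3 28) = true := by decide +kernel

theorem rot3_28r : band (Rule.ok (2 * 0) EX RL ⟨3 :: [6, 7, 2, 3, 6, 7, 2, 3, 6, 7, 2], [3], 9, false⟩) (lall (memL L) [6, 7, 2, 3, 6, 7, 2, 3, 6, 7, 2]) = true := by decide +kernel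

theorem rot3_29 : T.rot 3 [4, 2, 1, 4, 2, 2, 1, 4, 6, 7, 1] (sel (ones 7128) ip3 29) = true := by decide +kernel

theorem rot3_29r : band (Rule.ok (2 * 0) EX RL ⟨3 :: [4, 2, 1, 4, 2, 2, 1, 4, 6, 7, 1], [1], 23, true⟩) (lall (memL L) [4, 2, 1, 4, 2, 2, 1, 4, 6, 7, 1]) = true := by decide +kernel

theorem rot3_30 : T.rot 3 [2, 8, 5, 6, 6, 8, 5, 6, 8, 7, 5] (sel (ones 7128) ip3 30) = true := by decide +kernel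

theorem rot3_30r : band (Rule.ok (2 * 0) EX RL ⟨3 :: [2, 8, 5, 6, 6, 8, 5, 6, 8, 7, 5], [], 23, false⟩) (lall (memL L) [2, 8, 5, 6, 6, 8, 5, 6, 8, 7, 5]) = true := by decide +kernel

theorem rot3_31 : T.rot 3 [2, 1, 1, 4, 2, 4, 6, 1, 2, 7, 1] (sel (ones 7128) ip3 31) = true := by decide +kernel

theorem rot3_31r : band (Rule.ok (2 * 0) EX RL ⟨3 :: [2, 1, 1, 4, 2, 4, 6, 1, 2, 7, 1], [1], 25, true⟩) (lall (memL L) [2, 1, 1, 4, 2, 4, 6, 1, 2, 7, 1]) = true := by decide +kernel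

theorem rot3_32 : T.rot 3 [6, 5, 2, 8, 6, 8, 5, 5, 6, 7, 5] (sel (ones 7128) ip3 32) = true := by decide +kernel

theorem rot3_32r : band (Rule.ok (2 * 0) EX RL ⟨3 :: [6, 5, 2, 8, 6, 8, 5, 5, 6, 7, 5], [], 25, false⟩) (lall (memL L) [6, 5, 2, 8, 6, 8, 5, 5, 6, 7, 5]) = true := by decide +kernel

theorem rot3_33 : T.rot 3 [6, 6, 3, 6, 7, 2, 1, 6, 7, 2, 2] (sel (ones 7128) ip3 33) = true := by decide +kernel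

theorem rot3_33r : band (Rule.ok (2 * 0) EX RL ⟨3 :: [6, 6, 3, 6, 7, 2, 1, 6, 7, 2, 2], [1, 2, 4, 3, 3], 26, true⟩) (lall (memL L) [6, 6, 3, 6, 7, 2, 1, 6, 7, 2, 2]) = true := by decide +kernel

theorem rot3_34 : T.rot 3 [6, 7, 2, 1, 6, 7, 2, 2, 3, 6, 6] (sel (ones 7128) ip3 34) = true := by decide +kernel

theorem rot3_34r : band (Rule.ok (2 * 0) EX RL ⟨3 :: [6, 7, 2, 1, 6, 7, 2, 2, 3, 6, 6], [2, 5, 3, 4], 26, true⟩) (lall (memL L) [6, 7, 2, 1, 6, 7, 2, 2, 3, 6, 6]) = true := by decide +kernel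

theorem rot3_35 : T.rot 3 [2, 7, 2, 2, 7, 6, 6, 3, 2, 5, 6] (sel (ones 7128) ip3 35) = true := by decide +kernel

theorem rot3_35r : band (Rule.ok (2 * 0) EX RL ⟨3 :: [2, 7, 2, 2, 7, 6, 6, 3, 2, 5, 6], [2], 26, false⟩) (lall (memL L) [2, 7, 2, 2, 7, 6, 6, 3, 2, 5, 6]) = true := by decide +kernel

theorem rot3_36 : T.rot 3 [2, 5, 6, 3, 2, 7, 2, 2, 7, 6, 6] (sel (ones 7128) ip3 36) = true := by decide +kernel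

theorem rot3_36r : band (Rule.ok (2 * 0) EX RL ⟨3 :: [2, 5, 6, 3, 2, 7, 2, 2, 7, 6, 6], [1, 2, 4], 26, false⟩) (lall (memL L) [2, 5, 6, 3, 2, 7, 2, 2, 7, 6, 6]) = true := by decide +kernel

theorem rot3_37 : T.rot 3 [2, 4, 6, 4, 6, 7, 2, 7, 6, 1, 6] (sel (ones 7128) ip3 37) = true := by decide +kernel

theorem rot3_37r : band (Rule.ok (2 * 0) EX RL ⟨3 :: [2, 4, 6, 4, 6, 7, 2, 7, 6, 1, 6], [3, 6, 2, 4], 27, true⟩) (lall (memL L) [2, 4, 6, 4, 6, 7, 2, 7, 6, 1, 6]) = true := by decide +kernel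

theorem rot3_38 : T.rot 3 [6, 3, 2, 8, 2, 8, 6, 7, 2, 5, 2] (sel (ones 7128) ip3 38) = true := by decide +kernel

theorem rot3_38r : band (Rule.ok (2 * 0) EX RL ⟨3 :: [6, 3, 2, 8, 2, 8, 6, 7, 2, 5, 2], [7, 2, 4, 3, 4], 27, false⟩) (lall (memL L) [6, 3, 2, 8, 2, 8, 6, 7, 2, 5, 2]) = true := by decide +kernel

theorem rot3_39 : T.rot 3 [2, 8, 2, 8, 6, 7, 2, 5, 2, 3, 6] (sel (ones 7128) ip3 39) = true := by decide +kernel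

theorem rot3_39r : band (Rule.ok (2 * 0) EX RL ⟨3 :: [2, 8, 2, 8, 6, 7, 2, 5, 2, 3, 6], [7, 2, 4], 27, false⟩) (lall (memL L) [2, 8, 2, 8, 6, 7, 2, 5, 2, 3, 6]) = true := by decide +kernel

theorem rot3_40 : T.rot 3 [2, 3, 2, 2, 7, 2, 2, 3, 2, 7, 2, 2, 3, 3, 2] (sel (ones 7128) ip3 40) = true := by decide +kernel

theorem rot3_40r : band (Rule.ok (2 * 0) EX RL ⟨3 :: [2, 3, 2, 2, 7, 2, 2, 3, 2, 7, 2, 2, 3, 3, 2], [], 8, true⟩) (lall (memL L) [2, 3, 2, 2, 7, 2, 2, 3, 2, 7, 2, 2, 3, 3, 2]) = true := by decide +kernel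

theorem rot3_41 : T.rot 3 [2, 2, 7, 2, 2, 3, 2, 7, 2, 2, 3, 3, 2, 3, 2] (sel (ones 7128) ip3 41) = true := by decide +kernel

theorem rot3_41r : band (Rule.ok (2 * 0) EX RL ⟨3 :: [2, 2, 7, 2, 2, 3, 2, 7, 2, 2, 3, 3, 2, 3, 2], [5, 3], 8, true⟩) (lall (memL L) [2, 2, 7, 2, 2, 3, 2, 7, 2, 2, 3, 3, 2, 3, 2]) = true := by decide +kernel

theorem rot3_42 : T.rot 3 [2, 7, 2, 2, 3, 3, 2, 3, 2, 3, 2, 2, 7, 2, 2] (sel (ones 7128) ip3 42) = true := by decide +kernel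

theorem rot3_42r : band (Rule.ok (2 * 0) EX RL ⟨3 :: [2, 7, 2, 2, 3, 3, 2, 3, 2, 3, 2, 2, 7, 2, 2], [2, 4, 4, 2, 2, 5, 2, 4], 8, true⟩) (lall (memL L) [2, 7, 2, 2, 3, 3, 2, 3, 2, 3, 2, 2, 7, 2, 2]) = true := by decide +kernel

theorem rot3_43 : T.rot 3 [3, 2, 3, 2, 3, 2, 2, 7, 2, 2, 3, 2, 7, 2, 2] (sel (ones 7128) ip3 43) = true := by decide +kernel

theorem rot3_43r : band (Rule.ok (2 * 0) EX RL ⟨3 :: [3, 2, 3, 2, 3, 2, 2, 7, 2, 2, 3, 2, 7, 2, 2], [2, 4, 4], 8, true⟩) (lall (memL L) [3, 2, 3, 2, 3, 2, 2, 7, 2, 2, 3, 2, 7, 2, 2]) = true := by decide +kernel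

theorem rot3_44 : T.rot 3 [2, 3, 2, 3, 2, 2, 7, 2, 2, 3, 2, 7, 2, 2, 3] (sel (ones 7128) ip3 44) = true := by decide +kernel

theorem rot3_44r : band (Rule.ok (2 * 0) EX RL ⟨3 :: [2, 3, 2, 3, 2, 2, 7, 2, 2, 3, 2, 7, 2, 2, 3], [2, 4], 8, true⟩) (lall (memL L) [2, 3, 2, 3, 2, 2, 7, 2, 2, 3, 2, 7, 2, 2, 3]) = true := by decide +kernel

theorem rot3_45 : T.rot 3 [6, 7, 6, 6, 3, 6, 6, 7, 6, 7, 6, 7, 7, 6, 6] (sel (ones 7128) ip3 45) = true := by decide +kernel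

theorem rot3_45r : band (Rule.ok (2 * 0) EX RL ⟨3 :: [6, 7, 6, 6, 3, 6, 6, 7, 6, 7, 6, 7, 7, 6, 6], [2, 4, 4, 2, 2], 8, false⟩) (lall (memL L) [6, 7, 6, 6, 3, 6, 6, 7, 6, 7, 6, 7, 7, 6, 6]) = true := by decide +kernel

theorem rot3_46 : T.rot 3 [6, 6, 7, 6, 7, 6, 7, 7, 6, 6, 3, 6, 7, 6, 6] (sel (ones 7128) ip3 46) = true := by decide +kernel

theorem rot3_46r : band (Rule.ok (2 * 0) EX RL ⟨3 :: [6, 6, 7, 6, 7, 6, 7, 7, 6, 6, 3, 6, 7, 6, 6], [5, 3, 5, 3, 3, 4], 8, false⟩) (lall (memL L) [6, 6, 7, 6, 7, 6, 7, 7, 6, 6, 3, 6, 7, 6, 6]) = true := by decide +kernel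

theorem rot3_47 : T.rot 3 [2, 8, 2, 7, 4, 2, 1, 2, 7, 8, 7, 2, 2, 7, 2, 2, 4, 1] (sel (ones 7128) ip3 47) = true := by decide +kernel

theorem rot3_47r : band (Rule.ok (2 * 0) EX RL ⟨3 :: [2, 8, 2, 7, 4, 2, 1, 2, 7, 8, 7, 2, 2, 7, 2, 2, 4, 1], [7, 1], 28, true⟩) (lall (memL L) [2, 8, 2, 7, 4, 2, 1, 2, 7, 8, 7, 2, 2, 7, 2, 2, 4, 1]) = true := by decide +kernel

theorem rot3_48 : T.rot 3 [6, 6, 3, 4, 3, 6, 5, 6, 8, 3, 6, 4, 6, 7, 5, 8, 6, 6] (sel (ones 7128) ip3 48) = true := by decide +kernel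

theorem rot3_48r : band (Rule.ok (2 * 0) EX RL ⟨3 :: [6, 6, 3, 4, 3, 6, 5, 6, 8, 3, 6, 4, 6, 7, 5, 8, 6, 6], [2, 2], 28, false⟩) (lall (memL L) [6, 6, 3, 4, 3, 6, 5, 6, 8, 3, 6, 4, 6, 7, 5, 8, 6, 6]) = true := by decide +kernel

theorem rot3_49 : T.rot 3 [4, 3, 6, 5, 6, 8, 3, 6, 4, 6, 7, 5, 8, 6, 6, 3, 6, 6] (sel (ones 7128) ip3 49) = true := by decide +kernel

theorem rot3_49r : band (Rule.ok (2 * 0) EX RL ⟨3 :: [4, 3, 6, 5, 6, 8, 3, 6, 4, 6, 7, 5, 8, 6, 6, 3, 6, 6], [2, 2, 5, 2, 2], 28, false⟩) (lall (memL L) [4, 3, 6, 5, 6, 8, 3, 6, 4, 6, 7, 5, 8, 6, 6, 3, 6, 6]) = true := by decide +kernel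

theorem rot3_50 : T.rot 3 [6, 5, 6, 8, 3, 6, 4, 6, 7, 5, 8, 6, 6, 3, 6, 6, 3, 4] (sel (ones 7128) ip3 50) = true := by decide +kernel

theorem rot3_50r : band (Rule.ok (2 * 0) EX RL ⟨3 :: [6, 5, 6, 8, 3, 6, 4, 6, 7, 5, 8, 6, 6, 3, 6, 6, 3, 4], [2, 2, 5, 2, 2, 5, 7], 28, false⟩) (lall (memL L) [6, 5, 6, 8, 3, 6, 4, 6, 7, 5, 8, 6, 6, 3, 6, 6, 3, 4]) = true := by decide +kernel

theorem rot3_51 : T.rot 3 [6, 4, 6, 7, 5, 8, 6, 6, 3, 6, 6, 3, 4, 3, 6, 5, 6, 8] (sel (ones 7128) ip3 51) = true := by decide +kernel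

theorem rot3_51r : band (Rule.ok (2 * 0) EX RL ⟨3 :: [6, 4, 6, 7, 5, 8, 6, 6, 3, 6, 6, 3, 4, 3, 6, 5, 6, 8], [7, 1, 5, 3, 6, 3, 4], 28, false⟩) (lall (memL L) [6, 4, 6, 7, 5, 8, 6, 6, 3, 6, 6, 3, 4, 3, 6, 5, 6, 8]) = true := by decide +kernel

theorem rot3_52 : T.rot 3 [3, 2, 2, 7, 6, 3, 6, 3, 2, 7, 3, 6, 3, 2, 2, 7, 6, 3, 6, 6, 7, 3, 2] (sel (ones 7128) ip3 52) = true := by decide +kernel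

theorem rot3_52r : band (Rule.ok (2 * 0) EX RL ⟨3 :: [3, 2, 2, 7, 6, 3, 6, 3, 2, 7, 3, 6, 3, 2, 2, 7, 6, 3, 6, 6, 7, 3, 2], [5, 3], 7, true⟩) (lall (memL L) [3, 2, 2, 7, 6, 3, 6, 3, 2, 7, 3, 6, 3, 2, 2, 7, 6, 3, 6, 6, 7, 3, 2]) = true := by decide +kernel

theorem rot3_53 : T.rot 3 [2, 2, 7, 6, 3, 6, 3, 2, 7, 3, 6, 3, 2, 2, 7, 6, 3, 6, 6, 7, 3, 2, 3] (sel (ones 7128) ip3 53) = true := by decide +kernel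

theorem rot3_53r : band (Rule.ok (2 * 0) EX RL ⟨3 :: [2, 2, 7, 6, 3, 6, 3, 2, 7, 3, 6, 3, 2, 2, 7, 6, 3, 6, 6, 7, 3, 2, 3], [5, 3, 5], 7, true⟩) (lall (memL L) [2, 2, 7, 6, 3, 6, 3, 2, 7, 3, 6, 3, 2, 2, 7, 6, 3, 6, 6, 7, 3, 2, 3]) = true := by decide +kernel

theorem rot3_54 : T.rot 3 [6, 3, 2, 7, 3, 6, 3, 2, 2, 7, 6, 3, 6, 6, 7, 3, 2, 3, 3, 2, 2, 7, 6] (sel (ones 7128) ip3 54) = true := by decide +kernel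

theorem rot3_54r : band (Rule.ok (2 * 0) EX RL ⟨3 :: [6, 3, 2, 7, 3, 6, 3, 2, 2, 7, 6, 3, 6, 6, 7, 3, 2, 3, 3, 2, 2, 7, 6], [5, 3, 3, 4], 7, true⟩) (lall (memL L) [6, 3, 2, 7, 3, 6, 3, 2, 2, 7, 6, 3, 6, 6, 7, 3, 2, 3, 3, 2, 2, 7, 6]) = true := by decide +kernel

theorem rot3_55 : T.rot 3 [2, 7, 3, 6, 3, 2, 2, 7, 6, 3, 6, 6, 7, 3, 2, 3, 3, 2, 2, 7, 6, 3, 6] (sel (ones 7128) ip3 55) = true := by decide +kernel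

theorem rot3_55r : band (Rule.ok (2 * 0) EX RL ⟨3 :: [2, 7, 3, 6, 3, 2, 2, 7, 6, 3, 6, 6, 7, 3, 2, 3, 3, 2, 2, 7, 6, 3, 6], [5, 3], 7, true⟩) (lall (memL L) [2, 7, 3, 6, 3, 2, 2, 7, 6, 3, 6, 6, 7, 3, 2, 3, 3, 2, 2, 7, 6, 3, 6]) = true := by decide +kernel

theorem rot3_56 : T.rot 3 [2, 2, 7, 6, 3, 6, 6, 7, 3, 2, 3, 3, 2, 2, 7, 6, 3, 6, 3, 2, 7, 3, 6] (sel (ones 7128) ip3 56) = true := by decide +kernel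

theorem rot3_56r : band (Rule.ok (2 * 0) EX RL ⟨3 :: [2, 2, 7, 6, 3, 6, 6, 7, 3, 2, 3, 3, 2, 2, 7, 6, 3, 6, 3, 2, 7, 3, 6], [5, 3, 5], 7, true⟩) (lall (memL L) [2, 2, 7, 6, 3, 6, 6, 7, 3, 2, 3, 3, 2, 2, 7, 6, 3, 6, 3, 2, 7, 3, 6]) = true := by decide +kernel

theorem rot3_57 : T.rot 3 [6, 6, 7, 3, 2, 3, 3, 2, 2, 7, 6, 3, 6, 3, 2, 7, 3, 6, 3, 2, 2, 7, 6] (sel (ones 7128) ip3 57) = true := by decide +kernel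

theorem rot3_57r : band (Rule.ok (2 * 0) EX RL ⟨3 :: [6, 6, 7, 3, 2, 3, 3, 2, 2, 7, 6, 3, 6, 3, 2, 7, 3, 6, 3, 2, 2, 7, 6], [5, 3, 3, 4], 7, true⟩) (lall (memL L) [6, 6, 7, 3, 2, 3, 3, 2, 2, 7, 6, 3, 6, 3, 2, 7, 3, 6, 3, 2, 2, 7, 6]) = true := by decide +kernel

theorem rot3_58 : T.rot 3 [6, 6, 7, 2, 7, 3, 6, 7, 2, 7, 2, 3, 6, 6, 7, 7, 6, 7, 3, 2, 2, 7, 2] (sel (ones 7128) ip3 58) = true := by decide +kernel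

theorem rot3_58r : band (Rule.ok (2 * 0) EX RL ⟨3 :: [6, 6, 7, 2, 7, 3, 6, 7, 2, 7, 2, 3, 6, 6, 7, 7, 6, 7, 3, 2, 2, 7, 2], [5, 3, 3, 4, 3], 7, false⟩) (lall (memL L) [6, 6, 7, 2, 7, 3, 6, 7, 2, 7, 2, 3, 6, 6, 7, 7, 6, 7, 3, 2, 2, 7, 2]) = true := by decide +kernel

theorem rot3_59 : T.rot 3 [6, 6, 7, 7, 6, 7, 3, 2, 2, 7, 2, 3, 6, 6, 7, 2, 7, 3, 6, 7, 2, 7, 2] (sel (ones 7128) ip3 59) = true := by decide +kernel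

theorem rot3_59r : band (Rule.ok (2 * 0) EX RL ⟨3 :: [6, 6, 7, 7, 6, 7, 3, 2, 2, 7, 2, 3, 6, 6, 7, 2, 7, 3, 6, 7, 2, 7, 2], [5, 3, 3, 4, 3], 7, false⟩) (lall (memL L) [6, 6, 7, 7, 6, 7, 3, 2, 2, 7, 2, 3, 6, 6, 7, 2, 7, 3, 6, 7, 2, 7, 2]) = true := by decide +kernel

theorem rot3_60 : T.rot 3 [2, 2, 7, 6, 3, 6, 6, 7, 2, 3, 2, 2, 7, 2, 3, 6, 6, 7, 2, 7, 7, 7, 2, 2, 7, 7, 3, 6] (sel (ones 7128) ip3 60) = true := by decide +kernel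

theorem rot3_60r : band (Rule.ok (2 * 0) EX RL ⟨3 :: [2, 2, 7, 6, 3, 6, 6, 7, 2, 3, 2, 2, 7, 2, 3, 6, 6, 7, 2, 7, 7, 7, 2, 2, 7, 7, 3, 6], [4, 4, 3, 3, 4, 2], 1, true⟩) (lall (memL L) [2, 2, 7, 6, 3, 6, 6, 7, 2, 3, 2, 2, 7, 2, 3, 6, 6, 7, 2, 7, 7, 7, 2, 2, 7, 7, 3, 6]) = true := by decide +kernel

theorem rot3_61 : T.rot 3 [6, 6, 7, 2, 3, 2, 2, 7, 2, 3, 6, 6, 7, 2, 7, 7, 7, 2, 2, 7, 7, 3, 6, 3, 2, 2, 7, 6] (sel (ones 7128) ip3 61) = true := by decide +kernel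

theorem rot3_61r : band (Rule.ok (2 * 0) EX RL ⟨3 :: [6, 6, 7, 2, 3, 2, 2, 7, 2, 3, 6, 6, 7, 2, 7, 7, 7, 2, 2, 7, 7, 3, 6, 3, 2, 2, 7, 6], [4, 4, 3, 3, 4, 2, 5, 3, 3, 4, 2], 1, true⟩) (lall (memL L) [6, 6, 7, 2, 3, 2, 2, 7, 2, 3, 6, 6, 7, 2, 7, 7, 7, 2, 2, 7, 7, 3, 6, 3, 2, 2, 7, 6]) = true := by decide +kernel

theorem rot3_62 : T.rot 3 [2, 2, 7, 2, 3, 6, 6, 7, 2, 7, 7, 7, 2, 2, 7, 7, 3, 6, 3, 2, 2, 7, 6, 3, 6, 6, 7, 2] (sel (ones 7128) ip3 62) = true := by decide +kernel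

theorem rot3_62r : band (Rule.ok (2 * 0) EX RL ⟨3 :: [2, 2, 7, 2, 3, 6, 6, 7, 2, 7, 7, 7, 2, 2, 7, 7, 3, 6, 3, 2, 2, 7, 6, 3, 6, 6, 7, 2], [5, 2, 5, 3, 3, 4, 2, 5, 2, 2, 4], 1, true⟩) (lall (memL L) [2, 2, 7, 2, 3, 6, 6, 7, 2, 7, 7, 7, 2, 2, 7, 7, 3, 6, 3, 2, 2, 7, 6, 3, 6, 6, 7, 2]) = true := by decide +kernel

theorem rot3_63 : T.rot 3 [6, 6, 7, 2, 7, 7, 7, 2, 2, 7, 7, 3, 6, 3, 2, 2, 7, 6, 3, 6, 6, 7, 2, 3, 2, 2, 7, 2] (sel (ones 7128) ip3 63) = true := by decide +kernel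

theorem rot3_63r : band (Rule.ok (2 * 0) EX RL ⟨3 :: [6, 6, 7, 2, 7, 7, 7, 2, 2, 7, 7, 3, 6, 3, 2, 2, 7, 6, 3, 6, 6, 7, 2, 3, 2, 2, 7, 2], [5, 2, 5, 3, 3, 4], 1, true⟩) (lall (memL L) [6, 6, 7, 2, 7, 7, 7, 2, 2, 7, 7, 3, 6, 3, 2, 2, 7, 6, 3, 6, 6, 7, 2, 3, 2, 2, 7, 2]) = true := by decide +kernel

theorem rot3_64 : T.rot 3 [6, 3, 2, 2, 7, 6, 3, 6, 6, 7, 6, 3, 2, 2, 7, 2, 3, 6, 6, 7, 2, 7, 3, 3, 6, 6, 3, 3] (sel (ones 7128) ip3 64) = true := by decide +kernel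

theorem rot3_64r : band (Rule.ok (2 * 0) EX RL ⟨3 :: [6, 3, 2, 2, 7, 6, 3, 6, 6, 7, 6, 3, 2, 2, 7, 2, 3, 6, 6, 7, 2, 7, 3, 3, 6, 6, 3, 3], [], 1, false⟩) (lall (memL L) [6, 3, 2, 2, 7, 6, 3, 6, 6, 7, 6, 3, 2, 2, 7, 2, 3, 6, 6, 7, 2, 7, 3, 3, 6, 6, 3, 3]) = true := by decide +kernel

theorem rot3_65 : T.rot 3 [2, 2, 7, 6, 3, 6, 6, 7, 6, 3, 2, 2, 7, 2, 3, 6, 6, 7, 2, 7, 3, 3, 6, 6, 3, 3, 3, 6] (sel (ones 7128) ip3 65) = true := by decide +kernel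

theorem rot3_65r : band (Rule.ok (2 * 0) EX RL ⟨3 :: [2, 2, 7, 6, 3, 6, 6, 7, 6, 3, 2, 2, 7, 2, 3, 6, 6, 7, 2, 7, 3, 3, 6, 6, 3, 3, 3, 6], [5, 2], 1, false⟩) (lall (memL L) [2, 2, 7, 6, 3, 6, 6, 7, 6, 3, 2, 2, 7, 2, 3, 6, 6, 7, 2, 7, 3, 3, 6, 6, 3, 3, 3, 6]) = true := by decide +kernel

theorem rot3_66 : T.rot 3 [6, 6, 7, 6, 3, 2, 2, 7, 2, 3, 6, 6, 7, 2, 7, 3, 3, 6, 6, 3, 3, 3, 6, 3, 2, 2, 7, 6] (sel (ones 7128) ip3 66) = true := by decide +kernel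

theorem rot3_66r : band (Rule.ok (2 * 0) EX RL ⟨3 :: [6, 6, 7, 6, 3, 2, 2, 7, 2, 3, 6, 6, 7, 2, 7, 3, 3, 6, 6, 3, 3, 3, 6, 3, 2, 2, 7, 6], [5, 2, 5, 3, 3, 4, 2], 1, false⟩) (lall (memL L) [6, 6, 7, 6, 3, 2, 2, 7, 2, 3, 6, 6, 7, 2, 7, 3, 3, 6, 6, 3, 3, 3, 6, 3, 2, 2, 7, 6]) = true := by decide +kernel

theorem rot3_67 : T.rot 3 [2, 2, 7, 2, 3, 6, 6, 7, 2, 7, 3, 3, 6, 6, 3, 3, 3, 6, 3, 2, 2, 7, 6, 3, 6, 6, 7, 6] (sel (ones 7128) ip3 67) = true := by decide +kernel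

theorem rot3_67r : band (Rule.ok (2 * 0) EX RL ⟨3 :: [2, 2, 7, 2, 3, 6, 6, 7, 2, 7, 3, 3, 6, 6, 3, 3, 3, 6, 3, 2, 2, 7, 6, 3, 6, 6, 7, 6], [5, 2, 5, 3, 3, 4, 2, 5, 2, 2, 4, 2], 1, false⟩) (lall (memL L) [2, 2, 7, 2, 3, 6, 6, 7, 2, 7, 3, 3, 6, 6, 3, 3, 3, 6, 3, 2, 2, 7, 6, 3, 6, 6, 7, 6]) = true := by decide +kernel

theorem rot3_68 : T.rot 3 [6, 6, 7, 2, 7, 3, 3, 6, 6, 3, 3, 3, 6, 3, 2, 2, 7, 6, 3, 6, 6, 7, 6, 3, 2, 2, 7, 2] (sel (ones 7128) ip3 68) = true := by decide +kernel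

theorem rot3_68r : band (Rule.ok (2 * 0) EX RL ⟨3 :: [6, 6, 7, 2, 7, 3, 3, 6, 6, 3, 3, 3, 6, 3, 2, 2, 7, 6, 3, 6, 6, 7, 6, 3, 2, 2, 7, 2], [4, 4, 3, 3, 4, 2, 5, 3, 3, 4], 1, false⟩) (lall (memL L) [6, 6, 7, 2, 7, 3, 3, 6, 6, 3, 3, 3, 6, 3, 2, 2, 7, 6, 3, 6, 6, 7, 6, 3, 2, 2, 7, 2]) = true := by decide +kernel

theorem rot3_69 : T.rot 3 [6, 6, 3, 3, 3, 6, 3, 2, 2, 7, 6, 3, 6, 6, 7, 6, 3, 2, 2, 7, 2, 3, 6, 6, 7, 2, 7, 3] (sel (ones 7128) ip3 69) = true := by decide +kernel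

theorem rot3_69r : band (Rule.ok (2 * 0) EX RL ⟨3 :: [6, 6, 3, 3, 3, 6, 3, 2, 2, 7, 6, 3, 6, 6, 7, 6, 3, 2, 2, 7, 2, 3, 6, 6, 7, 2, 7, 3], [4, 4, 3, 3, 4], 1, false⟩) (lall (memL L) [6, 6, 3, 3, 3, 6, 3, 2, 2, 7, 6, 3, 6, 6, 7, 6, 3, 2, 2, 7, 2, 3, 6, 6, 7, 2, 7, 3]) = true := by decide +kernel

theorem rot3_70 : T.rot 3 [3, 3, 6, 3, 2, 2, 7, 6, 3, 6, 6, 7, 6, 3, 2, 2, 7, 2, 3, 6, 6, 7, 2, 7, 3, 3, 6, 6] (sel (ones 7128) ip3 70) = true := by decide +kernel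

theorem rot3_70r : band (Rule.ok (2 * 0) EX RL ⟨3 :: [3, 3, 6, 3, 2, 2, 7, 6, 3, 6, 6, 7, 6, 3, 2, 2, 7, 2, 3, 6, 6, 7, 2, 7, 3, 3, 6, 6], [4, 4], 1, false⟩) (lall (memL L) [3, 3, 6, 3, 2, 2, 7, 6, 3, 6, 6, 7, 6, 3, 2, 2, 7, 2, 3, 6, 6, 7, 2, 7, 3, 3, 6, 6]) = true := by decide +kernel

theorem rot3_71 : T.rot 3 [3, 6, 3, 2, 2, 7, 6, 3, 6, 6, 7, 6, 3, 2, 2, 7, 2, 3, 6, 6, 7, 2, 7, 3, 3, 6, 6, 3] (sel (ones 7128) ip3 71) = true := by decide +kernel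

theorem rot3_71r : band (Rule.ok (2 * 0) EX RL ⟨3 :: [3, 6, 3, 2, 2, 7, 6, 3, 6, 6, 7, 6, 3, 2, 2, 7, 2, 3, 6, 6, 7, 2, 7, 3, 3, 6, 6, 3], [4], 1, false⟩) (lall (memL L) [3, 6, 3, 2, 2, 7, 6, 3, 6, 6, 7, 6, 3, 2, 2, 7, 2, 3, 6, 6, 7, 2, 7, 3, 3, 6, 6, 3]) = true := by decide +kernel

theorem rot3_72 : T.rot 3 [6, 6, 7, 2, 7, 3, 2, 2, 7, 2, 3, 6, 6, 7, 2, 7, 3, 2, 2, 7, 2, 3, 6, 6, 7, 2, 7, 3, 2, 2, 7, 2, 3, 6, 6, 7, 2, 7, 3, 2, 2, 7, 2] (sel (ones 7128) ip3 72) = true := by decide +kernel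

theorem rot3_72r : band (Rule.ok (2 * 0) EX RL ⟨3 :: [6, 6, 7, 2, 7, 3, 2, 2, 7, 2, 3, 6, 6, 7, 2, 7, 3, 2, 2, 7, 2, 3, 6, 6, 7, 2, 7, 3, 2, 2, 7, 2, 3, 6, 6, 7, 2, 7, 3, 2, 2, 7, 2], [5, 3, 3, 4, 3], 0, true⟩) (lall (memL L) [6, 6, 7, 2, 7, 3, 2, 2, 7, 2, 3, 6, 6, 7, 2, 7, 3, 2, 2, 7, 2, 3, 6, 6, 7, 2, 7, 3, 2, 2, 7, 2, 3, 6, 6, 7, 2, 7, 3, 2, 2, 7, 2]) = true := by decide +kernel

theorem rot3_73 : T.rot 3 [2, 2, 7, 6, 3, 6, 6, 7, 3, 6, 3, 2, 2, 7, 6, 3, 6, 6, 7, 3, 6, 3, 2, 2, 7, 6, 3, 6, 6, 7, 3, 6, 3, 2, 2, 7, 6, 3, 6, 6, 7, 3, 6] (sel (ones 7128) ip3 73) = true := by decide +kernel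

theorem rot3_73r : band (Rule.ok (2 * 0) EX RL ⟨3 :: [2, 2, 7, 6, 3, 6, 6, 7, 3, 6, 3, 2, 2, 7, 6, 3, 6, 6, 7, 3, 6, 3, 2, 2, 7, 6, 3, 6, 6, 7, 3, 6, 3, 2, 2, 7, 6, 3, 6, 6, 7, 3, 6], [5, 2], 0, false⟩) (lall (memL L) [2, 2, 7, 6, 3, 6, 6, 7, 3, 6, 3, 2, 2, 7, 6, 3, 6, 6, 7, 3, 6, 3, 2, 2, 7, 6, 3, 6, 6, 7, 3, 6, 3, 2, 2, 7, 6, 3, 6, 6, 7, 3, 6]) = true := by decide +kernel

theorem rot3_74 : T.rot 3 [6, 6, 7, 3, 6, 3, 2, 2, 7, 6, 3, 6, 6, 7, 3, 6, 3, 2, 2, 7, 6, 3, 6, 6, 7, 3, 6, 3, 2, 2, 7, 6, 3, 6, 6, 7, 3, 6, 3, 2, 2, 7, 6] (sel (ones 7128) ip3 74) = true := by decide +kernel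

theorem rot3_74r : band (Rule.ok (2 * 0) EX RL ⟨3 :: [6, 6, 7, 3, 6, 3, 2, 2, 7, 6, 3, 6, 6, 7, 3, 6, 3, 2, 2, 7, 6, 3, 6, 6, 7, 3, 6, 3, 2, 2, 7, 6, 3, 6, 6, 7, 3, 6, 3, 2, 2, 7, 6], [5, 3, 3, 4], 0, false⟩) (lall (memL L) [6, 6, 7, 3, 6, 3, 2, 2, 7, 6, 3, 6, 6, 7, 3, 6, 3, 2, 2, 7, 6, 3, 6, 6, 7, 3, 6, 3, 2, 2, 7, 6, 3, 6, 6, 7, 3, 6, 3, 2, 2, 7, 6]) = true := by decide +kernel

theorem rot3_75 : T.rot 3 [2, 2, 7, 2, 3, 6, 6, 7, 2, 7, 6, 3, 2, 2, 7, 2, 3, 6, 6, 7, 2, 7, 6, 6, 3, 6, 3, 2, 2, 7, 6, 3, 6, 6, 7, 3, 6, 3, 2, 2, 7, 6, 3, 6, 6, 7, 2] (sel (ones 7128) ip3 75) = true := by decide +kernel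

theorem rot3_75r : band (Rule.ok (2 * 0) EX RL ⟨3 :: [2, 2, 7, 2, 3, 6, 6, 7, 2, 7, 6, 3, 2, 2, 7, 2, 3, 6, 6, 7, 2, 7, 6, 6, 3, 6, 3, 2, 2, 7, 6, 3, 6, 6, 7, 3, 6, 3, 2, 2, 7, 6, 3, 6, 6, 7, 2], [3], 3, true⟩) (lall (memL L) [2, 2, 7, 2, 3, 6, 6, 7, 2, 7, 6, 3, 2, 2, 7, 2, 3, 6, 6, 7, 2, 7, 6, 6, 3, 6, 3, 2, 2, 7, 6, 3, 6, 6, 7, 3, 6, 3, 2, 2, 7, 6, 3, 6, 6, 7, 2]) = true := by decide +kernel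

theorem rot3_76 : T.rot 3 [6, 6, 7, 2, 7, 6, 3, 2, 2, 7, 2, 3, 6, 6, 7, 2, 7, 6, 6, 3, 6, 3, 2, 2, 7, 6, 3, 6, 6, 7, 3, 6, 3, 2, 2, 7, 6, 3, 6, 6, 7, 2, 3, 2, 2, 7, 2] (sel (ones 7128) ip3 76) = true := by decide +kernel

theorem rot3_76r : band (Rule.ok (2 * 0) EX RL ⟨3 :: [6, 6, 7, 2, 7, 6, 3, 2, 2, 7, 2, 3, 6, 6, 7, 2, 7, 6, 6, 3, 6, 3, 2, 2, 7, 6, 3, 6, 6, 7, 3, 6, 3, 2, 2, 7, 6, 3, 6, 6, 7, 2, 3, 2, 2, 7, 2], [3, 5, 3, 3, 4, 3], 3, true⟩) (lall (memL L) [6, 6, 7, 2, 7, 6, 3, 2, 2, 7, 2, 3, 6, 6, 7, 2, 7, 6, 6, 3, 6, 3, 2, 2, 7, 6, 3, 6, 6, 7, 3, 6, 3, 2, 2, 7, 6, 3, 6, 6, 7, 2, 3, 2, 2, 7, 2]) = true := by decide +kernel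

theorem rot3_77 : T.rot 3 [2, 2, 7, 2, 3, 6, 6, 7, 2, 7, 6, 6, 3, 6, 3, 2, 2, 7, 6, 3, 6, 6, 7, 3, 6, 3, 2, 2, 7, 6, 3, 6, 6, 7, 2, 3, 2, 2, 7, 2, 3, 6, 6, 7, 2, 7, 6] (sel (ones 7128) ip3 77) = true := by decide +kernel

theorem rot3_77r : band (Rule.ok (2 * 0) EX RL ⟨3 :: [2, 2, 7, 2, 3, 6, 6, 7, 2, 7, 6, 6, 3, 6, 3, 2, 2, 7, 6, 3, 6, 6, 7, 3, 6, 3, 2, 2, 7, 6, 3, 6, 6, 7, 2, 3, 2, 2, 7, 2, 3, 6, 6, 7, 2, 7, 6], [3, 5, 3, 3, 4, 3, 5, 2, 2, 4, 3, 4, 2], 3, true⟩) (lall (memL L) [2, 2, 7, 2, 3, 6, 6, 7, 2, 7, 6, 6, 3, 6, 3, 2, 2, 7, 6, 3, 6, 6, 7, 3, 6, 3, 2, 2, 7, 6, 3, 6, 6, 7, 2, 3, 2, 2, 7, 2, 3, 6, 6, 7, 2, 7, 6]) = true := by decide +kernel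

theorem rot3_78 : T.rot 3 [6, 6, 7, 2, 7, 6, 6, 3, 6, 3, 2, 2, 7, 6, 3, 6, 6, 7, 3, 6, 3, 2, 2, 7, 6, 3, 6, 6, 7, 2, 3, 2, 2, 7, 2, 3, 6, 6, 7, 2, 7, 6, 3, 2, 2, 7, 2] (sel (ones 7128) ip3 78) = true := by decide +kernel

theorem rot3_78r : band (Rule.ok (2 * 0) EX RL ⟨3 :: [6, 6, 7, 2, 7, 6, 6, 3, 6, 3, 2, 2, 7, 6, 3, 6, 6, 7, 3, 6, 3, 2, 2, 7, 6, 3, 6, 6, 7, 2, 3, 2, 2, 7, 2, 3, 6, 6, 7, 2, 7, 6, 3, 2, 2, 7, 2], [3, 5, 3, 3, 4, 3, 5, 2, 2, 4, 3, 4, 2, 5, 3, 3, 4, 3], 3, true⟩) (lall (memL L) [6, 6, 7, 2, 7, 6, 6, 3, 6, 3, 2, 2, 7, 6, 3, 6, 6, 7, 3, 6, 3, 2, 2, 7, 6, 3, 6, 6, 7, 2, 3, 2, 2, 7, 2, 3, 6, 6, 7, 2, 7, 6, 3, 2, 2, 7, 2]) = true := by decide +kernel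

theorem rot3_79 : T.rot 3 [6, 3, 2, 2, 7, 6, 3, 6, 6, 7, 3, 6, 3, 2, 2, 7, 6, 3, 6, 6, 7, 2, 3, 2, 2, 7, 2, 3, 6, 6, 7, 2, 7, 6, 3, 2, 2, 7, 2, 3, 6, 6, 7, 2, 7, 6, 6] (sel (ones 7128) ip3 79) = true := by decide +kernel

theorem rot3_79r : band (Rule.ok (2 * 0) EX RL ⟨3 :: [6, 3, 2, 2, 7, 6, 3, 6, 6, 7, 3, 6, 3, 2, 2, 7, 6, 3, 6, 6, 7, 2, 3, 2, 2, 7, 2, 3, 6, 6, 7, 2, 7, 6, 3, 2, 2, 7, 2, 3, 6, 6, 7, 2, 7, 6, 6], [5, 3, 3, 4, 3, 5, 2, 2, 4, 3, 3, 3, 4, 3, 5, 2, 2, 4, 3, 4], 3, true⟩) (lall (memL L) [6, 3, 2, 2, 7, 6, 3, 6, 6, 7, 3, 6, 3, 2, 2, 7, 6, 3, 6, 6, 7, 2, 3, 2, 2, 7, 2, 3, 6, 6, 7, 2, 7, 6, 3, 2, 2, 7, 2, 3, 6, 6, 7, 2, 7, 6, 6]) = true := by decide +kernel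

theorem rot3_80 : T.rot 3 [2, 2, 7, 6, 3, 6, 6, 7, 3, 6, 3, 2, 2, 7, 6, 3, 6, 6, 7, 2, 3, 2, 2, 7, 2, 3, 6, 6, 7, 2, 7, 6, 3, 2, 2, 7, 2, 3, 6, 6, 7, 2, 7, 6, 6, 3, 6] (sel (ones 7128) ip3 80) = true := by decide +kernel

theorem rot3_80r : band (Rule.ok (2 * 0) EX RL ⟨3 :: [2, 2, 7, 6, 3, 6, 6, 7, 3, 6, 3, 2, 2, 7, 6, 3, 6, 6, 7, 2, 3, 2, 2, 7, 2, 3, 6, 6, 7, 2, 7, 6, 3, 2, 2, 7, 2, 3, 6, 6, 7, 2, 7, 6, 6, 3, 6], [5, 3, 3, 4, 3, 5, 2, 2, 4, 3, 3, 3, 4, 3, 5, 2, 2, 4], 3, true⟩) (lall (memL L) [2, 2, 7, 6, 3, 6, 6, 7, 3, 6, 3, 2, 2, 7, 6, 3, 6, 6, 7, 2, 3, 2, 2, 7, 2, 3, 6, 6, 7, 2, 7, 6, 3, 2, 2, 7, 2, 3, 6, 6, 7, 2, 7, 6, 6, 3, 6]) = true := by decide +kernel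

theorem rot3_81 : T.rot 3 [6, 6, 7, 3, 6, 3, 2, 2, 7, 6, 3, 6, 6, 7, 2, 3, 2, 2, 7, 2, 3, 6, 6, 7, 2, 7, 6, 3, 2, 2, 7, 2, 3, 6, 6, 7, 2, 7, 6, 6, 3, 6, 3, 2, 2, 7, 6] (sel (ones 7128) ip3 81) = true := by decide +kernel

theorem rot3_81r : band (Rule.ok (2 * 0) EX RL ⟨3 :: [6, 6, 7, 3, 6, 3, 2, 2, 7, 6, 3, 6, 6, 7, 2, 3, 2, 2, 7, 2, 3, 6, 6, 7, 2, 7, 6, 3, 2, 2, 7, 2, 3, 6, 6, 7, 2, 7, 6, 6, 3, 6, 3, 2, 2, 7, 6], [5, 3, 3, 4, 3, 5, 2, 2, 4, 3, 3, 3, 4], 3, true⟩) (lall (memL L) [6, 6, 7, 3, 6, 3, 2, 2, 7, 6, 3, 6, 6, 7, 2, 3, 2, 2, 7, 2, 3, 6, 6, 7, 2, 7, 6, 3, 2, 2, 7, 2, 3, 6, 6, 7, 2, 7, 6, 6, 3, 6, 3, 2, 2, 7, 6]) = true := by decide +kernel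

theorem rot3_82 : T.rot 3 [2, 2, 7, 6, 3, 6, 6, 7, 2, 3, 2, 2, 7, 2, 3, 6, 6, 7, 2, 7, 6, 3, 2, 2, 7, 2, 3, 6, 6, 7, 2, 7, 6, 6, 3, 6, 3, 2, 2, 7, 6, 3, 6, 6, 7, 3, 6] (sel (ones 7128) ip3 82) = true := by decide +kernel

theorem rot3_82r : band (Rule.ok (2 * 0) EX RL ⟨3 :: [2, 2, 7, 6, 3, 6, 6, 7, 2, 3, 2, 2, 7, 2, 3, 6, 6, 7, 2, 7, 6, 3, 2, 2, 7, 2, 3, 6, 6, 7, 2, 7, 6, 6, 3, 6, 3, 2, 2, 7, 6, 3, 6, 6, 7, 3, 6], [5, 3, 3, 4, 3, 5, 2, 2, 4], 3, true⟩) (lall (memL L) [2, 2, 7, 6, 3, 6, 6, 7, 2, 3, 2, 2, 7, 2, 3, 6, 6, 7, 2, 7, 6, 3, 2, 2, 7, 2, 3, 6, 6, 7, 2, 7, 6, 6, 3, 6, 3, 2, 2, 7, 6, 3, 6, 6, 7, 3, 6]) = true := by decide +kernel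

theorem rot3_83 : T.rot 3 [6, 6, 7, 2, 3, 2, 2, 7, 2, 3, 6, 6, 7, 2, 7, 6, 3, 2, 2, 7, 2, 3, 6, 6, 7, 2, 7, 6, 6, 3, 6, 3, 2, 2, 7, 6, 3, 6, 6, 7, 3, 6, 3, 2, 2, 7, 6] (sel (ones 7128) ip3 83) = true := by decide +kernel

theorem rot3_83r : band (Rule.ok (2 * 0) EX RL ⟨3 :: [6, 6, 7, 2, 3, 2, 2, 7, 2, 3, 6, 6, 7, 2, 7, 6, 3, 2, 2, 7, 2, 3, 6, 6, 7, 2, 7, 6, 6, 3, 6, 3, 2, 2, 7, 6, 3, 6, 6, 7, 3, 6, 3, 2, 2, 7, 6], [5, 3, 3, 4], 3, true⟩) (lall (memL L) [6, 6, 7, 2, 3, 2, 2, 7, 2, 3, 6, 6, 7, 2, 7, 6, 3, 2, 2, 7, 2, 3, 6, 6, 7, 2, 7, 6, 6, 3, 6, 3, 2, 2, 7, 6, 3, 6, 6, 7, 3, 6, 3, 2, 2, 7, 6]) = true := by decide +kernel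

theorem rot3_84 : T.rot 3 [2, 2, 7, 2, 3, 6, 6, 7, 2, 7, 3, 2, 2, 7, 2, 3, 6, 6, 7, 2, 7, 2, 2, 3, 6, 3, 2, 2, 7, 6, 3, 6, 6, 7, 2, 3, 6, 3, 2, 2, 7, 6, 3, 6, 6, 7, 6] (sel (ones 7128) ip3 84) = true := by decide +kernel

theorem rot3_84r : band (Rule.ok (2 * 0) EX RL ⟨3 :: [2, 2, 7, 2, 3, 6, 6, 7, 2, 7, 3, 2, 2, 7, 2, 3, 6, 6, 7, 2, 7, 2, 2, 3, 6, 3, 2, 2, 7, 6, 3, 6, 6, 7, 2, 3, 6, 3, 2, 2, 7, 6, 3, 6, 6, 7, 6], [], 3, false⟩) (lall (memL L) [2, 2, 7, 2, 3, 6, 6, 7, 2, 7, 3, 2, 2, 7, 2, 3, 6, 6, 7, 2, 7, 2, 2, 3, 6, 3, 2, 2, 7, 6, 3, 6, 6, 7, 2, 3, 6, 3, 2, 2, 7, 6, 3, 6, 6, 7, 6]) = true := by decide +kernel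

theorem rot3_85 : T.rot 3 [6, 6, 7, 2, 7, 3, 2, 2, 7, 2, 3, 6, 6, 7, 2, 7, 2, 2, 3, 6, 3, 2, 2, 7, 6, 3, 6, 6, 7, 2, 3, 6, 3, 2, 2, 7, 6, 3, 6, 6, 7, 6, 3, 2, 2, 7, 2] (sel (ones 7128) ip3 85) = true := by decide +kernel

theorem rot3_85r : band (Rule.ok (2 * 0) EX RL ⟨3 :: [6, 6, 7, 2, 7, 3, 2, 2, 7, 2, 3, 6, 6, 7, 2, 7, 2, 2, 3, 6, 3, 2, 2, 7, 6, 3, 6, 6, 7, 2, 3, 6, 3, 2, 2, 7, 6, 3, 6, 6, 7, 6, 3, 2, 2, 7, 2], [5, 3, 3, 4, 3], 3, false⟩) (lall (memL L) [6, 6, 7, 2, 7, 3, 2, 2, 7, 2, 3, 6, 6, 7, 2, 7, 2, 2, 3, 6, 3, 2, 2, 7, 6, 3, 6, 6, 7, 2, 3, 6, 3, 2, 2, 7, 6, 3, 6, 6, 7, 6, 3, 2, 2, 7, 2]) = true := by decide +kernel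

theorem rot3_86 : T.rot 3 [6, 6, 7, 2, 7, 2, 2, 3, 6, 3, 2, 2, 7, 6, 3, 6, 6, 7, 2, 3, 6, 3, 2, 2, 7, 6, 3, 6, 6, 7, 6, 3, 2, 2, 7, 2, 3, 6, 6, 7, 2, 7, 3, 2, 2, 7, 2] (sel (ones 7128) ip3 86) = true := by decide +kernel

theorem rot3_86r : band (Rule.ok (2 * 0) EX RL ⟨3 :: [6, 6, 7, 2, 7, 2, 2, 3, 6, 3, 2, 2, 7, 6, 3, 6, 6, 7, 2, 3, 6, 3, 2, 2, 7, 6, 3, 6, 6, 7, 6, 3, 2, 2, 7, 2, 3, 6, 6, 7, 2, 7, 3, 2, 2, 7, 2], [5, 3, 3, 4, 3, 5, 2, 2, 4, 3, 3, 3, 4, 3], 3, false⟩) (lall (memL L) [6, 6, 7, 2, 7, 2, 2, 3, 6, 3, 2, 2, 7, 6, 3, 6, 6, 7, 2, 3, 6, 3, 2, 2, 7, 6, 3, 6, 6, 7, 6, 3, 2, 2, 7, 2, 3, 6, 6, 7, 2, 7, 3, 2, 2, 7, 2]) = true := by decide +kernel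

theorem rot3_87 : T.rot 3 [6, 3, 2, 2, 7, 6, 3, 6, 6, 7, 2, 3, 6, 3, 2, 2, 7, 6, 3, 6, 6, 7, 6, 3, 2, 2, 7, 2, 3, 6, 6, 7, 2, 7, 3, 2, 2, 7, 2, 3, 6, 6, 7, 2, 7, 2, 2] (sel (ones 7128) ip3 87) = true := by decide +kernel

theorem rot3_87r : band (Rule.ok (2 * 0) EX RL ⟨3 :: [6, 3, 2, 2, 7, 6, 3, 6, 6, 7, 2, 3, 6, 3, 2, 2, 7, 6, 3, 6, 6, 7, 6, 3, 2, 2, 7, 2, 3, 6, 6, 7, 2, 7, 3, 2, 2, 7, 2, 3, 6, 6, 7, 2, 7, 2, 2], [5, 3, 3, 4, 3, 5, 2, 2, 4, 3, 3, 3, 4, 3, 5, 2, 2, 4, 3, 4, 3, 3], 3, false⟩) (lall (memL L) [6, 3, 2, 2, 7, 6, 3, 6, 6, 7, 2, 3, 6, 3, 2, 2, 7, 6, 3, 6, 6, 7, 6, 3, 2, 2, 7, 2, 3, 6, 6, 7, 2, 7, 3, 2, 2, 7, 2, 3, 6, 6, 7, 2, 7, 2, 2]) = true := by decide +kernel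

theorem rot3_88 : T.rot 3 [2, 2, 7, 6, 3, 6, 6, 7, 2, 3, 6, 3, 2, 2, 7, 6, 3, 6, 6, 7, 6, 3, 2, 2, 7, 2, 3, 6, 6, 7, 2, 7, 3, 2, 2, 7, 2, 3, 6, 6, 7, 2, 7, 2, 2, 3, 6] (sel (ones 7128) ip3 88) = true := by decide +kernel

theorem rot3_88r : band (Rule.ok (2 * 0) EX RL ⟨3 :: [2, 2, 7, 6, 3, 6, 6, 7, 2, 3, 6, 3, 2, 2, 7, 6, 3, 6, 6, 7, 6, 3, 2, 2, 7, 2, 3, 6, 6, 7, 2, 7, 3, 2, 2, 7, 2, 3, 6, 6, 7, 2, 7, 2, 2, 3, 6], [3, 5, 3, 3, 4, 3, 5, 2, 2, 4, 3, 4, 2, 5, 3, 3, 4, 3, 5, 2, 2, 4], 3, false⟩) (lall (memL L) [2, 2, 7, 6, 3, 6, 6, 7, 2, 3, 6, 3, 2, 2, 7, 6, 3, 6, 6, 7, 6, 3, 2, 2, 7, 2, 3, 6, 6, 7, 2, 7, 3, 2, 2, 7, 2, 3, 6, 6, 7, 2, 7, 2, 2, 3, 6]) = true := by decide +kernel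

theorem rot3_89 : T.rot 3 [6, 6, 7, 2, 3, 6, 3, 2, 2, 7, 6, 3, 6, 6, 7, 6, 3, 2, 2, 7, 2, 3, 6, 6, 7, 2, 7, 3, 2, 2, 7, 2, 3, 6, 6, 7, 2, 7, 2, 2, 3, 6, 3, 2, 2, 7, 6] (sel (ones 7128) ip3 89) = true := by decide +kernel

theorem rot3_89r : band (Rule.ok (2 * 0) EX RL ⟨3 :: [6, 6, 7, 2, 3, 6, 3, 2, 2, 7, 6, 3, 6, 6, 7, 6, 3, 2, 2, 7, 2, 3, 6, 6, 7, 2, 7, 3, 2, 2, 7, 2, 3, 6, 6, 7, 2, 7, 2, 2, 3, 6, 3, 2, 2, 7, 6], [3, 5, 3, 3, 4, 3, 5, 2, 2, 4, 3, 4, 2, 5, 3, 3, 4], 3, false⟩) (lall (memL L) [6, 6, 7, 2, 3, 6, 3, 2, 2, 7, 6, 3, 6, 6, 7, 6, 3, 2, 2, 7, 2, 3, 6, 6, 7, 2, 7, 3, 2, 2, 7, 2, 3, 6, 6, 7, 2, 7, 2, 2, 3, 6, 3, 2, 2, 7, 6]) = true := by decide +kernel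

theorem rot3_90 : T.rot 3 [6, 3, 2, 2, 7, 6, 3, 6, 6, 7, 6, 3, 2, 2, 7, 2, 3, 6, 6, 7, 2, 7, 3, 2, 2, 7, 2, 3, 6, 6, 7, 2, 7, 2, 2, 3, 6, 3, 2, 2, 7, 6, 3, 6, 6, 7, 2] (sel (ones 7128) ip3 90) = true := by decide +kernel

theorem rot3_90r : band (Rule.ok (2 * 0) EX RL ⟨3 :: [6, 3, 2, 2, 7, 6, 3, 6, 6, 7, 6, 3, 2, 2, 7, 2, 3, 6, 6, 7, 2, 7, 3, 2, 2, 7, 2, 3, 6, 6, 7, 2, 7, 2, 2, 3, 6, 3, 2, 2, 7, 6, 3, 6, 6, 7, 2], [3, 5, 3, 3, 4, 3, 5, 2, 2, 4, 3, 4], 3, false⟩) (lall (memL L) [6, 3, 2, 2, 7, 6, 3, 6, 6, 7, 6, 3, 2, 2, 7, 2, 3, 6, 6, 7, 2, 7, 3, 2, 2, 7, 2, 3, 6, 6, 7, 2, 7, 2, 2, 3, 6, 3, 2, 2, 7, 6, 3, 6, 6, 7, 2]) = true := by decide +kernel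

theorem rot3_91 : T.rot 3 [2, 2, 7, 6, 3, 6, 6, 7, 6, 3, 2, 2, 7, 2, 3, 6, 6, 7, 2, 7, 3, 2, 2, 7, 2, 3, 6, 6, 7, 2, 7, 2, 2, 3, 6, 3, 2, 2, 7, 6, 3, 6, 6, 7, 2, 3, 6] (sel (ones 7128) ip3 91) = true := by decide +kernel

theorem rot3_91r : band (Rule.ok (2 * 0) EX RL ⟨3 :: [2, 2, 7, 6, 3, 6, 6, 7, 6, 3, 2, 2, 7, 2, 3, 6, 6, 7, 2, 7, 3, 2, 2, 7, 2, 3, 6, 6, 7, 2, 7, 2, 2, 3, 6, 3, 2, 2, 7, 6, 3, 6, 6, 7, 2, 3, 6], [3, 5, 3, 3, 4, 3, 5, 2, 2, 4], 3, false⟩) (lall (memL L) [2, 2, 7, 6, 3, 6, 6, 7, 6, 3, 2, 2, 7, 2, 3, 6, 6, 7, 2, 7, 3, 2, 2, 7, 2, 3, 6, 6, 7, 2, 7, 2, 2, 3, 6, 3, 2, 2, 7, 6, 3, 6, 6, 7, 2, 3, 6]) = true := by decide +kernel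

theorem rot3_92 : T.rot 3 [6, 6, 7, 6, 3, 2, 2, 7, 2, 3, 6, 6, 7, 2, 7, 3, 2, 2, 7, 2, 3, 6, 6, 7, 2, 7, 2, 2, 3, 6, 3, 2, 2, 7, 6, 3, 6, 6, 7, 2, 3, 6, 3, 2, 2, 7, 6] (sel (ones 7128) ip3 92) = true := by decide +kernel

theorem rot3_92r : band (Rule.ok (2 * 0) EX RL ⟨3 :: [6, 6, 7, 6, 3, 2, 2, 7, 2, 3, 6, 6, 7, 2, 7, 3, 2, 2, 7, 2, 3, 6, 6, 7, 2, 7, 2, 2, 3, 6, 3, 2, 2, 7, 6, 3, 6, 6, 7, 2, 3, 6, 3, 2, 2, 7, 6], [3, 5, 3, 3, 4], 3, false⟩) (lall (memL L) [6, 6, 7, 6, 3, 2, 2, 7, 2, 3, 6, 6, 7, 2, 7, 3, 2, 2, 7, 2, 3, 6, 6, 7, 2, 7, 2, 2, 3, 6, 3, 2, 2, 7, 6, 3, 6, 6, 7, 2, 3, 6, 3, 2, 2, 7, 6]) = true := by decide +kernel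

theorem rot3_93 : T.rot 3 [6, 6, 7, 2, 7, 7, 7, 3, 2, 2, 7, 2, 3, 6, 6, 7, 2, 7, 3, 2, 2, 7, 2, 3, 6, 6, 7, 2, 7, 7, 7, 3, 6, 3, 2, 2, 7, 6, 3, 6, 6, 7, 7, 7, 3, 2, 2, 7, 2] (sel (ones 7128) ip3 93) = true := by decide +kernel

theorem rot3_93r : band (Rule.ok (2 * 0) EX RL ⟨3 :: [6, 6, 7, 2, 7, 7, 7, 3, 2, 2, 7, 2, 3, 6, 6, 7, 2, 7, 3, 2, 2, 7, 2, 3, 6, 6, 7, 2, 7, 7, 7, 3, 6, 3, 2, 2, 7, 6, 3, 6, 6, 7, 7, 7, 3, 2, 2, 7, 2], [4, 3, 3, 4, 3], 2, true⟩) (lall (memL L) [6, 6, 7, 2, 7, 7, 7, 3, 2, 2, 7, 2, 3, 6, 6, 7, 2, 7, 3, 2, 2, 7, 2, 3, 6, 6, 7, 2, 7, 7, 7, 3, 6, 3, 2, 2, 7, 6, 3, 6, 6, 7, 7, 7, 3, 2, 2, 7, 2]) = true := by decide +kernel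

theorem rot3_94 : T.rot 3 [6, 6, 7, 2, 7, 3, 2, 2, 7, 2, 3, 6, 6, 7, 2, 7, 7, 7, 3, 6, 3, 2, 2, 7, 6, 3, 6, 6, 7, 7, 7, 3, 2, 2, 7, 2, 3, 6, 6, 7, 2, 7, 7, 7, 3, 2, 2, 7, 2] (sel (ones 7128) ip3 94) = true := by decide +kernel

theorem rot3_94r : band (Rule.ok (2 * 0) EX RL ⟨3 :: [6, 6, 7, 2, 7, 3, 2, 2, 7, 2, 3, 6, 6, 7, 2, 7, 7, 7, 3, 6, 3, 2, 2, 7, 6, 3, 6, 6, 7, 7, 7, 3, 2, 2, 7, 2, 3, 6, 6, 7, 2, 7, 7, 7, 3, 2, 2, 7, 2], [4, 3, 3, 4, 3, 5, 2, 2, 4, 3, 4, 4, 3, 3, 4, 3], 2, true⟩) (lall (memL L) [6, 6, 7, 2, 7, 3, 2, 2, 7, 2, 3, 6, 6, 7, 2, 7, 7, 7, 3, 6, 3, 2, 2, 7, 6, 3, 6, 6, 7, 7, 7, 3, 2, 2, 7, 2, 3, 6, 6, 7, 2, 7, 7, 7, 3, 2, 2, 7, 2]) = true := by decide +kernel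

theorem rot3_95 : T.rot 3 [6, 6, 7, 2, 7, 7, 7, 3, 6, 3, 2, 2, 7, 6, 3, 6, 6, 7, 7, 7, 3, 2, 2, 7, 2, 3, 6, 6, 7, 2, 7, 7, 7, 3, 2, 2, 7, 2, 3, 6, 6, 7, 2, 7, 3, 2, 2, 7, 2] (sel (ones 7128) ip3 95) = true := by decide +kernel

theorem rot3_95r : band (Rule.ok (2 * 0) EX RL ⟨3 :: [6, 6, 7, 2, 7, 7, 7, 3, 6, 3, 2, 2, 7, 6, 3, 6, 6, 7, 7, 7, 3, 2, 2, 7, 2, 3, 6, 6, 7, 2, 7, 7, 7, 3, 2, 2, 7, 2, 3, 6, 6, 7, 2, 7, 3, 2, 2, 7, 2], [5, 3, 3, 4, 3, 5, 2, 2, 4, 3, 5, 5, 2, 5, 3, 3, 4], 2, true⟩) (lall (memL L) [6, 6, 7, 2, 7, 7, 7, 3, 6, 3, 2, 2, 7, 6, 3, 6, 6, 7, 7, 7, 3, 2, 2, 7, 2, 3, 6, 6, 7, 2, 7, 7, 7, 3, 2, 2, 7, 2, 3, 6, 6, 7, 2, 7, 3, 2, 2, 7, 2]) = true := by decide +kernel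

theorem rot3_96 : T.rot 3 [2, 2, 7, 6, 3, 6, 6, 7, 7, 7, 3, 2, 2, 7, 2, 3, 6, 6, 7, 2, 7, 7, 7, 3, 2, 2, 7, 2, 3, 6, 6, 7, 2, 7, 3, 2, 2, 7, 2, 3, 6, 6, 7, 2, 7, 7, 7, 3, 6] (sel (ones 7128) ip3 96) = true := by decide +kernel

theorem rot3_96r : band (Rule.ok (2 * 0) EX RL ⟨3 :: [2, 2, 7, 6, 3, 6, 6, 7, 7, 7, 3, 2, 2, 7, 2, 3, 6, 6, 7, 2, 7, 7, 7, 3, 2, 2, 7, 2, 3, 6, 6, 7, 2, 7, 3, 2, 2, 7, 2, 3, 6, 6, 7, 2, 7, 7, 7, 3, 6], [5, 3, 3, 4, 3, 5, 2, 2, 4], 2, true⟩) (lall (memL L) [2, 2, 7, 6, 3, 6, 6, 7, 7, 7, 3, 2, 2, 7, 2, 3, 6, 6, 7, 2, 7, 7, 7, 3, 2, 2, 7, 2, 3, 6, 6, 7, 2, 7, 3, 2, 2, 7, 2, 3, 6, 6, 7, 2, 7, 7, 7, 3, 6]) = true := by decide +kernel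

theorem rot3_97 : T.rot 3 [6, 6, 7, 7, 7, 3, 2, 2, 7, 2, 3, 6, 6, 7, 2, 7, 7, 7, 3, 2, 2, 7, 2, 3, 6, 6, 7, 2, 7, 3, 2, 2, 7, 2, 3, 6, 6, 7, 2, 7, 7, 7, 3, 6, 3, 2, 2, 7, 6] (sel (ones 7128) ip3 97) = true := by decide +kernel

theorem rot3_97r : band (Rule.ok (2 * 0) EX RL ⟨3 :: [6, 6, 7, 7, 7, 3, 2, 2, 7, 2, 3, 6, 6, 7, 2, 7, 7, 7, 3, 2, 2, 7, 2, 3, 6, 6, 7, 2, 7, 3, 2, 2, 7, 2, 3, 6, 6, 7, 2, 7, 7, 7, 3, 6, 3, 2, 2, 7, 6], [5, 3, 3, 4], 2, true⟩) (lall (memL L) [6, 6, 7, 7, 7, 3, 2, 2, 7, 2, 3, 6, 6, 7, 2, 7, 7, 7, 3, 2, 2, 7, 2, 3, 6, 6, 7, 2, 7, 3, 2, 2, 7, 2, 3, 6, 6, 7, 2, 7, 7, 7, 3, 6, 3, 2, 2, 7, 6]) = true := by decide +kernel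

theorem rot3_98 : T.rot 3 [2, 2, 7, 2, 3, 6, 6, 7, 2, 7, 3, 3, 3, 6, 3, 2, 2, 7, 6, 3, 6, 6, 7, 3, 6, 3, 2, 2, 7, 6, 3, 6, 6, 7, 3, 3, 3, 6, 3, 2, 2, 7, 6, 3, 6, 6, 7, 3, 3] (sel (ones 7128) ip3 98) = true := by decide +kernel

theorem rot3_98r : band (Rule.ok (2 * 0) EX RL ⟨3 :: [2, 2, 7, 2, 3, 6, 6, 7, 2, 7, 3, 3, 3, 6, 3, 2, 2, 7, 6, 3, 6, 6, 7, 3, 6, 3, 2, 2, 7, 6, 3, 6, 6, 7, 3, 3, 3, 6, 3, 2, 2, 7, 6, 3, 6, 6, 7, 3, 3], [], 2, false⟩) (lall (memL L) [2, 2, 7, 2, 3, 6, 6, 7, 2, 7, 3, 3, 3, 6, 3, 2, 2, 7, 6, 3, 6, 6, 7, 3, 6, 3, 2, 2, 7, 6, 3, 6, 6, 7, 3, 3, 3, 6, 3, 2, 2, 7, 6, 3, 6, 6, 7, 3, 3]) = true := by decide +kernel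

theorem rot3_99 : T.rot 3 [6, 6, 7, 2, 7, 3, 3, 3, 6, 3, 2, 2, 7, 6, 3, 6, 6, 7, 3, 6, 3, 2, 2, 7, 6, 3, 6, 6, 7, 3, 3, 3, 6, 3, 2, 2, 7, 6, 3, 6, 6, 7, 3, 3, 3, 2, 2, 7, 2] (sel (ones 7128) ip3 99) = true := by decide +kernel

theorem rot3_99r : band (Rule.ok (2 * 0) EX RL ⟨3 :: [6, 6, 7, 2, 7, 3, 3, 3, 6, 3, 2, 2, 7, 6, 3, 6, 6, 7, 3, 6, 3, 2, 2, 7, 6, 3, 6, 6, 7, 3, 3, 3, 6, 3, 2, 2, 7, 6, 3, 6, 6, 7, 3, 3, 3, 2, 2, 7, 2], [5, 3, 3, 4, 3], 2, false⟩) (lall (memL L) [6, 6, 7, 2, 7, 3, 3, 3, 6, 3, 2, 2, 7, 6, 3, 6, 6, 7, 3, 6, 3, 2, 2, 7, 6, 3, 6, 6, 7, 3, 3, 3, 6, 3, 2, 2, 7, 6, 3, 6, 6, 7, 3, 3, 3, 2, 2, 7, 2]) = true := by decide +kernel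

theorem rot3_100 : T.rot 3 [3, 6, 3, 2, 2, 7, 6, 3, 6, 6, 7, 3, 6, 3, 2, 2, 7, 6, 3, 6, 6, 7, 3, 3, 3, 6, 3, 2, 2, 7, 6, 3, 6, 6, 7, 3, 3, 3, 2, 2, 7, 2, 3, 6, 6, 7, 2, 7, 3] (sel (ones 7128) ip3 100) = true := by decide +kernel

theorem rot3_100r : band (Rule.ok (2 * 0) EX RL ⟨3 :: [3, 6, 3, 2, 2, 7, 6, 3, 6, 6, 7, 3, 6, 3, 2, 2, 7, 6, 3, 6, 6, 7, 3, 3, 3, 6, 3, 2, 2, 7, 6, 3, 6, 6, 7, 3, 3, 3, 2, 2, 7, 2, 3, 6, 6, 7, 2, 7, 3], [5, 3, 3, 4, 3, 5, 2, 2, 4, 3], 2, false⟩) (lall (memL L) [3, 6, 3, 2, 2, 7, 6, 3, 6, 6, 7, 3, 6, 3, 2, 2, 7, 6, 3, 6, 6, 7, 3, 3, 3, 6, 3, 2, 2, 7, 6, 3, 6, 6, 7, 3, 3, 3, 2, 2, 7, 2, 3, 6, 6, 7, 2, 7, 3]) = true := by decide +kernel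

theorem rot3_101 : T.rot 3 [6, 3, 2, 2, 7, 6, 3, 6, 6, 7, 3, 6, 3, 2, 2, 7, 6, 3, 6, 6, 7, 3, 3, 3, 6, 3, 2, 2, 7, 6, 3, 6, 6, 7, 3, 3, 3, 2, 2, 7, 2, 3, 6, 6, 7, 2, 7, 3, 3] (sel (ones 7128) ip3 101) = true := by decide +kernel

theorem rot3_101r : band (Rule.ok (2 * 0) EX RL ⟨3 :: [6, 3, 2, 2, 7, 6, 3, 6, 6, 7, 3, 6, 3, 2, 2, 7, 6, 3, 6, 6, 7, 3, 3, 3, 6, 3, 2, 2, 7, 6, 3, 6, 6, 7, 3, 3, 3, 2, 2, 7, 2, 3, 6, 6, 7, 2, 7, 3, 3], [5, 3, 3, 4, 3, 5, 2, 2, 4, 3, 5], 2, false⟩) (lall (memL L) [6, 3, 2, 2, 7, 6, 3, 6, 6, 7, 3, 6, 3, 2, 2, 7, 6, 3, 6, 6, 7, 3, 3, 3, 6, 3, 2, 2, 7, 6, 3, 6, 6, 7, 3, 3, 3, 2, 2, 7, 2, 3, 6, 6, 7, 2, 7, 3, 3]) = true := by decide +kernel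

theorem rot3_102 : T.rot 3 [2, 2, 7, 6, 3, 6, 6, 7, 3, 6, 3, 2, 2, 7, 6, 3, 6, 6, 7, 3, 3, 3, 6, 3, 2, 2, 7, 6, 3, 6, 6, 7, 3, 3, 3, 2, 2, 7, 2, 3, 6, 6, 7, 2, 7, 3, 3, 3, 6] (sel (ones 7128) ip3 102) = true := by decide +kernel

theorem rot3_102r : band (Rule.ok (2 * 0) EX RL ⟨3 :: [2, 2, 7, 6, 3, 6, 6, 7, 3, 6, 3, 2, 2, 7, 6, 3, 6, 6, 7, 3, 3, 3, 6, 3, 2, 2, 7, 6, 3, 6, 6, 7, 3, 3, 3, 2, 2, 7, 2, 3, 6, 6, 7, 2, 7, 3, 3, 3, 6], [5, 3, 3, 4, 3, 5, 2, 2, 4, 3, 5, 5, 2], 2, false⟩) (lall (memL L) [2, 2, 7, 6, 3, 6, 6, 7, 3, 6, 3, 2, 2, 7, 6, 3, 6, 6, 7, 3, 3, 3, 6, 3, 2, 2, 7, 6, 3, 6, 6, 7, 3, 3, 3, 2, 2, 7, 2, 3, 6, 6, 7, 2, 7, 3, 3, 3, 6]) = true := by decide +kernel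

theorem rot3_103 : T.rot 3 [6, 6, 7, 3, 6, 3, 2, 2, 7, 6, 3, 6, 6, 7, 3, 3, 3, 6, 3, 2, 2, 7, 6, 3, 6, 6, 7, 3, 3, 3, 2, 2, 7, 2, 3, 6, 6, 7, 2, 7, 3, 3, 3, 6, 3, 2, 2, 7, 6] (sel (ones 7128) ip3 103) = true := by decide +kernel

theorem rot3_103r : band (Rule.ok (2 * 0) EX RL ⟨3 :: [6, 6, 7, 3, 6, 3, 2, 2, 7, 6, 3, 6, 6, 7, 3, 3, 3, 6, 3, 2, 2, 7, 6, 3, 6, 6, 7, 3, 3, 3, 2, 2, 7, 2, 3, 6, 6, 7, 2, 7, 3, 3, 3, 6, 3, 2, 2, 7, 6], [5, 3, 3, 4, 3, 5, 2, 2, 4, 3, 5, 5, 2, 5, 3, 3, 4, 2], 2, false⟩) (lall (memL L) [6, 6, 7, 3, 6, 3, 2, 2, 7, 6, 3, 6, 6, 7, 3, 3, 3, 6, 3, 2, 2, 7, 6, 3, 6, 6, 7, 3, 3, 3, 2, 2, 7, 2, 3, 6, 6, 7, 2, 7, 3, 3, 3, 6, 3, 2, 2, 7, 6]) = true := by decide +kernel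

theorem rot3_104 : T.rot 3 [2, 2, 7, 6, 3, 6, 6, 7, 3, 3, 3, 6, 3, 2, 2, 7, 6, 3, 6, 6, 7, 3, 3, 3, 2, 2, 7, 2, 3, 6, 6, 7, 2, 7, 3, 3, 3, 6, 3, 2, 2, 7, 6, 3, 6, 6, 7, 3, 6] (sel (ones 7128) ip3 104) = true := by decide +kernel

theorem rot3_104r : band (Rule.ok (2 * 0) EX RL ⟨3 :: [2, 2, 7, 6, 3, 6, 6, 7, 3, 3, 3, 6, 3, 2, 2, 7, 6, 3, 6, 6, 7, 3, 3, 3, 2, 2, 7, 2, 3, 6, 6, 7, 2, 7, 3, 3, 3, 6, 3, 2, 2, 7, 6, 3, 6, 6, 7, 3, 6], [4, 3, 3, 4, 3, 5, 2, 2, 4, 3, 4, 4, 3, 3, 4, 3, 5, 2, 2, 4], 2, false⟩) (lall (memL L) [2, 2, 7, 6, 3, 6, 6, 7, 3, 3, 3, 6, 3, 2, 2, 7, 6, 3, 6, 6, 7, 3, 3, 3, 2, 2, 7, 2, 3, 6, 6, 7, 2, 7, 3, 3, 3, 6, 3, 2, 2, 7, 6, 3, 6, 6, 7, 3, 6]) = true := by decide +kernel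

theorem rot3_105 : T.rot 3 [6, 6, 7, 3, 3, 3, 6, 3, 2, 2, 7, 6, 3, 6, 6, 7, 3, 3, 3, 2, 2, 7, 2, 3, 6, 6, 7, 2, 7, 3, 3, 3, 6, 3, 2, 2, 7, 6, 3, 6, 6, 7, 3, 6, 3, 2, 2, 7, 6] (sel (ones 7128) ip3 105) = true := by decide +kernel

theorem rot3_105r : band (Rule.ok (2 * 0) EX RL ⟨3 :: [6, 6, 7, 3, 3, 3, 6, 3, 2, 2, 7, 6, 3, 6, 6, 7, 3, 3, 3, 2, 2, 7, 2, 3, 6, 6, 7, 2, 7, 3, 3, 3, 6, 3, 2, 2, 7, 6, 3, 6, 6, 7, 3, 6, 3, 2, 2, 7, 6], [4, 3, 3, 4, 3, 5, 2, 2, 4, 3, 4, 4, 3, 3, 4], 2, false⟩) (lall (memL L) [6, 6, 7, 3, 3, 3, 6, 3, 2, 2, 7, 6, 3, 6, 6, 7, 3, 3, 3, 2, 2, 7, 2, 3, 6, 6, 7, 2, 7, 3, 3, 3, 6, 3, 2, 2, 7, 6, 3, 6, 6, 7, 3, 6, 3, 2, 2, 7, 6]) = true := by decide +kernel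

theorem rot3_106 : T.rot 3 [3, 6, 3, 2, 2, 7, 6, 3, 6, 6, 7, 3, 3, 3, 2, 2, 7, 2, 3, 6, 6, 7, 2, 7, 3, 3, 3, 6, 3, 2, 2, 7, 6, 3, 6, 6, 7, 3, 6, 3, 2, 2, 7, 6, 3, 6, 6, 7, 3] (sel (ones 7128) ip3 106) = true := by decide +kernel

theorem rot3_106r : band (Rule.ok (2 * 0) EX RL ⟨3 :: [3, 6, 3, 2, 2, 7, 6, 3, 6, 6, 7, 3, 3, 3, 2, 2, 7, 2, 3, 6, 6, 7, 2, 7, 3, 3, 3, 6, 3, 2, 2, 7, 6, 3, 6, 6, 7, 3, 6, 3, 2, 2, 7, 6, 3, 6, 6, 7, 3], [4, 3, 3, 4, 3, 5, 2, 2, 4, 3, 4, 4], 2, false⟩) (lall (memL L) [3, 6, 3, 2, 2, 7, 6, 3, 6, 6, 7, 3, 3, 3, 2, 2, 7, 2, 3, 6, 6, 7, 2, 7, 3, 3, 3, 6, 3, 2, 2, 7, 6, 3, 6, 6, 7, 3, 6, 3, 2, 2, 7, 6, 3, 6, 6, 7, 3]) = true := by decide +kernel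

theorem rot3_107 : T.rot 3 [6, 3, 2, 2, 7, 6, 3, 6, 6, 7, 3, 3, 3, 2, 2, 7, 2, 3, 6, 6, 7, 2, 7, 3, 3, 3, 6, 3, 2, 2, 7, 6, 3, 6, 6, 7, 3, 6, 3, 2, 2, 7, 6, 3, 6, 6, 7, 3, 3] (sel (ones 7128) ip3 107) = true := by decide +kernel

theorem rot3_107r : band (Rule.ok (2 * 0) EX RL ⟨3 :: [6, 3, 2, 2, 7, 6, 3, 6, 6, 7, 3, 3, 3, 2, 2, 7, 2, 3, 6, 6, 7, 2, 7, 3, 3, 3, 6, 3, 2, 2, 7, 6, 3, 6, 6, 7, 3, 6, 3, 2, 2, 7, 6, 3, 6, 6, 7, 3, 3], [4, 3, 3, 4, 3, 5, 2, 2, 4, 3, 4], 2, false⟩) (lall (memL L) [6, 3, 2, 2, 7, 6, 3, 6, 6, 7, 3, 3, 3, 2, 2, 7, 2, 3, 6, 6, 7, 2, 7, 3, 3, 3, 6, 3, 2, 2, 7, 6, 3, 6, 6, 7, 3, 6, 3, 2, 2, 7, 6, 3, 6, 6, 7, 3, 3]) = true := by decide +kernel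

theorem rot3_108 : T.rot 3 [2, 2, 7, 6, 3, 6, 6, 7, 3, 3, 3, 2, 2, 7, 2, 3, 6, 6, 7, 2, 7, 3, 3, 3, 6, 3, 2, 2, 7, 6, 3, 6, 6, 7, 3, 6, 3, 2, 2, 7, 6, 3, 6, 6, 7, 3, 3, 3, 6] (sel (ones 7128) ip3 108) = true := by decide +kernel

theorem rot3_108r : band (Rule.ok (2 * 0) EX RL ⟨3 :: [2, 2, 7, 6, 3, 6, 6, 7, 3, 3, 3, 2, 2, 7, 2, 3, 6, 6, 7, 2, 7, 3, 3, 3, 6, 3, 2, 2, 7, 6, 3, 6, 6, 7, 3, 6, 3, 2, 2, 7, 6, 3, 6, 6, 7, 3, 3, 3, 6], [4, 3, 3, 4, 3, 5, 2, 2, 4], 2, false⟩) (lall (memL L) [2, 2, 7, 6, 3, 6, 6, 7, 3, 3, 3, 2, 2, 7, 2, 3, 6, 6, 7, 2, 7, 3, 3, 3, 6, 3, 2, 2, 7, 6, 3, 6, 6, 7, 3, 6, 3, 2, 2, 7, 6, 3, 6, 6, 7, 3, 3, 3, 6]) = true := by decide +kernel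

theorem rot3_109 : T.rot 3 [6, 6, 7, 3, 3, 3, 2, 2, 7, 2, 3, 6, 6, 7, 2, 7, 3, 3, 3, 6, 3, 2, 2, 7, 6, 3, 6, 6, 7, 3, 6, 3, 2, 2, 7, 6, 3, 6, 6, 7, 3, 3, 3, 6, 3, 2, 2, 7, 6] (sel (ones 7128) ip3 109) = true := by decide +kernel

theorem rot3_109r : band (Rule.ok (2 * 0) EX RL ⟨3 :: [6, 6, 7, 3, 3, 3, 2, 2, 7, 2, 3, 6, 6, 7, 2, 7, 3, 3, 3, 6, 3, 2, 2, 7, 6, 3, 6, 6, 7, 3, 6, 3, 2, 2, 7, 6, 3, 6, 6, 7, 3, 3, 3, 6, 3, 2, 2, 7, 6], [4, 3, 3, 4], 2, false⟩) (lall (memL L) [6, 6, 7, 3, 3, 3, 2, 2, 7, 2, 3, 6, 6, 7, 2, 7, 3, 3, 3, 6, 3, 2, 2, 7, 6, 3, 6, 6, 7, 3, 6, 3, 2, 2, 7, 6, 3, 6, 6, 7, 3, 3, 3, 6, 3, 2, 2, 7, 6]) = true := by decide +kernel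

theorem rot3_110 : T.rot 3 [3, 2, 2, 7, 2, 3, 6, 6, 7, 2, 7, 3, 3, 3, 6, 3, 2, 2, 7, 6, 3, 6, 6, 7, 3, 6, 3, 2, 2, 7, 6, 3, 6, 6, 7, 3, 3, 3, 6, 3, 2, 2, 7, 6, 3, 6, 6, 7, 3] (sel (ones 7128) ip3 110) = true := by decide +kernel

theorem rot3_110r : band (Rule.ok (2 * 0) EX RL ⟨3 :: [3, 2, 2, 7, 2, 3, 6, 6, 7, 2, 7, 3, 3, 3, 6, 3, 2, 2, 7, 6, 3, 6, 6, 7, 3, 6, 3, 2, 2, 7, 6, 3, 6, 6, 7, 3, 3, 3, 6, 3, 2, 2, 7, 6, 3, 6, 6, 7, 3], [4], 2, false⟩) (lall (memL L) [3, 2, 2, 7, 2, 3, 6, 6, 7, 2, 7, 3, 3, 3, 6, 3, 2, 2, 7, 6, 3, 6, 6, 7, 3, 6, 3, 2, 2, 7, 6, 3, 6, 6, 7, 3, 3, 3, 6, 3, 2, 2, 7, 6, 3, 6, 6, 7, 3]) = true := by decide +kernel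

theorem cov3 : T.cover 3 [(sel (ones 7128) ip3 1), (sel (ones 7128) ip3 2), (sel (ones 7128) ip3 3), (sel (ones 7128) ip3 4), (sel (ones 7128) ip3 5), (sel (ones 7128) ip3 6), (sel (ones 7128) ip3 7), (sel (ones 7128) ip3 8), (sel (ones 7128) ip3 9), (sel (ones 7128) ip3 10), (sel (ones 7128) ip3 11), (sel (ones 7128) ip3 12), (sel (ones 7128) ip3 13), (sel (ones 7128) ip3 14), (sel (ones 7128) ip3 15), (sel (ones 7128) ip3 16), (sel (ones 7128) ip3 17), (sel (ones 7128) ip3 18), (sel (ones 7128) ip3 19), (sel (ones 7128) ip3 20), (sel (ones 7128) ip3 21), (sel (ones 7128) ip3 22), (sel (ones 7128) ip3 23), (sel (ones 7128) ip3 24), (sel (ones 7128) ip3 25), (sel (ones 7128) ip3 26), (sel (ones 7128) ip3 27), (sel (ones 7128) ip3 28), (sel (ones 7128) ip3 29), (sel (ones 7128)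 ip3 30), (sel (ones 7128) ip3 31), (sel (ones 7128) ip3 32), (sel (ones 7128) ip3 33), (sel (ones 7128) ip3 34), (sel (ones 7128) ip3 35), (sel (ones 7128) ip3 36), (sel (ones 7128) ip3 37), (sel (ones 7128) ip3 38), (sel (ones 7128) ip3 39), (sel (ones 7128) ip3 40), (sel (ones 7128) ip3 41), (sel (ones 7128) ip3 42), (sel (ones 7128) ip3 43), (sel (ones 7128) ip3 44), (sel (ones 7128) ip3 45), (sel (ones 7128) ip3 46), (sel (ones 7128) ip3 47), (sel (ones 7128) ip3 48), (sel (ones 7128) ip3 49), (sel (ones 7128) ip3 50), (sel (ones 7128) ip3 51), (sel (ones 7128) ip3 52), (sel (ones 7128) ip3 53), (sel (ones 7128) ip3 54), (sel (ones 7128) ip3 55), (sel (ones 7128) ip3 56), (sel (ones 7128) ip3 57), (sel (ones 7128) ip3 58), (sel (ones 7128) ip3 59), (sel (ones 7128) ip3 60),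 (sel (ones 7128) ip3 61), (sel (ones 7128) ip3 62), (sel (ones 7128) ip3 63), (sel (ones 7128) ip3 64), (sel (ones 7128) ip3 65), (sel (ones 7128) ip3 66), (sel (ones 7128) ip3 67), (sel (ones 7128) ip3 68), (sel (ones 7128) ip3 69), (sel (ones 7128) ip3 70), (sel (ones 7128) ip3 71), (sel (ones 7128) ip3 72), (sel (ones 7128) ip3 73), (sel (ones 7128) ip3 74), (sel (ones 7128) ip3 75), (sel (ones 7128) ip3 76), (sel (ones 7128) ip3 77), (sel (ones 7128) ip3 78), (sel (ones 7128) ip3 79), (sel (ones 7128) ip3 80), (sel (ones 7128) ip3 81), (sel (ones 7128) ip3 82), (sel (ones 7128) ip3 83), (sel (ones 7128) ip3 84), (sel (ones 7128) ip3 85), (sel (ones 7128) ip3 86), (sel (ones 7128) ip3 87), (sel (ones 7128) ip3 88), (sel (ones 7128) ip3 89), (sel (ones 7128) ip3 90), (sel (ones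 7128) ip3 91), (sel (ones 7128) ip3 92), (sel (ones 7128) ip3 93), (sel (ones 7128) ip3 94), (sel (ones 7128) ip3 95), (sel (ones 7128) ip3 96), (sel (ones 7128) ip3 97), (sel (ones 7128) ip3 98), (sel (ones 7128) ip3 99), (sel (ones 7128) ip3 100), (sel (ones 7128) ip3 101), (sel (ones 7128) ip3 102), (sel (ones 7128) ip3 103), (sel (ones 7128) ip3 104), (sel (ones 7128) ip3 105), (sel (ones 7128) ip3 106), (sel (ones 7128) ip3 107), (sel (ones 7128) ip3 108), (sel (ones 7128) ip3 109), (sel (ones 7128) ip3 110), 1] = true := by decide +kernel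

theorem tl3 : T.treeLt 13 3 = true := by decide +kernel

theorem rot4_1 : T.rot 4 [8] (sel (ones 7128) ip4 1) = true := by decide +kernel

theorem rot4_1r : band (Rule.ok (2 * 0) EX RL ⟨4 :: [8], [], 29, false⟩) (lall (memL L) [8]) = true := by decide +kernel

theorem rot4_2 : T.rot 4 [4, 5, 5] (sel (ones 7128) ip4 2) = true := by decide +kernel

theorem rot4_2r : band (Rule.ok (2 * 0) EX RL ⟨4 :: [4, 5, 5], [], 10, false⟩) (lall (memL L) [4, 5, 5]) = true := by decide +kernel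

theorem rot4_3 : T.rot 4 [5, 5, 4] (sel (ones 7128) ip4 3) = true := by decide +kernel

theorem rot4_3r : band (Rule.ok (2 * 0) EX RL ⟨4 :: [5, 5, 4], [7], 10, false⟩) (lall (memL L) [5, 5, 4]) = true := by decide +kernel

theorem rot4_4 : T.rot 4 [7, 7, 8, 3, 3] (sel (ones 7128) ip4 4) = true := by decide +kernel

theorem rot4_4r : band (Rule.ok (2 * 0) EX RL ⟨4 :: [7, 7, 8, 3, 3], [5], 14, true⟩) (lall (memL L) [7, 7, 8, 3, 3]) = true := by decide +kernel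

theorem rot4_5 : T.rot 4 [3, 3, 8, 7, 7] (sel (ones 7128) ip4 5) = true := by decide +kernel

theorem rot4_5r : band (Rule.ok (2 * 0) EX RL ⟨4 :: [3, 3, 8, 7, 7], [4], 14, false⟩) (lall (memL L) [3, 3, 8, 7, 7]) = true := by decide +kernel

theorem rot4_6 : T.rot 4 [1, 8, 5, 8, 1] (sel (ones 7128) ip4 6) = true := by decide +kernel

theorem rot4_6r : band (Rule.ok (2 * 0) EX RL ⟨4 :: [1, 8, 5, 8, 1], [1], 15, true⟩) (lall (memL L) [1, 8, 5, 8, 1]) = true := by decide +kernel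

theorem rot4_7 : T.rot 4 [1, 4, 5, 8, 5] (sel (ones 7128) ip4 7) = true := by decide +kernel

theorem rot4_7r : band (Rule.ok (2 * 0) EX RL ⟨4 :: [1, 4, 5, 8, 5], [], 15, false⟩) (lall (memL L) [1, 4, 5, 8, 5]) = true := by decide +kernel

theorem rot4_8 : T.rot 4 [5, 8, 5, 4, 1] (sel (ones 7128) ip4 8) = true := by decide +kernel

theorem rot4_8r : band (Rule.ok (2 * 0) EX RL ⟨4 :: [5, 8, 5, 4, 1], [7, 1], 15, false⟩) (lall (memL L) [5, 8, 5, 4, 1]) = true := by decide +kernel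

theorem rot4_9 : T.rot 4 [3, 3, 4, 1, 1] (sel (ones 7128) ip4 9) = true := by decide +kernel

theorem rot4_9r : band (Rule.ok (2 * 0) EX RL ⟨4 :: [3, 3, 4, 1, 1], [1], 18, false⟩) (lall (memL L) [3, 3, 4, 1, 1]) = true := by decide +kernel

theorem rot4_10 : T.rot 4 [1, 1, 4, 3, 3] (sel (ones 7128) ip4 10) = true := by decide +kernel

theorem rot4_10r : band (Rule.ok (2 * 0) EX RL ⟨4 :: [1, 1, 4, 3, 3], [0, 6], 18, false⟩) (lall (memL L) [1, 1, 4, 3, 3]) = true := by decide +kernel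

theorem rot4_11 : T.rot 4 [4, 3, 8, 8, 3] (sel (ones 7128) ip4 11) = true := by decide +kernel

theorem rot4_11r : band (Rule.ok (2 * 0) EX RL ⟨4 :: [4, 3, 8, 8, 3], [6, 5], 20, true⟩) (lall (memL L) [4, 3, 8, 8, 3]) = true := by decide +kernel

theorem rot4_12 : T.rot 4 [3, 8, 8, 3, 4] (sel (ones 7128) ip4 12) = true := by decide +kernel

theorem rot4_12r : band (Rule.ok (2 * 0) EX RL ⟨4 :: [3, 8, 8, 3, 4], [7, 4, 6], 20, true⟩) (lall (memL L) [3, 8, 8, 3, 4]) = true := by decide +kernel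

theorem rot4_13 : T.rot 4 [7, 8, 8, 7, 4] (sel (ones 7128) ip4 13) = true := by decide +kernel

theorem rot4_13r : band (Rule.ok (2 * 0) EX RL ⟨4 :: [7, 8, 8, 7, 4], [], 20, false⟩) (lall (memL L) [7, 8, 8, 7, 4]) = true := by decide +kernel

theorem rot4_14 : T.rot 4 [4, 7, 8, 8, 7] (sel (ones 7128) ip4 14) = true := by decide +kernel

theorem rot4_14r : band (Rule.ok (2 * 0) EX RL ⟨4 :: [4, 7, 8, 8, 7], [6], 20, false⟩) (lall (memL L) [4, 7, 8, 8, 7]) = true := by decide +kernel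

theorem rot4_15 : T.rot 4 [6, 8, 5, 2, 1, 2] (sel (ones 7128) ip4 15) = true := by decide +kernel

theorem rot4_15r : band (Rule.ok (2 * 0) EX RL ⟨4 :: [6, 8, 5, 2, 1, 2], [1, 3], 16, true⟩) (lall (memL L) [6, 8, 5, 2, 1, 2]) = true := by decide +kernel

theorem rot4_16 : T.rot 4 [2, 8, 6, 5, 6, 1] (sel (ones 7128) ip4 16) = true := by decide +kernel

theorem rot4_16r : band (Rule.ok (2 * 0) EX RL ⟨4 :: [2, 8, 6, 5, 6, 1], [2, 1], 16, false⟩) (lall (memL L) [2, 8, 6, 5, 6, 1]) = true := by decide +kernel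

theorem rot4_17 : T.rot 4 [6, 8, 2, 1, 2, 2, 5] (sel (ones 7128) ip4 17) = true := by decide +kernel

theorem rot4_17r : band (Rule.ok (2 * 0) EX RL ⟨4 :: [6, 8, 2, 1, 2, 2, 5], [2, 7, 3, 6], 17, true⟩) (lall (memL L) [6, 8, 2, 1, 2, 2, 5]) = true := by decide +kernel

theorem rot4_18 : T.rot 4 [2, 8, 1, 6, 6, 5, 6] (sel (ones 7128) ip4 18) = true := by decide +kernel

theorem rot4_18r : band (Rule.ok (2 * 0) EX RL ⟨4 :: [2, 8, 1, 6, 6, 5, 6], [2], 17, false⟩) (lall (memL L) [2, 8, 1, 6, 6, 5, 6]) = true := by decide +kernel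

theorem rot4_19 : T.rot 4 [1, 2, 5, 6, 6, 8, 2] (sel (ones 7128) ip4 19) = true := by decide +kernel

theorem rot4_19r : band (Rule.ok (2 * 0) EX RL ⟨4 :: [1, 2, 5, 6, 6, 8, 2], [3], 19, true⟩) (lall (memL L) [1, 2, 5, 6, 6, 8, 2]) = true := by decide +kernel

theorem rot4_20 : T.rot 4 [2, 2, 1, 6, 5, 8, 6] (sel (ones 7128) ip4 20) = true := by decide +kernel

theorem rot4_20r : band (Rule.ok (2 * 0) EX RL ⟨4 :: [2, 2, 1, 6, 5, 8, 6], [], 19, false⟩) (lall (memL L) [2, 2, 1, 6, 5, 8, 6]) = true := by decide +kernel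

theorem rot4_21 : T.rot 4 [5, 6, 4, 5, 6, 8, 1, 6] (sel (ones 7128) ip4 21) = true := by decide +kernel

theorem rot4_21r : band (Rule.ok (2 * 0) EX RL ⟨4 :: [5, 6, 4, 5, 6, 8, 1, 6], [1, 2], 22, true⟩) (lall (memL L) [5, 6, 4, 5, 6, 8, 1, 6]) = true := by decide +kernel

theorem rot4_22 : T.rot 4 [5, 6, 8, 1, 6, 4, 5, 6] (sel (ones 7128) ip4 22) = true := by decide +kernel

theorem rot4_22r : band (Rule.ok (2 * 0) EX RL ⟨4 :: [5, 6, 8, 1, 6, 4, 5, 6], [7, 3, 1, 6], 22, true⟩) (lall (memL L) [5, 6, 8, 1, 6, 4, 5, 6]) = true := by decide +kernel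

theorem rot4_23 : T.rot 4 [2, 1, 8, 2, 1, 8, 2, 5] (sel (ones 7128) ip4 23) = true := by decide +kernel

theorem rot4_23r : band (Rule.ok (2 * 0) EX RL ⟨4 :: [2, 1, 8, 2, 1, 8, 2, 5], [], 22, false⟩) (lall (memL L) [2, 1, 8, 2, 1, 8, 2, 5]) = true := by decide +kernel

theorem rot4_24 : T.rot 4 [2, 4, 2, 7, 5, 3, 6, 1, 2] (sel (ones 7128) ip4 24) = true := by decide +kernel

theorem rot4_24r : band (Rule.ok (2 * 0) EX RL ⟨4 :: [2, 4, 2, 7, 5, 3, 6, 1, 2], [5, 2, 1, 3], 24, false⟩) (lall (memL L) [2, 4, 2, 7, 5, 3, 6, 1, 2]) = true := by decide +kernel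

theorem rot4_25 : T.rot 4 [2, 7, 5, 3, 6, 1, 2, 4, 2] (sel (ones 7128) ip4 25) = true := by decide +kernel

theorem rot4_25r : band (Rule.ok (2 * 0) EX RL ⟨4 :: [2, 7, 5, 3, 6, 1, 2, 4, 2], [1, 5, 2, 6], 24, false⟩) (lall (memL L) [2, 7, 5, 3, 6, 1, 2, 4, 2]) = true := by decide +kernel

theorem rot4_26 : T.rot 4 [1, 2, 4, 5, 6, 4, 6, 7, 5, 3] (sel (ones 7128) ip4 26) = true := by decide +kernel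

theorem rot4_26r : band (Rule.ok (2 * 0) EX RL ⟨4 :: [1, 2, 4, 5, 6, 4, 6, 7, 5, 3], [5], 21, false⟩) (lall (memL L) [1, 2, 4, 5, 6, 4, 6, 7, 5, 3]) = true := by decide +kernel

theorem rot4_27 : T.rot 4 [5, 6, 4, 6, 7, 5, 3, 4, 1, 2] (sel (ones 7128) ip4 27) = true := by decide +kernel

theorem rot4_27r : band (Rule.ok (2 * 0) EX RL ⟨4 :: [5, 6, 4, 6, 7, 5, 3, 4, 1, 2], [5, 7, 1, 3], 21, false⟩) (lall (memL L) [5, 6, 4, 6, 7, 5, 3, 4, 1, 2]) = true := by decide +kernel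

theorem rot4_28 : T.rot 4 [6, 7, 5, 3, 4, 1, 2, 4, 5, 6] (sel (ones 7128) ip4 28) = true := by decide +kernel

theorem rot4_28r : band (Rule.ok (2 * 0) EX RL ⟨4 :: [6, 7, 5, 3, 4, 1, 2, 4, 5, 6], [1, 5, 3, 6], 21, false⟩) (lall (memL L) [6, 7, 5, 3, 4, 1, 2, 4, 5, 6]) = true := by decide +kernel

theorem rot4_29 : T.rot 4 [2, 1, 4, 2, 2, 1, 4, 6, 7, 1, 3] (sel (ones 7128) ip4 29) = true := by decide +kernel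

theorem rot4_29r : band (Rule.ok (2 * 0) EX RL ⟨4 :: [2, 1, 4, 2, 2, 1, 4, 6, 7, 1, 3], [1, 5], 23, true⟩) (lall (memL L) [2, 1, 4, 2, 2, 1, 4, 6, 7, 1, 3]) = true := by decide +kernel

theorem rot4_30 : T.rot 4 [2, 2, 1, 4, 6, 7, 1, 3, 4, 2, 1] (sel (ones 7128) ip4 30) = true := by decide +kernel

theorem rot4_30r : band (Rule.ok (2 * 0) EX RL ⟨4 :: [2, 2, 1, 4, 6, 7, 1, 3, 4, 2, 1], [1, 5, 7, 3, 1], 23, true⟩) (lall (memL L) [2, 2, 1, 4, 6, 7, 1, 3, 4, 2, 1]) = true := by decide +kernel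

theorem rot4_31 : T.rot 4 [6, 7, 1, 3, 4, 2, 1, 4, 2, 2, 1] (sel (ones 7128) ip4 31) = true := by decide +kernel

theorem rot4_31r : band (Rule.ok (2 * 0) EX RL ⟨4 :: [6, 7, 1, 3, 4, 2, 1, 4, 2, 2, 1], [5, 3, 6], 23, true⟩) (lall (memL L) [6, 7, 1, 3, 4, 2, 1, 4, 2, 2, 1]) = true := by decide +kernel

theorem rot4_32 : T.rot 4 [2, 4, 6, 1, 2, 7, 1, 3, 2, 1, 1] (sel (ones 7128) ip4 32) = true := by decide +kernel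

theorem rot4_32r : band (Rule.ok (2 * 0) EX RL ⟨4 :: [2, 4, 6, 1, 2, 7, 1, 3, 2, 1, 1], [1, 5, 3, 1, 1], 25, true⟩) (lall (memL L) [2, 4, 6, 1, 2, 7, 1, 3, 2, 1, 1]) = true := by decide +kernel

theorem rot4_33 : T.rot 4 [6, 1, 2, 7, 1, 3, 2, 1, 1, 4, 2] (sel (ones 7128) ip4 33) = true := by decide +kernel

theorem rot4_33r : band (Rule.ok (2 * 0) EX RL ⟨4 :: [6, 1, 2, 7, 1, 3, 2, 1, 1, 4, 2], [5, 2, 0, 3, 6], 25, true⟩) (lall (memL L) [6, 1, 2, 7, 1, 3, 2, 1, 1, 4, 2]) = true := by decide +kernel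

theorem rot4_34 : T.rot 4 [6, 7, 2, 7, 6, 1, 6, 3, 2, 4, 6] (sel (ones 7128) ip4 34) = true := by decide +kernel

theorem rot4_34r : band (Rule.ok (2 * 0) EX RL ⟨4 :: [6, 7, 2, 7, 6, 1, 6, 3, 2, 4, 6], [], 27, true⟩) (lall (memL L) [6, 7, 2, 7, 6, 1, 6, 3, 2, 4, 6]) = true := by decide +kernel

theorem rot4_35 : T.rot 4 [6, 4, 6, 7, 2, 7, 6, 1, 6, 3, 2] (sel (ones 7128) ip4 35) = true := by decide +kernel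

theorem rot4_35r : band (Rule.ok (2 * 0) EX RL ⟨4 :: [6, 4, 6, 7, 2, 7, 6, 1, 6, 3, 2], [3, 6], 27, true⟩) (lall (memL L) [6, 4, 6, 7, 2, 7, 6, 1, 6, 3, 2]) = true := by decide +kernel

theorem rot4_36 : T.rot 4 [1, 3, 2, 8, 2, 7, 4, 2, 1, 2, 7, 8, 7, 2, 2, 7, 2, 2] (sel (ones 7128) ip4 36) = true := by decide +kernel

theorem rot4_36r : band (Rule.ok (2 * 0) EX RL ⟨4 :: [1, 3, 2, 8, 2, 7, 4, 2, 1, 2, 7, 8, 7, 2, 2, 7, 2, 2], [], 28, true⟩) (lall (memL L) [1, 3, 2, 8, 2, 7, 4, 2, 1, 2, 7, 8, 7, 2, 2, 7, 2, 2]) = true := by decide +kernel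

theorem rot4_37 : T.rot 4 [2, 1, 2, 7, 8, 7, 2, 2, 7, 2, 2, 4, 1, 3, 2, 8, 2, 7] (sel (ones 7128) ip4 37) = true := by decide +kernel

theorem rot4_37r : band (Rule.ok (2 * 0) EX RL ⟨4 :: [2, 1, 2, 7, 8, 7, 2, 2, 7, 2, 2, 4, 1, 3, 2, 8, 2, 7], [7, 1, 5, 3, 6, 3, 4], 28, true⟩) (lall (memL L) [2, 1, 2, 7, 8, 7, 2, 2, 7, 2, 2, 4, 1, 3, 2, 8, 2, 7]) = true := by decide +kernel

theorem rot4_38 : T.rot 4 [3, 6, 5, 6, 8, 3, 6, 4, 6, 7, 5, 8, 6, 6, 3, 6, 6, 3] (sel (ones 7128) ip4 38) = true := by decide +kernel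

theorem rot4_38r : band (Rule.ok (2 * 0) EX RL ⟨4 :: [3, 6, 5, 6, 8, 3, 6, 4, 6, 7, 5, 8, 6, 6, 3, 6, 6, 3], [2, 2, 5, 2, 2, 5], 28, false⟩) (lall (memL L) [3, 6, 5, 6, 8, 3, 6, 4, 6, 7, 5, 8, 6, 6, 3, 6, 6, 3]) = true := by decide +kernel

theorem rot4_39 : T.rot 4 [6, 7, 5, 8, 6, 6, 3, 6, 6, 3, 4, 3, 6, 5, 6, 8, 3, 6] (sel (ones 7128) ip4 39) = true := by decide +kernel

theorem rot4_39r : band (Rule.ok (2 * 0) EX RL ⟨4 :: [6, 7, 5, 8, 6, 6, 3, 6, 6, 3, 4, 3, 6, 5, 6, 8, 3, 6], [7, 1, 5, 3, 6], 28, false⟩) (lall (memL L) [6, 7, 5, 8, 6, 6, 3, 6, 6, 3, 4, 3, 6, 5, 6, 8, 3, 6]) = true := by decide +kernel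

theorem cov4 : T.cover 4 [(sel (ones 7128) ip4 1), (sel (ones 7128) ip4 2), (sel (ones 7128) ip4 3), (sel (ones 7128) ip4 4), (sel (ones 7128) ip4 5), (sel (ones 7128) ip4 6), (sel (ones 7128) ip4 7), (sel (ones 7128) ip4 8), (sel (ones 7128) ip4 9), (sel (ones 7128) ip4 10), (sel (ones 7128) ip4 11), (sel (ones 7128) ip4 12), (sel (ones 7128) ip4 13), (sel (ones 7128) ip4 14), (sel (ones 7128) ip4 15), (sel (ones 7128) ip4 16), (sel (ones 7128) ip4 17), (sel (ones 7128) ip4 18), (sel (ones 7128) ip4 19), (sel (ones 7128) ip4 20), (sel (ones 7128) ip4 21), (sel (ones 7128) ip4 22), (sel (ones 7128) ip4 23), (sel (ones 7128) ip4 24), (sel (ones 7128) ip4 25), (sel (ones 7128) ip4 26), (sel (ones 7128) ip4 27), (sel (ones 7128) ip4 28), (sel (ones 7128) ip4 29), (sel (ones 7128)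 ip4 30), (sel (ones 7128) ip4 31), (sel (ones 7128) ip4 32), (sel (ones 7128) ip4 33), (sel (ones 7128) ip4 34), (sel (ones 7128) ip4 35), (sel (ones 7128) ip4 36), (sel (ones 7128) ip4 37), (sel (ones 7128) ip4 38), (sel (ones 7128) ip4 39)] = true := by decide +kernel

theorem tl4 : T.treeLt 13 4 = true := by decide +kernel

theorem rot5_1 : T.rot 5 [1] (sel (ones 7128) ip5 1) = true := by decide +kernel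

theorem rot5_1r : band (Rule.ok (2 * 0) EX RL ⟨5 :: [1], [], 29, false⟩) (lall (memL L) [1]) = true := by decide +kernel

theorem rot5_2 : T.rot 5 [5, 4, 4] (sel (ones 7128) ip5 2) = true := by decide +kernel

theorem rot5_2r : band (Rule.ok (2 * 0) EX RL ⟨5 :: [5, 4, 4], [1, 1], 10, false⟩) (lall (memL L) [5, 4, 4]) = true := by decide +kernel

theorem rot5_3 : T.rot 5 [4, 4, 5] (sel (ones 7128) ip5 3) = true := by decide +kernel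

theorem rot5_3r : band (Rule.ok (2 * 0) EX RL ⟨5 :: [4, 4, 5], [1], 10, false⟩) (lall (memL L) [4, 4, 5]) = true := by decide +kernel

theorem rot5_4 : T.rot 5 [3, 5, 3] (sel (ones 7128) ip5 4) = true := by decide +kernel

theorem rot5_4r : band (Rule.ok (2 * 0) EX RL ⟨5 :: [3, 5, 3], [1], 11, false⟩) (lall (memL L) [3, 5, 3]) = true := by decide +kernel

theorem rot5_5 : T.rot 5 [7, 5, 7] (sel (ones 7128) ip5 5) = true := by decide +kernel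

theorem rot5_5r : band (Rule.ok (2 * 0) EX RL ⟨5 :: [7, 5, 7], [1], 13, false⟩) (lall (memL L) [7, 5, 7]) = true := by decide +kernel

theorem rot5_6 : T.rot 5 [5, 5, 5, 3, 3] (sel (ones 7128) ip5 6) = true := by decide +kernel

theorem rot5_6r : band (Rule.ok (2 * 0) EX RL ⟨5 :: [5, 5, 5, 3, 3], [5, 5], 12, false⟩) (lall (memL L) [5, 5, 5, 3, 3]) = true := by decide +kernel

theorem rot5_7 : T.rot 5 [5, 5, 3, 3, 5] (sel (ones 7128) ip5 7) = true := by decide +kernel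

theorem rot5_7r : band (Rule.ok (2 * 0) EX RL ⟨5 :: [5, 5, 3, 3, 5], [1, 1, 1], 12, false⟩) (lall (memL L) [5, 5, 3, 3, 5]) = true := by decide +kernel

theorem rot5_8 : T.rot 5 [5, 3, 3, 5, 5] (sel (ones 7128) ip5 8) = true := by decide +kernel

theorem rot5_8r : band (Rule.ok (2 * 0) EX RL ⟨5 :: [5, 3, 3, 5, 5], [1, 1], 12, false⟩) (lall (memL L) [5, 3, 3, 5, 5]) = true := by decide +kernel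

theorem rot5_9 : T.rot 5 [3, 3, 5, 5, 5] (sel (ones 7128) ip5 9) = true := by decide +kernel

theorem rot5_9r : band (Rule.ok (2 * 0) EX RL ⟨5 :: [3, 3, 5, 5, 5], [1], 12, false⟩) (lall (memL L) [3, 3, 5, 5, 5]) = true := by decide +kernel

theorem rot5_10 : T.rot 5 [8, 1, 4, 1, 8] (sel (ones 7128) ip5 10) = true := by decide +kernel

theorem rot5_10r : band (Rule.ok (2 * 0) EX RL ⟨5 :: [8, 1, 4, 1, 8], [7, 1], 15, true⟩) (lall (memL L) [8, 1, 4, 1, 8]) = true := by decide +kernel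

theorem rot5_11 : T.rot 5 [8, 5, 4, 1, 4] (sel (ones 7128) ip5 11) = true := by decide +kernel

theorem rot5_11r : band (Rule.ok (2 * 0) EX RL ⟨5 :: [8, 5, 4, 1, 4], [1, 7, 1], 15, false⟩) (lall (memL L) [8, 5, 4, 1, 4]) = true := by decide +kernel

theorem rot5_12 : T.rot 5 [4, 1, 4, 5, 8] (sel (ones 7128) ip5 12) = true := by decide +kernel

theorem rot5_12r : band (Rule.ok (2 * 0) EX RL ⟨5 :: [4, 1, 4, 5, 8], [1], 15, false⟩) (lall (memL L) [4, 1, 4, 5, 8]) = true := by decide +kernel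

theorem rot5_13 : T.rot 5 [8, 7, 7, 8, 5] (sel (ones 7128) ip5 13) = true := by decide +kernel

theorem rot5_13r : band (Rule.ok (2 * 0) EX RL ⟨5 :: [8, 7, 7, 8, 5], [], 18, true⟩) (lall (memL L) [8, 7, 7, 8, 5]) = true := by decide +kernel

theorem rot5_14 : T.rot 5 [5, 8, 7, 7, 8] (sel (ones 7128) ip5 14) = true := by decide +kernel

theorem rot5_14r : band (Rule.ok (2 * 0) EX RL ⟨5 :: [5, 8, 7, 7, 8], [1], 18, true⟩) (lall (memL L) [5, 8, 7, 7, 8]) = true := by decide +kernel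

theorem rot5_15 : T.rot 5 [2, 1, 2, 4, 6, 8] (sel (ones 7128) ip5 15) = true := by decide +kernel

theorem rot5_15r : band (Rule.ok (2 * 0) EX RL ⟨5 :: [2, 1, 2, 4, 6, 8], [2, 1], 16, true⟩) (lall (memL L) [2, 1, 2, 4, 6, 8]) = true := by decide +kernel

theorem rot5_16 : T.rot 5 [6, 1, 4, 2, 8, 6] (sel (ones 7128) ip5 16) = true := by decide +kernel

theorem rot5_16r : band (Rule.ok (2 * 0) EX RL ⟨5 :: [6, 1, 4, 2, 8, 6], [1], 16, false⟩) (lall (memL L) [6, 1, 4, 2, 8, 6]) = true := by decide +kernel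

theorem rot5_17 : T.rot 5 [4, 6, 8, 2, 1, 2, 2] (sel (ones 7128) ip5 17) = true := by decide +kernel

theorem rot5_17r : band (Rule.ok (2 * 0) EX RL ⟨5 :: [4, 6, 8, 2, 1, 2, 2], [1, 3, 3], 17, true⟩) (lall (memL L) [4, 6, 8, 2, 1, 2, 2]) = true := by decide +kernel

theorem rot5_18 : T.rot 5 [6, 4, 2, 8, 1, 6, 6] (sel (ones 7128) ip5 18) = true := by decide +kernel

theorem rot5_18r : band (Rule.ok (2 * 0) EX RL ⟨5 :: [6, 4, 2, 8, 1, 6, 6], [1], 17, false⟩) (lall (memL L) [6, 4, 2, 8, 1, 6, 6]) = true := by decide +kernel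

theorem rot5_19 : T.rot 5 [6, 6, 8, 2, 4, 1, 2] (sel (ones 7128) ip5 19) = true := by decide +kernel

theorem rot5_19r : band (Rule.ok (2 * 0) EX RL ⟨5 :: [6, 6, 8, 2, 4, 1, 2], [7, 3, 3, 1], 19, true⟩) (lall (memL L) [6, 6, 8, 2, 4, 1, 2]) = true := by decide +kernel

theorem rot5_20 : T.rot 5 [8, 6, 4, 2, 2, 1, 6] (sel (ones 7128) ip5 20) = true := by decide +kernel

theorem rot5_20r : band (Rule.ok (2 * 0) EX RL ⟨5 :: [8, 6, 4, 2, 2, 1, 6], [3, 7, 1], 19, false⟩) (lall (memL L) [8, 6, 4, 2, 2, 1, 6]) = true := by decide +kernel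

theorem rot5_21 : T.rot 5 [6, 4, 5, 6, 8, 1, 6, 4] (sel (ones 7128) ip5 21) = true := by decide +kernel

theorem rot5_21r : band (Rule.ok (2 * 0) EX RL ⟨5 :: [6, 4, 5, 6, 8, 1, 6, 4], [1, 2, 7], 22, true⟩) (lall (memL L) [6, 4, 5, 6, 8, 1, 6, 4]) = true := by decide +kernel

theorem rot5_22 : T.rot 5 [6, 8, 1, 6, 4, 5, 6, 4] (sel (ones 7128) ip5 22) = true := by decide +kernel

theorem rot5_22r : band (Rule.ok (2 * 0) EX RL ⟨5 :: [6, 8, 1, 6, 4, 5, 6, 4], [7, 3, 1], 22, true⟩) (lall (memL L) [6, 8, 1, 6, 4, 5, 6, 4]) = true := by decide +kernel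

theorem rot5_23 : T.rot 5 [4, 2, 1, 8, 2, 1, 8, 2] (sel (ones 7128) ip5 23) = true := by decide +kernel

theorem rot5_23r : band (Rule.ok (2 * 0) EX RL ⟨5 :: [4, 2, 1, 8, 2, 1, 8, 2], [1], 22, false⟩) (lall (memL L) [4, 2, 1, 8, 2, 1, 8, 2]) = true := by decide +kernel

theorem rot5_24 : T.rot 5 [2, 7, 1, 3, 6, 8, 6, 8, 6] (sel (ones 7128) ip5 24) = true := by decide +kernel

theorem rot5_24r : band (Rule.ok (2 * 0) EX RL ⟨5 :: [2, 7, 1, 3, 6, 8, 6, 8, 6], [5, 2, 1], 24, true⟩) (lall (memL L) [2, 7, 1, 3, 6, 8, 6, 8, 6]) = true := by decide +kernel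

theorem rot5_25 : T.rot 5 [3, 6, 1, 2, 4, 2, 4, 2, 7] (sel (ones 7128) ip5 25) = true := by decide +kernel

theorem rot5_25r : band (Rule.ok (2 * 0) EX RL ⟨5 :: [3, 6, 1, 2, 4, 2, 4, 2, 7], [1], 24, false⟩) (lall (memL L) [3, 6, 1, 2, 4, 2, 4, 2, 7]) = true := by decide +kernel

theorem rot5_26 : T.rot 5 [8, 7, 1, 3, 2, 8, 2, 1, 8, 6] (sel (ones 7128) ip5 26) = true := by decide +kernel

theorem rot5_26r : band (Rule.ok (2 * 0) EX RL ⟨5 :: [8, 7, 1, 3, 2, 8, 2, 1, 8, 6], [5, 7, 1], 21, true⟩) (lall (memL L) [8, 7, 1, 3, 2, 8, 2, 1, 8, 6]) = true := by decide +kernel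

theorem rot5_27 : T.rot 5 [6, 4, 6, 7, 5, 3, 4, 1, 2, 4] (sel (ones 7128) ip5 27) = true := by decide +kernel

theorem rot5_27r : band (Rule.ok (2 * 0) EX RL ⟨5 :: [6, 4, 6, 7, 5, 3, 4, 1, 2, 4], [5, 7, 1, 3, 7], 21, false⟩) (lall (memL L) [6, 4, 6, 7, 5, 3, 4, 1, 2, 4]) = true := by decide +kernel

theorem rot5_28 : T.rot 5 [3, 4, 1, 2, 4, 5, 6, 4, 6, 7] (sel (ones 7128) ip5 28) = true := by decide +kernel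

theorem rot5_28r : band (Rule.ok (2 * 0) EX RL ⟨5 :: [3, 4, 1, 2, 4, 5, 6, 4, 6, 7], [1], 21, false⟩) (lall (memL L) [3, 4, 1, 2, 4, 5, 6, 4, 6, 7]) = true := by decide +kernel

theorem rot5_29 : T.rot 5 [6, 6, 8, 5, 6, 8, 7, 5, 3, 2, 8] (sel (ones 7128) ip5 29) = true := by decide +kernel

theorem rot5_29r : band (Rule.ok (2 * 0) EX RL ⟨5 :: [6, 6, 8, 5, 6, 8, 7, 5, 3, 2, 8], [5, 3, 6], 23, false⟩) (lall (memL L) [6, 6, 8, 5, 6, 8, 7, 5, 3, 2, 8]) = true := by decide +kernel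

theorem rot5_30 : T.rot 5 [6, 8, 7, 5, 3, 2, 8, 5, 6, 6, 8] (sel (ones 7128) ip5 30) = true := by decide +kernel

theorem rot5_30r : band (Rule.ok (2 * 0) EX RL ⟨5 :: [6, 8, 7, 5, 3, 2, 8, 5, 6, 6, 8], [1, 5, 7, 3, 1], 23, false⟩) (lall (memL L) [6, 8, 7, 5, 3, 2, 8, 5, 6, 6, 8]) = true := by decide +kernel

theorem rot5_31 : T.rot 5 [3, 2, 8, 5, 6, 6, 8, 5, 6, 8, 7] (sel (ones 7128) ip5 31) = true := by decide +kernel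

theorem rot5_31r : band (Rule.ok (2 * 0) EX RL ⟨5 :: [3, 2, 8, 5, 6, 6, 8, 5, 6, 8, 7], [1], 23, false⟩) (lall (memL L) [3, 2, 8, 5, 6, 6, 8, 5, 6, 8, 7]) = true := by decide +kernel

theorem rot5_32 : T.rot 5 [2, 8, 6, 8, 5, 5, 6, 7, 5, 3, 6] (sel (ones 7128) ip5 32) = true := by decide +kernel

theorem rot5_32r : band (Rule.ok (2 * 0) EX RL ⟨5 :: [2, 8, 6, 8, 5, 5, 6, 7, 5, 3, 6], [5, 2], 25, false⟩) (lall (memL L) [2, 8, 6, 8, 5, 5, 6, 7, 5, 3, 6]) = true := by decide +kernel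

theorem rot5_33 : T.rot 5 [5, 6, 7, 5, 3, 6, 5, 2, 8, 6, 8] (sel (ones 7128) ip5 33) = true := by decide +kernel

theorem rot5_33r : band (Rule.ok (2 * 0) EX RL ⟨5 :: [5, 6, 7, 5, 3, 6, 5, 2, 8, 6, 8], [1, 5, 3, 1, 1], 25, false⟩) (lall (memL L) [5, 6, 7, 5, 3, 6, 5, 2, 8, 6, 8]) = true := by decide +kernel

theorem rot5_34 : T.rot 5 [6, 7, 5, 3, 6, 5, 2, 8, 6, 8, 5] (sel (ones 7128) ip5 34) = true := by decide +kernel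

theorem rot5_34r : band (Rule.ok (2 * 0) EX RL ⟨5 :: [6, 7, 5, 3, 6, 5, 2, 8, 6, 8, 5], [1, 5, 3, 1], 25, false⟩) (lall (memL L) [6, 7, 5, 3, 6, 5, 2, 8, 6, 8, 5]) = true := by decide +kernel

theorem rot5_35 : T.rot 5 [3, 6, 5, 2, 8, 6, 8, 5, 5, 6, 7] (sel (ones 7128) ip5 35) = true := by decide +kernel

theorem rot5_35r : band (Rule.ok (2 * 0) EX RL ⟨5 :: [3, 6, 5, 2, 8, 6, 8, 5, 5, 6, 7], [1], 25, false⟩) (lall (memL L) [3, 6, 5, 2, 8, 6, 8, 5, 5, 6, 7]) = true := by decide +kernel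

theorem rot5_36 : T.rot 5 [6, 3, 2, 7, 2, 2, 7, 6, 6, 3, 2] (sel (ones 7128) ip5 36) = true := by decide +kernel

theorem rot5_36r : band (Rule.ok (2 * 0) EX RL ⟨5 :: [6, 3, 2, 7, 2, 2, 7, 6, 6, 3, 2], [1], 26, false⟩) (lall (memL L) [6, 3, 2, 7, 2, 2, 7, 6, 6, 3, 2]) = true := by decide +kernel

theorem rot5_37 : T.rot 5 [2, 3, 6, 3, 2, 8, 2, 8, 6, 7, 2] (sel (ones 7128) ip5 37) = true := by decide +kernel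

theorem rot5_37r : band (Rule.ok (2 * 0) EX RL ⟨5 :: [2, 3, 6, 3, 2, 8, 2, 8, 6, 7, 2], [3, 6, 2, 4, 3], 27, false⟩) (lall (memL L) [2, 3, 6, 3, 2, 8, 2, 8, 6, 7, 2]) = true := by decide +kernel

theorem rot5_38 : T.rot 5 [6, 8, 3, 6, 4, 6, 7, 5, 8, 6, 6, 3, 6, 6, 3, 4, 3, 6] (sel (ones 7128) ip5 38) = true := by decide +kernel

theorem rot5_38r : band (Rule.ok (2 * 0) EX RL ⟨5 :: [6, 8, 3, 6, 4, 6, 7, 5, 8, 6, 6, 3, 6, 6, 3, 4, 3, 6], [2, 2, 5, 2, 2, 5, 7, 5, 2], 28, false⟩) (lall (memL L) [6, 8, 3, 6, 4, 6, 7, 5, 8, 6, 6, 3, 6, 6, 3, 4, 3, 6]) = true := by decide +kernel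

theorem rot5_39 : T.rot 5 [8, 6, 6, 3, 6, 6, 3, 4, 3, 6, 5, 6, 8, 3, 6, 4, 6, 7] (sel (ones 7128) ip5 39) = true := by decide +kernel

theorem rot5_39r : band (Rule.ok (2 * 0) EX RL ⟨5 :: [8, 6, 6, 3, 6, 6, 3, 4, 3, 6, 5, 6, 8, 3, 6, 4, 6, 7], [7, 1], 28, false⟩) (lall (memL L) [8, 6, 6, 3, 6, 6, 3, 4, 3, 6, 5, 6, 8, 3, 6, 4, 6, 7]) = true := by decide +kernel

theorem cov5 : T.cover 5 [(sel (ones 7128) ip5 1), (sel (ones 7128) ip5 2), (sel (ones 7128) ip5 3), (sel (ones 7128) ip5 4), (sel (ones 7128) ip5 5), (sel (ones 7128) ip5 6), (sel (ones 7128) ip5 7), (sel (ones 7128) ip5 8), (sel (ones 7128) ip5 9), (sel (ones 7128) ip5 10), (sel (ones 7128) ip5 11), (sel (ones 7128) ip5 12), (sel (ones 7128) ip5 13), (sel (ones 7128) ip5 14), (sel (ones 7128) ip5 15), (sel (ones 7128)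 ip5 16), (sel (ones 7128) ip5 17), (sel (ones 7128) ip5 18), (sel (ones 7128) ip5 19), (sel (ones 7128) ip5 20), (sel (ones 7128) ip5 21), (sel (ones 7128) ip5 22), (sel (ones 7128) ip5 23), (sel (ones 7128) ip5 24), (sel (ones 7128) ip5 25), (sel (ones 7128) ip5 26), (sel (ones 7128) ip5 27), (sel (ones 7128) ip5 28), (sel (ones 7128) ip5 29), (sel (ones 7128) ip5 30), (sel (ones 7128) ip5 31), (sel (ones 7128) ip5 32), (sel (ones 7128) ip5 33), (sel (ones 7128) ip5 34), (sel (ones 7128) ip5 35), (sel (ones 7128) ip5 36), (sel (ones 7128) ip5 37), (sel (ones 7128) ip5 38), (sel (ones 7128) ip5 39)] = true := by decide +kernel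

theorem tl5 : T.treeLt 13 5 = true := by decide +kernel

theorem rot6_1 : T.rot 6 [2] (sel (ones 7128) ip6 1) = true := by decide +kernel

theorem rot6_1r : band (Rule.ok (2 * 0) EX RL ⟨6 :: [2], [], 29, false⟩) (lall (memL L) [2]) = true := by decide +kernel

theorem rot6_2 : T.rot 6 [6, 6, 6, 6] (sel (ones 7128) ip6 2) = true := by decide +kernel

theorem rot6_2r : band (Rule.ok (2 * 0) EX RL ⟨6 :: [6, 6, 6, 6], [], 6, false⟩) (lall (memL L) [6, 6, 6, 6]) = true := by decide +kernel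

theorem rot6_3 : T.rot 6 [8, 5, 2, 1, 2, 4] (sel (ones 7128) ip6 3) = true := by decide +kernel

theorem rot6_3r : band (Rule.ok (2 * 0) EX RL ⟨6 :: [8, 5, 2, 1, 2, 4], [1, 3, 7], 16, true⟩) (lall (memL L) [8, 5, 2, 1, 2, 4]) = true := by decide +kernel

theorem rot6_4 : T.rot 6 [1, 4, 2, 8, 6, 5] (sel (ones 7128) ip6 4) = true := by decide +kernel

theorem rot6_4r : band (Rule.ok (2 * 0) EX RL ⟨6 :: [1, 4, 2, 8, 6, 5], [], 16, false⟩) (lall (memL L) [1, 4, 2, 8, 6, 5]) = true := by decide +kernel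

theorem rot6_5 : T.rot 6 [5, 6, 1, 4, 2, 8] (sel (ones 7128) ip6 5) = true := by decide +kernel

theorem rot6_5r : band (Rule.ok (2 * 0) EX RL ⟨6 :: [5, 6, 1, 4, 2, 8], [1, 3], 16, false⟩) (lall (memL L) [5, 6, 1, 4, 2, 8]) = true := by decide +kernel

theorem rot6_6 : T.rot 6 [8, 2, 1, 2, 2, 5, 4] (sel (ones 7128) ip6 6) = true := by decide +kernel

theorem rot6_6r : band (Rule.ok (2 * 0) EX RL ⟨6 :: [8, 2, 1, 2, 2, 5, 4], [2, 7, 3], 17, true⟩) (lall (memL L) [8, 2, 1, 2, 2, 5, 4]) = true := by decide +kernel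

theorem rot6_7 : T.rot 6 [4, 2, 8, 1, 6, 6, 5] (sel (ones 7128) ip6 7) = true := by decide +kernel

theorem rot6_7r : band (Rule.ok (2 * 0) EX RL ⟨6 :: [4, 2, 8, 1, 6, 6, 5], [], 17, false⟩) (lall (memL L) [4, 2, 8, 1, 6, 6, 5]) = true := by decide +kernel

theorem rot6_8 : T.rot 6 [6, 5, 6, 4, 2, 8, 1] (sel (ones 7128) ip6 8) = true := by decide +kernel

theorem rot6_8r : band (Rule.ok (2 * 0) EX RL ⟨6 :: [6, 5, 6, 4, 2, 8, 1], [1, 3, 3], 17, false⟩) (lall (memL L) [6, 5, 6, 4, 2, 8, 1]) = true := by decide +kernel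

theorem rot6_9 : T.rot 6 [5, 6, 4, 2, 8, 1, 6] (sel (ones 7128) ip6 9) = true := by decide +kernel

theorem rot6_9r : band (Rule.ok (2 * 0) EX RL ⟨6 :: [5, 6, 4, 2, 8, 1, 6], [1, 3], 17, false⟩) (lall (memL L) [5, 6, 4, 2, 8, 1, 6]) = true := by decide +kernel

theorem rot6_10 : T.rot 6 [6, 8, 2, 4, 1, 2, 5] (sel (ones 7128) ip6 10) = true := by decide +kernel

theorem rot6_10r : band (Rule.ok (2 * 0) EX RL ⟨6 :: [6, 8, 2, 4, 1, 2, 5], [7, 3, 3], 19, true⟩) (lall (memL L) [6, 8, 2, 4, 1, 2, 5]) = true := by decide +kernel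

theorem rot6_11 : T.rot 6 [8, 2, 4, 1, 2, 5, 6] (sel (ones 7128) ip6 11) = true := by decide +kernel

theorem rot6_11r : band (Rule.ok (2 * 0) EX RL ⟨6 :: [8, 2, 4, 1, 2, 5, 6], [7, 3], 19, true⟩) (lall (memL L) [8, 2, 4, 1, 2, 5, 6]) = true := by decide +kernel

theorem rot6_12 : T.rot 6 [5, 8, 6, 4, 2, 2, 1] (sel (ones 7128) ip6 12) = true := by decide +kernel

theorem rot6_12r : band (Rule.ok (2 * 0) EX RL ⟨6 :: [5, 8, 6, 4, 2, 2, 1], [3, 7, 1, 3], 19, false⟩) (lall (memL L) [5, 8, 6, 4, 2, 2, 1]) = true := by decide +kernel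

theorem rot6_13 : T.rot 6 [4, 2, 2, 1, 6, 5, 8] (sel (ones 7128) ip6 13) = true := by decide +kernel

theorem rot6_13r : band (Rule.ok (2 * 0) EX RL ⟨6 :: [4, 2, 2, 1, 6, 5, 8], [3], 19, false⟩) (lall (memL L) [4, 2, 2, 1, 6, 5, 8]) = true := by decide +kernel

theorem rot6_14 : T.rot 6 [4, 5, 6, 4, 5, 6, 8, 1] (sel (ones 7128) ip6 14) = true := by decide +kernel

theorem rot6_14r : band (Rule.ok (2 * 0) EX RL ⟨6 :: [4, 5, 6, 4, 5, 6, 8, 1], [1], 22, true⟩) (lall (memL L) [4, 5, 6, 4, 5, 6, 8, 1]) = true := by decide +kernel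

theorem rot6_15 : T.rot 6 [4, 5, 6, 8, 1, 6, 4, 5] (sel (ones 7128) ip6 15) = true := by decide +kernel

theorem rot6_15r : band (Rule.ok (2 * 0) EX RL ⟨6 :: [4, 5, 6, 8, 1, 6, 4, 5], [1, 2, 7, 0], 22, true⟩) (lall (memL L) [4, 5, 6, 8, 1, 6, 4, 5]) = true := by decide +kernel

theorem rot6_16 : T.rot 6 [8, 1, 6, 4, 5, 6, 4, 5] (sel (ones 7128) ip6 16) = true := by decide +kernel

theorem rot6_16r : band (Rule.ok (2 * 0) EX RL ⟨6 :: [8, 1, 6, 4, 5, 6, 4, 5], [7, 3], 22, true⟩) (lall (memL L) [8, 1, 6, 4, 5, 6, 4, 5]) = true := by decide +kernel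

theorem rot6_17 : T.rot 6 [8, 6, 8, 6, 5, 2, 7, 1, 3] (sel (ones 7128) ip6 17) = true := by decide +kernel

theorem rot6_17r : band (Rule.ok (2 * 0) EX RL ⟨6 :: [8, 6, 8, 6, 5, 2, 7, 1, 3], [1, 5], 24, true⟩) (lall (memL L) [8, 6, 8, 6, 5, 2, 7, 1, 3]) = true := by decide +kernel

theorem rot6_18 : T.rot 6 [8, 6, 5, 2, 7, 1, 3, 6, 8] (sel (ones 7128) ip6 18) = true := by decide +kernel

theorem rot6_18r : band (Rule.ok (2 * 0) EX RL ⟨6 :: [8, 6, 5, 2, 7, 1, 3, 6, 8], [1, 5, 2, 6], 24, true⟩) (lall (memL L) [8, 6, 5, 2, 7, 1, 3, 6, 8]) = true := by decide +kernel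

theorem rot6_19 : T.rot 6 [5, 2, 7, 1, 3, 6, 8, 6, 8] (sel (ones 7128) ip6 19) = true := by decide +kernel

theorem rot6_19r : band (Rule.ok (2 * 0) EX RL ⟨6 :: [5, 2, 7, 1, 3, 6, 8, 6, 8], [5, 2, 1, 3], 24, true⟩) (lall (memL L) [5, 2, 7, 1, 3, 6, 8, 6, 8]) = true := by decide +kernel

theorem rot6_20 : T.rot 6 [1, 2, 4, 2, 4, 2, 7, 5, 3] (sel (ones 7128) ip6 20) = true := by decide +kernel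

theorem rot6_20r : band (Rule.ok (2 * 0) EX RL ⟨6 :: [1, 2, 4, 2, 4, 2, 7, 5, 3], [5], 24, false⟩) (lall (memL L) [1, 2, 4, 2, 4, 2, 7, 5, 3]) = true := by decide +kernel

theorem rot6_21 : T.rot 6 [5, 8, 7, 1, 3, 2, 8, 2, 1, 8] (sel (ones 7128) ip6 21) = true := by decide +kernel

theorem rot6_21r : band (Rule.ok (2 * 0) EX RL ⟨6 :: [5, 8, 7, 1, 3, 2, 8, 2, 1, 8], [5, 7, 1, 3], 21, true⟩) (lall (memL L) [5, 8, 7, 1, 3, 2, 8, 2, 1, 8]) = true := by decide +kernel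

theorem rot6_22 : T.rot 6 [4, 6, 7, 5, 3, 4, 1, 2, 4, 5] (sel (ones 7128) ip6 22) = true := by decide +kernel

theorem rot6_22r : band (Rule.ok (2 * 0) EX RL ⟨6 :: [4, 6, 7, 5, 3, 4, 1, 2, 4, 5], [1, 5, 3, 6, 3], 21, false⟩) (lall (memL L) [4, 6, 7, 5, 3, 4, 1, 2, 4, 5]) = true := by decide +kernel

theorem rot6_23 : T.rot 6 [7, 5, 3, 4, 1, 2, 4, 5, 6, 4] (sel (ones 7128) ip6 23) = true := by decide +kernel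

theorem rot6_23r : band (Rule.ok (2 * 0) EX RL ⟨6 :: [7, 5, 3, 4, 1, 2, 4, 5, 6, 4], [1, 5, 3], 21, false⟩) (lall (memL L) [7, 5, 3, 4, 1, 2, 4, 5, 6, 4]) = true := by decide +kernel

end Cfsg.Agent.Spor.LyMca
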