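import Cfsg.Agent.Spor.LyMca.D0

set_option autoImplicit false
set_option maxRecDepth 100000000
set_option Elab.async false

namespace Cfsg.Agent.Spor.LyMca

theorem rot6_24 : T.rot 6 [7, 7, 6, 7, 7, 2, 7, 7, 2, 7, 7] (sel (ones 7128) ip6 24) = true := by decide +kernel

theorem rot6_24r : band (Rule.ok (2 * 0) EX RL ⟨6 :: [7, 7, 6, 7, 7, 2, 7, 7, 2, 7, 7], [3, 5, 5, 3], 4, true⟩) (lall (memL L) [7, 7, 6, 7, 7, 2, 7, 7, 2, 7, 7]) = true := by decide +kernel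

theorem rot6_25 : T.rot 6 [7, 7, 2, 7, 7, 2, 7, 7, 6, 7, 7] (sel (ones 7128) ip6 25) = true := by decide +kernel

theorem rot6_25r : band (Rule.ok (2 * 0) EX RL ⟨6 :: [7, 7, 2, 7, 7, 2, 7, 7, 6, 7, 7], [3], 4, true⟩) (lall (memL L) [7, 7, 2, 7, 7, 2, 7, 7, 6, 7, 7]) = true := by decide +kernel

theorem rot6_26 : T.rot 6 [3, 3, 6, 3, 3, 2, 3, 3, 2, 3, 3] (sel (ones 7128) ip6 26) = true := by decide +kernel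

theorem rot6_26r : band (Rule.ok (2 * 0) EX RL ⟨6 :: [3, 3, 6, 3, 3, 2, 3, 3, 2, 3, 3], [4, 4, 3, 4, 4, 3], 4, false⟩) (lall (memL L) [3, 3, 6, 3, 3, 2, 3, 3, 2, 3, 3]) = true := by decide +kernel

theorem rot6_27 : T.rot 6 [3, 3, 2, 3, 3, 2, 3, 3, 6, 3, 3] (sel (ones 7128) ip6 27) = true := by decide +kernel

theorem rot6_27r : band (Rule.ok (2 * 0) EX RL ⟨6 :: [3, 3, 2, 3, 3, 2, 3, 3, 6, 3, 3], [4, 4, 3], 4, false⟩) (lall (memL L) [3, 3, 2, 3, 3, 2, 3, 3, 6, 3, 3]) = true := by decide +kernel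

theorem rot6_28 : T.rot 6 [3, 2, 7, 6, 3, 2, 7, 6, 3, 2, 7] (sel (ones 7128) ip6 28) = true := by decide +kernel

theorem rot6_28r : band (Rule.ok (2 * 0) EX RL ⟨6 :: [3, 2, 7, 6, 3, 2, 7, 6, 3, 2, 7], [3], 9, true⟩) (lall (memL L) [3, 2, 7, 6, 3, 2, 7, 6, 3, 2, 7]) = true := by decide +kernel

theorem rot6_29 : T.rot 6 [7, 2, 3, 6, 7, 2, 3, 6, 7, 2, 3] (sel (ones 7128) ip6 29) = true := by decide +kernel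

theorem rot6_29r : band (Rule.ok (2 * 0) EX RL ⟨6 :: [7, 2, 3, 6, 7, 2, 3, 6, 7, 2, 3], [5, 3], 9, false⟩) (lall (memL L) [7, 2, 3, 6, 7, 2, 3, 6, 7, 2, 3]) = true := by decide +kernel

theorem rot6_30 : T.rot 6 [7, 1, 3, 4, 2, 1, 4, 2, 2, 1, 4] (sel (ones 7128) ip6 30) = true := by decide +kernel

theorem rot6_30r : band (Rule.ok (2 * 0) EX RL ⟨6 :: [7, 1, 3, 4, 2, 1, 4, 2, 2, 1, 4], [5, 3], 23, true⟩) (lall (memL L) [7, 1, 3, 4, 2, 1, 4, 2, 2, 1, 4]) = true := by decide +kernel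

theorem rot6_31 : T.rot 6 [6, 8, 5, 6, 8, 7, 5, 3, 2, 8, 5] (sel (ones 7128) ip6 31) = true := by decide +kernel

theorem rot6_31r : band (Rule.ok (2 * 0) EX RL ⟨6 :: [6, 8, 5, 6, 8, 7, 5, 3, 2, 8, 5], [5, 3, 6, 0], 23, false⟩) (lall (memL L) [6, 8, 5, 6, 8, 7, 5, 3, 2, 8, 5]) = true := by decide +kernel

theorem rot6_32 : T.rot 6 [8, 5, 6, 8, 7, 5, 3, 2, 8, 5, 6] (sel (ones 7128) ip6 32) = true := by decide +kernel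

theorem rot6_32r : band (Rule.ok (2 * 0) EX RL ⟨6 :: [8, 5, 6, 8, 7, 5, 3, 2, 8, 5, 6], [5, 3, 6, 0, 2], 23, false⟩) (lall (memL L) [8, 5, 6, 8, 7, 5, 3, 2, 8, 5, 6]) = true := by decide +kernel

theorem rot6_33 : T.rot 6 [8, 7, 5, 3, 2, 8, 5, 6, 6, 8, 5] (sel (ones 7128) ip6 33) = true := by decide +kernel

theorem rot6_33r : band (Rule.ok (2 * 0) EX RL ⟨6 :: [8, 7, 5, 3, 2, 8, 5, 6, 6, 8, 5], [1, 5, 7, 3], 23, false⟩) (lall (memL L) [8, 7, 5, 3, 2, 8, 5, 6, 6, 8, 5]) = true := by decide +kernel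

theorem rot6_34 : T.rot 6 [1, 2, 7, 1, 3, 2, 1, 1, 4, 2, 4] (sel (ones 7128) ip6 34) = true := by decide +kernel

theorem rot6_34r : band (Rule.ok (2 * 0) EX RL ⟨6 :: [1, 2, 7, 1, 3, 2, 1, 1, 4, 2, 4], [5, 2, 0, 3], 25, true⟩) (lall (memL L) [1, 2, 7, 1, 3, 2, 1, 1, 4, 2, 4]) = true := by decide +kernel

theorem rot6_35 : T.rot 6 [5, 2, 8, 6, 8, 5, 5, 6, 7, 5, 3] (sel (ones 7128) ip6 35) = true := by decide +kernel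

theorem rot6_35r : band (Rule.ok (2 * 0) EX RL ⟨6 :: [5, 2, 8, 6, 8, 5, 5, 6, 7, 5, 3], [5], 25, false⟩) (lall (memL L) [5, 2, 8, 6, 8, 5, 5, 6, 7, 5, 3]) = true := by decide +kernel

theorem rot6_36 : T.rot 6 [8, 5, 5, 6, 7, 5, 3, 6, 5, 2, 8] (sel (ones 7128) ip6 36) = true := by decide +kernel

theorem rot6_36r : band (Rule.ok (2 * 0) EX RL ⟨6 :: [8, 5, 5, 6, 7, 5, 3, 6, 5, 2, 8], [5, 2, 0, 3, 6], 25, false⟩) (lall (memL L) [8, 5, 5, 6, 7, 5, 3, 6, 5, 2, 8]) = true := by decide +kernel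

theorem rot6_37 : T.rot 6 [7, 5, 3, 6, 5, 2, 8, 6, 8, 5, 5] (sel (ones 7128) ip6 37) = true := by decide +kernel

theorem rot6_37r : band (Rule.ok (2 * 0) EX RL ⟨6 :: [7, 5, 3, 6, 5, 2, 8, 6, 8, 5, 5], [1, 5, 3], 25, false⟩) (lall (memL L) [7, 5, 3, 6, 5, 2, 8, 6, 8, 5, 5]) = true := by decide +kernel

theorem rot6_38 : T.rot 6 [7, 2, 2, 3, 6, 6, 3, 6, 7, 2, 1] (sel (ones 7128) ip6 38) = true := by decide +kernel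

theorem rot6_38r : band (Rule.ok (2 * 0) EX RL ⟨6 :: [7, 2, 2, 3, 6, 6, 3, 6, 7, 2, 1], [1], 26, true⟩) (lall (memL L) [7, 2, 2, 3, 6, 6, 3, 6, 7, 2, 1]) = true := by decide +kernel

theorem rot6_39 : T.rot 6 [6, 3, 6, 7, 2, 1, 6, 7, 2, 2, 3] (sel (ones 7128) ip6 39) = true := by decide +kernel

theorem rot6_39r : band (Rule.ok (2 * 0) EX RL ⟨6 :: [6, 3, 6, 7, 2, 1, 6, 7, 2, 2, 3], [2, 5, 3, 4, 3, 3], 26, true⟩) (lall (memL L) [6, 3, 6, 7, 2, 1, 6, 7, 2, 2, 3]) = true := by decide +kernel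

theorem rot6_40 : T.rot 6 [3, 6, 7, 2, 1, 6, 7, 2, 2, 3, 6] (sel (ones 7128) ip6 40) = true := by decide +kernel

theorem rot6_40r : band (Rule.ok (2 * 0) EX RL ⟨6 :: [3, 6, 7, 2, 1, 6, 7, 2, 2, 3, 6], [2, 5, 3, 4, 3], 26, true⟩) (lall (memL L) [3, 6, 7, 2, 1, 6, 7, 2, 2, 3, 6]) = true := by decide +kernel

theorem rot6_41 : T.rot 6 [7, 2, 1, 6, 7, 2, 2, 3, 6, 6, 3] (sel (ones 7128) ip6 41) = true := by decide +kernel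

theorem rot6_41r : band (Rule.ok (2 * 0) EX RL ⟨6 :: [7, 2, 1, 6, 7, 2, 2, 3, 6, 6, 3], [2, 5, 3], 26, true⟩) (lall (memL L) [7, 2, 1, 6, 7, 2, 2, 3, 6, 6, 3]) = true := by decide +kernel

theorem rot6_42 : T.rot 6 [3, 2, 7, 2, 2, 7, 6, 6, 3, 2, 5] (sel (ones 7128) ip6 42) = true := by decide +kernel

theorem rot6_42r : band (Rule.ok (2 * 0) EX RL ⟨6 :: [3, 2, 7, 2, 2, 7, 6, 6, 3, 2, 5], [], 26, false⟩) (lall (memL L) [3, 2, 7, 2, 2, 7, 6, 6, 3, 2, 5]) = true := by decide +kernel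

theorem rot6_43 : T.rot 6 [6, 3, 2, 5, 6, 3, 2, 7, 2, 2, 7] (sel (ones 7128) ip6 43) = true := by decide +kernel

theorem rot6_43r : band (Rule.ok (2 * 0) EX RL ⟨6 :: [6, 3, 2, 5, 6, 3, 2, 7, 2, 2, 7], [1, 2, 4, 3, 3], 26, false⟩) (lall (memL L) [6, 3, 2, 5, 6, 3, 2, 7, 2, 2, 7]) = true := by decide +kernel

theorem rot6_44 : T.rot 6 [3, 2, 5, 6, 3, 2, 7, 2, 2, 7, 6] (sel (ones 7128) ip6 44) = true := by decide +kernel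

theorem rot6_44r : band (Rule.ok (2 * 0) EX RL ⟨6 :: [3, 2, 5, 6, 3, 2, 7, 2, 2, 7, 6], [1, 2, 4, 3], 26, false⟩) (lall (memL L) [3, 2, 5, 6, 3, 2, 7, 2, 2, 7, 6]) = true := by decide +kernel

theorem rot6_45 : T.rot 6 [7, 2, 7, 6, 1, 6, 3, 2, 4, 6, 4] (sel (ones 7128) ip6 45) = true := by decide +kernel

theorem rot6_45r : band (Rule.ok (2 * 0) EX RL ⟨6 :: [7, 2, 7, 6, 1, 6, 3, 2, 4, 6, 4], [7], 27, true⟩) (lall (memL L) [7, 2, 7, 6, 1, 6, 3, 2, 4, 6, 4]) = true := by decide +kernel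

theorem rot6_46 : T.rot 6 [1, 6, 3, 2, 4, 6, 4, 6, 7, 2, 7] (sel (ones 7128) ip6 46) = true := by decide +kernel

theorem rot6_46r : band (Rule.ok (2 * 0) EX RL ⟨6 :: [1, 6, 3, 2, 4, 6, 4, 6, 7, 2, 7], [7, 2, 4, 3, 4], 27, true⟩) (lall (memL L) [1, 6, 3, 2, 4, 6, 4, 6, 7, 2, 7]) = true := by decide +kernel

theorem rot6_47 : T.rot 6 [3, 2, 4, 6, 4, 6, 7, 2, 7, 6, 1] (sel (ones 7128) ip6 47) = true := by decide +kernel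

theorem rot6_47r : band (Rule.ok (2 * 0) EX RL ⟨6 :: [3, 2, 4, 6, 4, 6, 7, 2, 7, 6, 1], [3, 6, 2, 4, 3], 27, true⟩) (lall (memL L) [3, 2, 4, 6, 4, 6, 7, 2, 7, 6, 1]) = true := by decide +kernel

theorem rot6_48 : T.rot 6 [4, 6, 7, 2, 7, 6, 1, 6, 3, 2, 4] (sel (ones 7128) ip6 48) = true := by decide +kernel

theorem rot6_48r : band (Rule.ok (2 * 0) EX RL ⟨6 :: [4, 6, 7, 2, 7, 6, 1, 6, 3, 2, 4], [3], 27, true⟩) (lall (memL L) [4, 6, 7, 2, 7, 6, 1, 6, 3, 2, 4]) = true := by decide +kernel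

theorem rot6_49 : T.rot 6 [7, 2, 5, 2, 3, 6, 3, 2, 8, 2, 8] (sel (ones 7128) ip6 49) = true := by decide +kernel

theorem rot6_49r : band (Rule.ok (2 * 0) EX RL ⟨6 :: [7, 2, 5, 2, 3, 6, 3, 2, 8, 2, 8], [3, 6], 27, false⟩) (lall (memL L) [7, 2, 5, 2, 3, 6, 3, 2, 8, 2, 8]) = true := by decide +kernel

theorem rot6_50 : T.rot 6 [3, 2, 8, 2, 8, 6, 7, 2, 5, 2, 3] (sel (ones 7128) ip6 50) = true := by decide +kernel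

theorem rot6_50r : band (Rule.ok (2 * 0) EX RL ⟨6 :: [3, 2, 8, 2, 8, 6, 7, 2, 5, 2, 3], [7, 2, 4, 3], 27, false⟩) (lall (memL L) [3, 2, 8, 2, 8, 6, 7, 2, 5, 2, 3]) = true := by decide +kernel

theorem rot6_51 : T.rot 6 [7, 7, 6, 6, 3, 6, 7, 6, 6, 3, 6, 6, 7, 6, 7] (sel (ones 7128) ip6 51) = true := by decide +kernel

theorem rot6_51r : band (Rule.ok (2 * 0) EX RL ⟨6 :: [7, 7, 6, 6, 3, 6, 7, 6, 6, 3, 6, 6, 7, 6, 7], [], 8, false⟩) (lall (memL L) [7, 7, 6, 6, 3, 6, 7, 6, 6, 3, 6, 6, 7, 6, 7]) = true := by decide +kernel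

theorem rot6_52 : T.rot 6 [6, 3, 6, 7, 6, 6, 3, 6, 6, 7, 6, 7, 6, 7, 7] (sel (ones 7128) ip6 52) = true := by decide +kernel

theorem rot6_52r : band (Rule.ok (2 * 0) EX RL ⟨6 :: [6, 3, 6, 7, 6, 6, 3, 6, 6, 7, 6, 7, 6, 7, 7], [2, 4, 4], 8, false⟩) (lall (memL L) [6, 3, 6, 7, 6, 6, 3, 6, 6, 7, 6, 7, 6, 7, 7]) = true := by decide +kernel

theorem rot6_53 : T.rot 6 [3, 6, 7, 6, 6, 3, 6, 6, 7, 6, 7, 6, 7, 7, 6] (sel (ones 7128) ip6 53) = true := by decide +kernel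

theorem rot6_53r : band (Rule.ok (2 * 0) EX RL ⟨6 :: [3, 6, 7, 6, 6, 3, 6, 6, 7, 6, 7, 6, 7, 7, 6], [2, 4, 4, 2], 8, false⟩) (lall (memL L) [3, 6, 7, 6, 6, 3, 6, 6, 7, 6, 7, 6, 7, 7, 6]) = true := by decide +kernel

theorem rot6_54 : T.rot 6 [7, 6, 6, 3, 6, 6, 7, 6, 7, 6, 7, 7, 6, 6, 3] (sel (ones 7128) ip6 54) = true := by decide +kernel

theorem rot6_54r : band (Rule.ok (2 * 0) EX RL ⟨6 :: [7, 6, 6, 3, 6, 6, 7, 6, 7, 6, 7, 7, 6, 6, 3], [2, 4, 4, 2, 2, 5], 8, false⟩) (lall (memL L) [7, 6, 6, 3, 6, 6, 7, 6, 7, 6, 7, 7, 6, 6, 3]) = true := by decide +kernel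

theorem rot6_55 : T.rot 6 [6, 3, 6, 6, 7, 6, 7, 6, 7, 7, 6, 6, 3, 6, 7] (sel (ones 7128) ip6 55) = true := by decide +kernel

theorem rot6_55r : band (Rule.ok (2 * 0) EX RL ⟨6 :: [6, 3, 6, 6, 7, 6, 7, 6, 7, 7, 6, 6, 3, 6, 7], [5, 3, 5, 3, 3, 4, 3, 3], 8, false⟩) (lall (memL L) [6, 3, 6, 6, 7, 6, 7, 6, 7, 7, 6, 6, 3, 6, 7]) = true := by decide +kernel

theorem rot6_56 : T.rot 6 [3, 6, 6, 7, 6, 7, 6, 7, 7, 6, 6, 3, 6, 7, 6] (sel (ones 7128) ip6 56) = true := by decide +kernel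

theorem rot6_56r : band (Rule.ok (2 * 0) EX RL ⟨6 :: [3, 6, 6, 7, 6, 7, 6, 7, 7, 6, 6, 3, 6, 7, 6], [5, 3, 5, 3, 3, 4, 3], 8, false⟩) (lall (memL L) [3, 6, 6, 7, 6, 7, 6, 7, 7, 6, 6, 3, 6, 7, 6]) = true := by decide +kernel

theorem rot6_57 : T.rot 6 [6, 7, 6, 7, 6, 7, 7, 6, 6, 3, 6, 7, 6, 6, 3] (sel (ones 7128) ip6 57) = true := by decide +kernel

theorem rot6_57r : band (Rule.ok (2 * 0) EX RL ⟨6 :: [6, 7, 6, 7, 6, 7, 7, 6, 6, 3, 6, 7, 6, 6, 3], [5, 3, 5, 3, 3], 8, false⟩) (lall (memL L) [6, 7, 6, 7, 6, 7, 7, 6, 6, 3, 6, 7, 6, 6, 3]) = true := by decide +kernel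

theorem rot6_58 : T.rot 6 [7, 6, 7, 6, 7, 7, 6, 6, 3, 6, 7, 6, 6, 3, 6] (sel (ones 7128) ip6 58) = true := by decide +kernel

theorem rot6_58r : band (Rule.ok (2 * 0) EX RL ⟨6 :: [7, 6, 7, 6, 7, 7, 6, 6, 3, 6, 7, 6, 6, 3, 6], [5, 3, 5, 3], 8, false⟩) (lall (memL L) [7, 6, 7, 6, 7, 7, 6, 6, 3, 6, 7, 6, 6, 3, 6]) = true := by decide +kernel

theorem rot6_59 : T.rot 6 [7, 6, 7, 7, 6, 6, 3, 6, 7, 6, 6, 3, 6, 6, 7] (sel (ones 7128) ip6 59) = true := by decide +kernel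

theorem rot6_59r : band (Rule.ok (2 * 0) EX RL ⟨6 :: [7, 6, 7, 7, 6, 6, 3, 6, 7, 6, 6, 3, 6, 6, 7], [5, 3], 8, false⟩) (lall (memL L) [7, 6, 7, 7, 6, 6, 3, 6, 7, 6, 6, 3, 6, 6, 7]) = true := by decide +kernel

theorem rot6_60 : T.rot 6 [6, 3, 6, 6, 3, 4, 3, 6, 5, 6, 8, 3, 6, 4, 6, 7, 5, 8] (sel (ones 7128) ip6 60) = true := by decide +kernel

theorem rot6_60r : band (Rule.ok (2 * 0) EX RL ⟨6 :: [6, 3, 6, 6, 3, 4, 3, 6, 5, 6, 8, 3, 6, 4, 6, 7, 5, 8], [], 28, false⟩) (lall (memL L) [6, 3, 6, 6, 3, 4, 3, 6, 5, 6, 8, 3, 6, 4, 6, 7, 5, 8]) = true := by decide +kernel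

theorem rot6_61 : T.rot 6 [3, 6, 6, 3, 4, 3, 6, 5, 6, 8, 3, 6, 4, 6, 7, 5, 8, 6] (sel (ones 7128) ip6 61) = true := by decide +kernel

theorem rot6_61r : band (Rule.ok (2 * 0) EX RL ⟨6 :: [3, 6, 6, 3, 4, 3, 6, 5, 6, 8, 3, 6, 4, 6, 7, 5, 8, 6], [2], 28, false⟩) (lall (memL L) [3, 6, 6, 3, 4, 3, 6, 5, 6, 8, 3, 6, 4, 6, 7, 5, 8, 6]) = true := by decide +kernel

theorem rot6_62 : T.rot 6 [6, 3, 4, 3, 6, 5, 6, 8, 3, 6, 4, 6, 7, 5, 8, 6, 6, 3] (sel (ones 7128) ip6 62) = true := by decide +kernel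

theorem rot6_62r : band (Rule.ok (2 * 0) EX RL ⟨6 :: [6, 3, 4, 3, 6, 5, 6, 8, 3, 6, 4, 6, 7, 5, 8, 6, 6, 3], [2, 2, 5], 28, false⟩) (lall (memL L) [6, 3, 4, 3, 6, 5, 6, 8, 3, 6, 4, 6, 7, 5, 8, 6, 6, 3]) = true := by decide +kernel

theorem rot6_63 : T.rot 6 [3, 4, 3, 6, 5, 6, 8, 3, 6, 4, 6, 7, 5, 8, 6, 6, 3, 6] (sel (ones 7128) ip6 63) = true := by decide +kernel

theorem rot6_63r : band (Rule.ok (2 * 0) EX RL ⟨6 :: [3, 4, 3, 6, 5, 6, 8, 3, 6, 4, 6, 7, 5, 8, 6, 6, 3, 6], [2, 2, 5, 2], 28, false⟩) (lall (memL L) [3, 4, 3, 6, 5, 6, 8, 3, 6, 4, 6, 7, 5, 8, 6, 6, 3, 6]) = true := by decide +kernel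

theorem rot6_64 : T.rot 6 [5, 6, 8, 3, 6, 4, 6, 7, 5, 8, 6, 6, 3, 6, 6, 3, 4, 3] (sel (ones 7128) ip6 64) = true := by decide +kernel

theorem rot6_64r : band (Rule.ok (2 * 0) EX RL ⟨6 :: [5, 6, 8, 3, 6, 4, 6, 7, 5, 8, 6, 6, 3, 6, 6, 3, 4, 3], [2, 2, 5, 2, 2, 5, 7, 5], 28, false⟩) (lall (memL L) [5, 6, 8, 3, 6, 4, 6, 7, 5, 8, 6, 6, 3, 6, 6, 3, 4, 3]) = true := by decide +kernel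

theorem rot6_65 : T.rot 6 [8, 3, 6, 4, 6, 7, 5, 8, 6, 6, 3, 6, 6, 3, 4, 3, 6, 5] (sel (ones 7128) ip6 65) = true := by decide +kernel

theorem rot6_65r : band (Rule.ok (2 * 0) EX RL ⟨6 :: [8, 3, 6, 4, 6, 7, 5, 8, 6, 6, 3, 6, 6, 3, 4, 3, 6, 5], [7, 1, 5, 3, 6, 3, 4, 7, 3], 28, false⟩) (lall (memL L) [8, 3, 6, 4, 6, 7, 5, 8, 6, 6, 3, 6, 6, 3, 4, 3, 6, 5]) = true := by decide +kernel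

theorem rot6_66 : T.rot 6 [4, 6, 7, 5, 8, 6, 6, 3, 6, 6, 3, 4, 3, 6, 5, 6, 8, 3] (sel (ones 7128) ip6 66) = true := by decide +kernel

theorem rot6_66r : band (Rule.ok (2 * 0) EX RL ⟨6 :: [4, 6, 7, 5, 8, 6, 6, 3, 6, 6, 3, 4, 3, 6, 5, 6, 8, 3], [7, 1, 5, 3, 6, 3], 28, false⟩) (lall (memL L) [4, 6, 7, 5, 8, 6, 6, 3, 6, 6, 3, 4, 3, 6, 5, 6, 8, 3]) = true := by decide +kernel

theorem rot6_67 : T.rot 6 [7, 5, 8, 6, 6, 3, 6, 6, 3, 4, 3, 6, 5, 6, 8, 3, 6, 4] (sel (ones 7128) ip6 67) = true := by decide +kernel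

theorem rot6_67r : band (Rule.ok (2 * 0) EX RL ⟨6 :: [7, 5, 8, 6, 6, 3, 6, 6, 3, 4, 3, 6, 5, 6, 8, 3, 6, 4], [7, 1, 5, 3], 28, false⟩) (lall (memL L) [7, 5, 8, 6, 6, 3, 6, 6, 3, 4, 3, 6, 5, 6, 8, 3, 6, 4]) = true := by decide +kernel

theorem rot6_68 : T.rot 6 [3, 6, 3, 2, 7, 3, 6, 3, 2, 2, 7, 6, 3, 6, 6, 7, 3, 2, 3, 3, 2, 2, 7] (sel (ones 7128) ip6 68) = true := by decide +kernel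

theorem rot6_68r : band (Rule.ok (2 * 0) EX RL ⟨6 :: [3, 6, 3, 2, 7, 3, 6, 3, 2, 2, 7, 6, 3, 6, 6, 7, 3, 2, 3, 3, 2, 2, 7], [5, 3, 3, 4, 3], 7, true⟩) (lall (memL L) [3, 6, 3, 2, 7, 3, 6, 3, 2, 2, 7, 6, 3, 6, 6, 7, 3, 2, 3, 3, 2, 2, 7]) = true := by decide +kernel

theorem rot6_69 : T.rot 6 [3, 2, 7, 3, 6, 3, 2, 2, 7, 6, 3, 6, 6, 7, 3, 2, 3, 3, 2, 2, 7, 6, 3] (sel (ones 7128) ip6 69) = true := by decide +kernel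

theorem rot6_69r : band (Rule.ok (2 * 0) EX RL ⟨6 :: [3, 2, 7, 3, 6, 3, 2, 2, 7, 6, 3, 6, 6, 7, 3, 2, 3, 3, 2, 2, 7, 6, 3], [5, 3, 3], 7, true⟩) (lall (memL L) [3, 2, 7, 3, 6, 3, 2, 2, 7, 6, 3, 6, 6, 7, 3, 2, 3, 3, 2, 2, 7, 6, 3]) = true := by decide +kernel

theorem rot6_70 : T.rot 6 [3, 6, 6, 7, 3, 2, 3, 3, 2, 2, 7, 6, 3, 6, 3, 2, 7, 3, 6, 3, 2, 2, 7] (sel (ones 7128) ip6 70) = true := by decide +kernel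

theorem rot6_70r : band (Rule.ok (2 * 0) EX RL ⟨6 :: [3, 6, 6, 7, 3, 2, 3, 3, 2, 2, 7, 6, 3, 6, 3, 2, 7, 3, 6, 3, 2, 2, 7], [5, 3, 3, 4, 3], 7, true⟩) (lall (memL L) [3, 6, 6, 7, 3, 2, 3, 3, 2, 2, 7, 6, 3, 6, 3, 2, 7, 3, 6, 3, 2, 2, 7]) = true := by decide +kernel

theorem rot6_71 : T.rot 6 [6, 7, 3, 2, 3, 3, 2, 2, 7, 6, 3, 6, 3, 2, 7, 3, 6, 3, 2, 2, 7, 6, 3] (sel (ones 7128) ip6 71) = true := by decide +kernel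

theorem rot6_71r : band (Rule.ok (2 * 0) EX RL ⟨6 :: [6, 7, 3, 2, 3, 3, 2, 2, 7, 6, 3, 6, 3, 2, 7, 3, 6, 3, 2, 2, 7, 6, 3], [5, 3, 3], 7, true⟩) (lall (memL L) [6, 7, 3, 2, 3, 3, 2, 2, 7, 6, 3, 6, 3, 2, 7, 3, 6, 3, 2, 2, 7, 6, 3]) = true := by decide +kernel

theorem rot6_72 : T.rot 6 [6, 7, 2, 7, 3, 6, 7, 2, 7, 2, 3, 6, 6, 7, 7, 6, 7, 3, 2, 2, 7, 2, 3] (sel (ones 7128) ip6 72) = true := by decide +kernel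

theorem rot6_72r : band (Rule.ok (2 * 0) EX RL ⟨6 :: [6, 7, 2, 7, 3, 6, 7, 2, 7, 2, 3, 6, 6, 7, 7, 6, 7, 3, 2, 2, 7, 2, 3], [5, 3, 5, 5, 3, 3], 7, false⟩) (lall (memL L) [6, 7, 2, 7, 3, 6, 7, 2, 7, 2, 3, 6, 6, 7, 7, 6, 7, 3, 2, 2, 7, 2, 3]) = true := by decide +kernel

theorem rot6_73 : T.rot 6 [7, 2, 7, 3, 6, 7, 2, 7, 2, 3, 6, 6, 7, 7, 6, 7, 3, 2, 2, 7, 2, 3, 6] (sel (ones 7128) ip6 73) = true := by decide +kernel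

theorem rot6_73r : band (Rule.ok (2 * 0) EX RL ⟨6 :: [7, 2, 7, 3, 6, 7, 2, 7, 2, 3, 6, 6, 7, 7, 6, 7, 3, 2, 2, 7, 2, 3, 6], [5, 3, 5, 5, 3], 7, false⟩) (lall (memL L) [7, 2, 7, 3, 6, 7, 2, 7, 2, 3, 6, 6, 7, 7, 6, 7, 3, 2, 2, 7, 2, 3, 6]) = true := by decide +kernel

theorem rot6_74 : T.rot 6 [6, 7, 7, 6, 7, 3, 2, 2, 7, 2, 3, 6, 6, 7, 2, 7, 3, 6, 7, 2, 7, 2, 3] (sel (ones 7128) ip6 74) = true := by decide +kernel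

theorem rot6_74r : band (Rule.ok (2 * 0) EX RL ⟨6 :: [6, 7, 7, 6, 7, 3, 2, 2, 7, 2, 3, 6, 6, 7, 2, 7, 3, 6, 7, 2, 7, 2, 3], [5, 3, 5, 5, 3, 3], 7, false⟩) (lall (memL L) [6, 7, 7, 6, 7, 3, 2, 2, 7, 2, 3, 6, 6, 7, 2, 7, 3, 6, 7, 2, 7, 2, 3]) = true := by decide +kernel

theorem rot6_75 : T.rot 6 [7, 7, 6, 7, 3, 2, 2, 7, 2, 3, 6, 6, 7, 2, 7, 3, 6, 7, 2, 7, 2, 3, 6] (sel (ones 7128) ip6 75) = true := by decide +kernel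

theorem rot6_75r : band (Rule.ok (2 * 0) EX RL ⟨6 :: [7, 7, 6, 7, 3, 2, 2, 7, 2, 3, 6, 6, 7, 2, 7, 3, 6, 7, 2, 7, 2, 3, 6], [5, 3, 5, 5, 3], 7, false⟩) (lall (memL L) [7, 7, 6, 7, 3, 2, 2, 7, 2, 3, 6, 6, 7, 2, 7, 3, 6, 7, 2, 7, 2, 3, 6]) = true := by decide +kernel

theorem rot6_76 : T.rot 6 [3, 2, 2, 7, 6, 3, 6, 6, 7, 2, 3, 2, 2, 7, 2, 3, 6, 6, 7, 2, 7, 7, 7, 2, 2, 7, 7, 3] (sel (ones 7128) ip6 76) = true := by decide +kernel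

theorem rot6_76r : band (Rule.ok (2 * 0) EX RL ⟨6 :: [3, 2, 2, 7, 6, 3, 6, 6, 7, 2, 3, 2, 2, 7, 2, 3, 6, 6, 7, 2, 7, 7, 7, 2, 2, 7, 7, 3], [4, 4, 3, 3, 4], 1, true⟩) (lall (memL L) [3, 2, 2, 7, 6, 3, 6, 6, 7, 2, 3, 2, 2, 7, 2, 3, 6, 6, 7, 2, 7, 7, 7, 2, 2, 7, 7, 3]) = true := by decide +kernel

theorem rot6_77 : T.rot 6 [3, 6, 6, 7, 2, 3, 2, 2, 7, 2, 3, 6, 6, 7, 2, 7, 7, 7, 2, 2, 7, 7, 3, 6, 3, 2, 2, 7] (sel (ones 7128) ip6 77) = true := by decide +kernel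

theorem rot6_77r : band (Rule.ok (2 * 0) EX RL ⟨6 :: [3, 6, 6, 7, 2, 3, 2, 2, 7, 2, 3, 6, 6, 7, 2, 7, 7, 7, 2, 2, 7, 7, 3, 6, 3, 2, 2, 7], [4, 4, 3, 3, 4, 2, 5, 3, 3, 4], 1, true⟩) (lall (memL L) [3, 6, 6, 7, 2, 3, 2, 2, 7, 2, 3, 6, 6, 7, 2, 7, 7, 7, 2, 2, 7, 7, 3, 6, 3, 2, 2, 7]) = true := by decide +kernel

theorem rot6_78 : T.rot 6 [6, 7, 2, 3, 2, 2, 7, 2, 3, 6, 6, 7, 2, 7, 7, 7, 2, 2, 7, 7, 3, 6, 3, 2, 2, 7, 6, 3] (sel (ones 7128) ip6 78) = true := by decide +kernel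

theorem rot6_78r : band (Rule.ok (2 * 0) EX RL ⟨6 :: [6, 7, 2, 3, 2, 2, 7, 2, 3, 6, 6, 7, 2, 7, 7, 7, 2, 2, 7, 7, 3, 6, 3, 2, 2, 7, 6, 3], [4, 4, 3, 3, 4, 2, 5, 3, 3, 4, 2, 5], 1, true⟩) (lall (memL L) [6, 7, 2, 3, 2, 2, 7, 2, 3, 6, 6, 7, 2, 7, 7, 7, 2, 2, 7, 7, 3, 6, 3, 2, 2, 7, 6, 3]) = true := by decide +kernel

theorem rot6_79 : T.rot 6 [7, 2, 3, 2, 2, 7, 2, 3, 6, 6, 7, 2, 7, 7, 7, 2, 2, 7, 7, 3, 6, 3, 2, 2, 7, 6, 3, 6] (sel (ones 7128) ip6 79) = true := by decide +kernel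

theorem rot6_79r : band (Rule.ok (2 * 0) EX RL ⟨6 :: [7, 2, 3, 2, 2, 7, 2, 3, 6, 6, 7, 2, 7, 7, 7, 2, 2, 7, 7, 3, 6, 3, 2, 2, 7, 6, 3, 6], [4, 4, 3, 3, 4, 2, 5, 3, 3, 4, 2, 5, 2], 1, true⟩) (lall (memL L) [7, 2, 3, 2, 2, 7, 2, 3, 6, 6, 7, 2, 7, 7, 7, 2, 2, 7, 7, 3, 6, 3, 2, 2, 7, 6, 3, 6]) = true := by decide +kernel

theorem rot6_80 : T.rot 6 [6, 7, 2, 7, 7, 7, 2, 2, 7, 7, 3, 6, 3, 2, 2, 7, 6, 3, 6, 6, 7, 2, 3, 2, 2, 7, 2, 3] (sel (ones 7128) ip6 80) = true := by decide +kernel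

theorem rot6_80r : band (Rule.ok (2 * 0) EX RL ⟨6 :: [6, 7, 2, 7, 7, 7, 2, 2, 7, 7, 3, 6, 3, 2, 2, 7, 6, 3, 6, 6, 7, 2, 3, 2, 2, 7, 2, 3], [5, 2, 5, 3, 3], 1, true⟩) (lall (memL L) [6, 7, 2, 7, 7, 7, 2, 2, 7, 7, 3, 6, 3, 2, 2, 7, 6, 3, 6, 6, 7, 2, 3, 2, 2, 7, 2, 3]) = true := by decide +kernel

theorem rot6_81 : T.rot 6 [7, 2, 7, 7, 7, 2, 2, 7, 7, 3, 6, 3, 2, 2, 7, 6, 3, 6, 6, 7, 2, 3, 2, 2, 7, 2, 3, 6] (sel (ones 7128) ip6 81) = true := by decide +kernel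

theorem rot6_81r : band (Rule.ok (2 * 0) EX RL ⟨6 :: [7, 2, 7, 7, 7, 2, 2, 7, 7, 3, 6, 3, 2, 2, 7, 6, 3, 6, 6, 7, 2, 3, 2, 2, 7, 2, 3, 6], [5, 2, 5, 3], 1, true⟩) (lall (memL L) [7, 2, 7, 7, 7, 2, 2, 7, 7, 3, 6, 3, 2, 2, 7, 6, 3, 6, 6, 7, 2, 3, 2, 2, 7, 2, 3, 6]) = true := by decide +kernel

theorem rot6_82 : T.rot 6 [3, 2, 2, 7, 6, 3, 6, 6, 7, 6, 3, 2, 2, 7, 2, 3, 6, 6, 7, 2, 7, 3, 3, 6, 6, 3, 3, 3] (sel (ones 7128) ip6 82) = true := by decide +kernel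

theorem rot6_82r : band (Rule.ok (2 * 0) EX RL ⟨6 :: [3, 2, 2, 7, 6, 3, 6, 6, 7, 6, 3, 2, 2, 7, 2, 3, 6, 6, 7, 2, 7, 3, 3, 6, 6, 3, 3, 3], [5], 1, false⟩) (lall (memL L) [3, 2, 2, 7, 6, 3, 6, 6, 7, 6, 3, 2, 2, 7, 2, 3, 6, 6, 7, 2, 7, 3, 3, 6, 6, 3, 3, 3]) = true := by decide +kernel

theorem rot6_83 : T.rot 6 [3, 6, 6, 7, 6, 3, 2, 2, 7, 2, 3, 6, 6, 7, 2, 7, 3, 3, 6, 6, 3, 3, 3, 6, 3, 2, 2, 7] (sel (ones 7128) ip6 83) = true := by decide +kernel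

theorem rot6_83r : band (Rule.ok (2 * 0) EX RL ⟨6 :: [3, 6, 6, 7, 6, 3, 2, 2, 7, 2, 3, 6, 6, 7, 2, 7, 3, 3, 6, 6, 3, 3, 3, 6, 3, 2, 2, 7], [5, 2, 5, 3, 3, 4], 1, false⟩) (lall (memL L) [3, 6, 6, 7, 6, 3, 2, 2, 7, 2, 3, 6, 6, 7, 2, 7, 3, 3, 6, 6, 3, 3, 3, 6, 3, 2, 2, 7]) = true := by decide +kernel

theorem rot6_84 : T.rot 6 [6, 7, 6, 3, 2, 2, 7, 2, 3, 6, 6, 7, 2, 7, 3, 3, 6, 6, 3, 3, 3, 6, 3, 2, 2, 7, 6, 3] (sel (ones 7128) ip6 84) = true := by decide +kernel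

theorem rot6_84r : band (Rule.ok (2 * 0) EX RL ⟨6 :: [6, 7, 6, 3, 2, 2, 7, 2, 3, 6, 6, 7, 2, 7, 3, 3, 6, 6, 3, 3, 3, 6, 3, 2, 2, 7, 6, 3], [5, 2, 5, 3, 3, 4, 2, 5], 1, false⟩) (lall (memL L) [6, 7, 6, 3, 2, 2, 7, 2, 3, 6, 6, 7, 2, 7, 3, 3, 6, 6, 3, 3, 3, 6, 3, 2, 2, 7, 6, 3]) = true := by decide +kernel

theorem rot6_85 : T.rot 6 [7, 6, 3, 2, 2, 7, 2, 3, 6, 6, 7, 2, 7, 3, 3, 6, 6, 3, 3, 3, 6, 3, 2, 2, 7, 6, 3, 6] (sel (ones 7128) ip6 85) = true := by decide +kernel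

theorem rot6_85r : band (Rule.ok (2 * 0) EX RL ⟨6 :: [7, 6, 3, 2, 2, 7, 2, 3, 6, 6, 7, 2, 7, 3, 3, 6, 6, 3, 3, 3, 6, 3, 2, 2, 7, 6, 3, 6], [5, 2, 5, 3, 3, 4, 2, 5, 2], 1, false⟩) (lall (memL L) [7, 6, 3, 2, 2, 7, 2, 3, 6, 6, 7, 2, 7, 3, 3, 6, 6, 3, 3, 3, 6, 3, 2, 2, 7, 6, 3, 6]) = true := by decide +kernel

theorem rot6_86 : T.rot 6 [3, 2, 2, 7, 2, 3, 6, 6, 7, 2, 7, 3, 3, 6, 6, 3, 3, 3, 6, 3, 2, 2, 7, 6, 3, 6, 6, 7] (sel (ones 7128) ip6 86) = true := by decide +kernel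

theorem rot6_86r : band (Rule.ok (2 * 0) EX RL ⟨6 :: [3, 2, 2, 7, 2, 3, 6, 6, 7, 2, 7, 3, 3, 6, 6, 3, 3, 3, 6, 3, 2, 2, 7, 6, 3, 6, 6, 7], [5, 2, 5, 3, 3, 4, 2, 5, 2, 2, 4], 1, false⟩) (lall (memL L) [3, 2, 2, 7, 2, 3, 6, 6, 7, 2, 7, 3, 3, 6, 6, 3, 3, 3, 6, 3, 2, 2, 7, 6, 3, 6, 6, 7]) = true := by decide +kernel

theorem rot6_87 : T.rot 6 [6, 7, 2, 7, 3, 3, 6, 6, 3, 3, 3, 6, 3, 2, 2, 7, 6, 3, 6, 6, 7, 6, 3, 2, 2, 7, 2, 3] (sel (ones 7128) ip6 87) = true := by decide +kernel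

theorem rot6_87r : band (Rule.ok (2 * 0) EX RL ⟨6 :: [6, 7, 2, 7, 3, 3, 6, 6, 3, 3, 3, 6, 3, 2, 2, 7, 6, 3, 6, 6, 7, 6, 3, 2, 2, 7, 2, 3], [4, 4, 3, 3, 4, 2, 5, 3, 3], 1, false⟩) (lall (memL L) [6, 7, 2, 7, 3, 3, 6, 6, 3, 3, 3, 6, 3, 2, 2, 7, 6, 3, 6, 6, 7, 6, 3, 2, 2, 7, 2, 3]) = true := by decide +kernel

theorem rot6_88 : T.rot 6 [7, 2, 7, 3, 3, 6, 6, 3, 3, 3, 6, 3, 2, 2, 7, 6, 3, 6, 6, 7, 6, 3, 2, 2, 7, 2, 3, 6] (sel (ones 7128) ip6 88) = true := by decide +kernel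

theorem rot6_88r : band (Rule.ok (2 * 0) EX RL ⟨6 :: [7, 2, 7, 3, 3, 6, 6, 3, 3, 3, 6, 3, 2, 2, 7, 6, 3, 6, 6, 7, 6, 3, 2, 2, 7, 2, 3, 6], [4, 4, 3, 3, 4, 2, 5, 3], 1, false⟩) (lall (memL L) [7, 2, 7, 3, 3, 6, 6, 3, 3, 3, 6, 3, 2, 2, 7, 6, 3, 6, 6, 7, 6, 3, 2, 2, 7, 2, 3, 6]) = true := by decide +kernel

theorem rot6_89 : T.rot 6 [6, 3, 3, 3, 6, 3, 2, 2, 7, 6, 3, 6, 6, 7, 6, 3, 2, 2, 7, 2, 3, 6, 6, 7, 2, 7, 3, 3] (sel (ones 7128) ip6 89) = true := by decide +kernel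

theorem rot6_89r : band (Rule.ok (2 * 0) EX RL ⟨6 :: [6, 3, 3, 3, 6, 3, 2, 2, 7, 6, 3, 6, 6, 7, 6, 3, 2, 2, 7, 2, 3, 6, 6, 7, 2, 7, 3, 3], [4, 4, 3, 3], 1, false⟩) (lall (memL L) [6, 3, 3, 3, 6, 3, 2, 2, 7, 6, 3, 6, 6, 7, 6, 3, 2, 2, 7, 2, 3, 6, 6, 7, 2, 7, 3, 3]) = true := by decide +kernel

theorem rot6_90 : T.rot 6 [3, 3, 3, 6, 3, 2, 2, 7, 6, 3, 6, 6, 7, 6, 3, 2, 2, 7, 2, 3, 6, 6, 7, 2, 7, 3, 3, 6] (sel (ones 7128) ip6 90) = true := by decide +kernel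

theorem rot6_90r : band (Rule.ok (2 * 0) EX RL ⟨6 :: [3, 3, 3, 6, 3, 2, 2, 7, 6, 3, 6, 6, 7, 6, 3, 2, 2, 7, 2, 3, 6, 6, 7, 2, 7, 3, 3, 6], [4, 4, 3], 1, false⟩) (lall (memL L) [3, 3, 3, 6, 3, 2, 2, 7, 6, 3, 6, 6, 7, 6, 3, 2, 2, 7, 2, 3, 6, 6, 7, 2, 7, 3, 3, 6]) = true := by decide +kernel

theorem rot6_91 : T.rot 6 [6, 7, 2, 7, 3, 2, 2, 7, 2, 3, 6, 6, 7, 2, 7, 3, 2, 2, 7, 2, 3, 6, 6, 7, 2, 7, 3, 2, 2, 7, 2, 3, 6, 6, 7, 2, 7, 3, 2, 2, 7, 2, 3] (sel (ones 7128) ip6 91) = true := by decide +kernel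

theorem rot6_91r : band (Rule.ok (2 * 0) EX RL ⟨6 :: [6, 7, 2, 7, 3, 2, 2, 7, 2, 3, 6, 6, 7, 2, 7, 3, 2, 2, 7, 2, 3, 6, 6, 7, 2, 7, 3, 2, 2, 7, 2, 3, 6, 6, 7, 2, 7, 3, 2, 2, 7, 2, 3], [5, 2, 5, 3, 3], 0, true⟩) (lall (memL L) [6, 7, 2, 7, 3, 2, 2, 7, 2, 3, 6, 6, 7, 2, 7, 3, 2, 2, 7, 2, 3, 6, 6, 7, 2, 7, 3, 2, 2, 7, 2, 3, 6, 6, 7, 2, 7, 3, 2, 2, 7, 2, 3]) = true := by decide +kernel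

theorem rot6_92 : T.rot 6 [7, 2, 7, 3, 2, 2, 7, 2, 3, 6, 6, 7, 2, 7, 3, 2, 2, 7, 2, 3, 6, 6, 7, 2, 7, 3, 2, 2, 7, 2, 3, 6, 6, 7, 2, 7, 3, 2, 2, 7, 2, 3, 6] (sel (ones 7128) ip6 92) = true := by decide +kernel

theorem rot6_92r : band (Rule.ok (2 * 0) EX RL ⟨6 :: [7, 2, 7, 3, 2, 2, 7, 2, 3, 6, 6, 7, 2, 7, 3, 2, 2, 7, 2, 3, 6, 6, 7, 2, 7, 3, 2, 2, 7, 2, 3, 6, 6, 7, 2, 7, 3, 2, 2, 7, 2, 3, 6], [5, 2, 5, 3], 0, true⟩) (lall (memL L) [7, 2, 7, 3, 2, 2, 7, 2, 3, 6, 6, 7, 2, 7, 3, 2, 2, 7, 2, 3, 6, 6, 7, 2, 7, 3, 2, 2, 7, 2, 3, 6, 6, 7, 2, 7, 3, 2, 2, 7, 2, 3, 6]) = true := by decide +kernel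

theorem rot6_93 : T.rot 6 [3, 2, 2, 7, 6, 3, 6, 6, 7, 3, 6, 3, 2, 2, 7, 6, 3, 6, 6, 7, 3, 6, 3, 2, 2, 7, 6, 3, 6, 6, 7, 3, 6, 3, 2, 2, 7, 6, 3, 6, 6, 7, 3] (sel (ones 7128) ip6 93) = true := by decide +kernel

theorem rot6_93r : band (Rule.ok (2 * 0) EX RL ⟨6 :: [3, 2, 2, 7, 6, 3, 6, 6, 7, 3, 6, 3, 2, 2, 7, 6, 3, 6, 6, 7, 3, 6, 3, 2, 2, 7, 6, 3, 6, 6, 7, 3, 6, 3, 2, 2, 7, 6, 3, 6, 6, 7, 3], [5], 0, false⟩) (lall (memL L) [3, 2, 2, 7, 6, 3, 6, 6, 7, 3, 6, 3, 2, 2, 7, 6, 3, 6, 6, 7, 3, 6, 3, 2, 2, 7, 6, 3, 6, 6, 7, 3, 6, 3, 2, 2, 7, 6, 3, 6, 6, 7, 3]) = true := by decide +kernel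

theorem rot6_94 : T.rot 6 [3, 6, 6, 7, 3, 6, 3, 2, 2, 7, 6, 3, 6, 6, 7, 3, 6, 3, 2, 2, 7, 6, 3, 6, 6, 7, 3, 6, 3, 2, 2, 7, 6, 3, 6, 6, 7, 3, 6, 3, 2, 2, 7] (sel (ones 7128) ip6 94) = true := by decide +kernel

theorem rot6_94r : band (Rule.ok (2 * 0) EX RL ⟨6 :: [3, 6, 6, 7, 3, 6, 3, 2, 2, 7, 6, 3, 6, 6, 7, 3, 6, 3, 2, 2, 7, 6, 3, 6, 6, 7, 3, 6, 3, 2, 2, 7, 6, 3, 6, 6, 7, 3, 6, 3, 2, 2, 7], [5, 3, 3, 4, 3], 0, false⟩) (lall (memL L) [3, 6, 6, 7, 3, 6, 3, 2, 2, 7, 6, 3, 6, 6, 7, 3, 6, 3, 2, 2, 7, 6, 3, 6, 6, 7, 3, 6, 3, 2, 2, 7, 6, 3, 6, 6, 7, 3, 6, 3, 2, 2, 7]) = true := by decide +kernel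

theorem rot6_95 : T.rot 6 [6, 7, 3, 6, 3, 2, 2, 7, 6, 3, 6, 6, 7, 3, 6, 3, 2, 2, 7, 6, 3, 6, 6, 7, 3, 6, 3, 2, 2, 7, 6, 3, 6, 6, 7, 3, 6, 3, 2, 2, 7, 6, 3] (sel (ones 7128) ip6 95) = true := by decide +kernel

theorem rot6_95r : band (Rule.ok (2 * 0) EX RL ⟨6 :: [6, 7, 3, 6, 3, 2, 2, 7, 6, 3, 6, 6, 7, 3, 6, 3, 2, 2, 7, 6, 3, 6, 6, 7, 3, 6, 3, 2, 2, 7, 6, 3, 6, 6, 7, 3, 6, 3, 2, 2, 7, 6, 3], [5, 3, 3], 0, false⟩) (lall (memL L) [6, 7, 3, 6, 3, 2, 2, 7, 6, 3, 6, 6, 7, 3, 6, 3, 2, 2, 7, 6, 3, 6, 6, 7, 3, 6, 3, 2, 2, 7, 6, 3, 6, 6, 7, 3, 6, 3, 2, 2, 7, 6, 3]) = true := by decide +kernel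

theorem rot6_96 : T.rot 6 [7, 3, 6, 3, 2, 2, 7, 6, 3, 6, 6, 7, 3, 6, 3, 2, 2, 7, 6, 3, 6, 6, 7, 3, 6, 3, 2, 2, 7, 6, 3, 6, 6, 7, 3, 6, 3, 2, 2, 7, 6, 3, 6] (sel (ones 7128) ip6 96) = true := by decide +kernel

theorem rot6_96r : band (Rule.ok (2 * 0) EX RL ⟨6 :: [7, 3, 6, 3, 2, 2, 7, 6, 3, 6, 6, 7, 3, 6, 3, 2, 2, 7, 6, 3, 6, 6, 7, 3, 6, 3, 2, 2, 7, 6, 3, 6, 6, 7, 3, 6, 3, 2, 2, 7, 6, 3, 6], [5, 3], 0, false⟩) (lall (memL L) [7, 3, 6, 3, 2, 2, 7, 6, 3, 6, 6, 7, 3, 6, 3, 2, 2, 7, 6, 3, 6, 6, 7, 3, 6, 3, 2, 2, 7, 6, 3, 6, 6, 7, 3, 6, 3, 2, 2, 7, 6, 3, 6]) = true := by decide +kernel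

theorem rot6_97 : T.rot 6 [3, 2, 2, 7, 2, 3, 6, 6, 7, 2, 7, 6, 6, 3, 6, 3, 2, 2, 7, 6, 3, 6, 6, 7, 3, 6, 3, 2, 2, 7, 6, 3, 6, 6, 7, 2, 3, 2, 2, 7, 2, 3, 6, 6, 7, 2, 7] (sel (ones 7128) ip6 97) = true := by decide +kernel

theorem rot6_97r : band (Rule.ok (2 * 0) EX RL ⟨6 :: [3, 2, 2, 7, 2, 3, 6, 6, 7, 2, 7, 6, 6, 3, 6, 3, 2, 2, 7, 6, 3, 6, 6, 7, 3, 6, 3, 2, 2, 7, 6, 3, 6, 6, 7, 2, 3, 2, 2, 7, 2, 3, 6, 6, 7, 2, 7], [3, 5, 3, 3, 4, 3, 5, 2, 2, 4, 3, 4], 3, true⟩) (lall (memL L) [3, 2, 2, 7, 2, 3, 6, 6, 7, 2, 7, 6, 6, 3, 6, 3, 2, 2, 7, 6, 3, 6, 6, 7, 3, 6, 3, 2, 2, 7, 6, 3, 6, 6, 7, 2, 3, 2, 2, 7, 2, 3, 6, 6, 7, 2, 7]) = true := by decide +kernel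

theorem rot6_98 : T.rot 6 [6, 7, 2, 7, 6, 6, 3, 6, 3, 2, 2, 7, 6, 3, 6, 6, 7, 3, 6, 3, 2, 2, 7, 6, 3, 6, 6, 7, 2, 3, 2, 2, 7, 2, 3, 6, 6, 7, 2, 7, 6, 3, 2, 2, 7, 2, 3] (sel (ones 7128) ip6 98) = true := by decide +kernel

theorem rot6_98r : band (Rule.ok (2 * 0) EX RL ⟨6 :: [6, 7, 2, 7, 6, 6, 3, 6, 3, 2, 2, 7, 6, 3, 6, 6, 7, 3, 6, 3, 2, 2, 7, 6, 3, 6, 6, 7, 2, 3, 2, 2, 7, 2, 3, 6, 6, 7, 2, 7, 6, 3, 2, 2, 7, 2, 3], [3, 5, 3, 3, 4, 3, 5, 2, 2, 4, 3, 4, 2, 5, 3, 3, 4, 3, 5], 3, true⟩) (lall (memL L) [6, 7, 2, 7, 6, 6, 3, 6, 3, 2, 2, 7, 6, 3, 6, 6, 7, 3, 6, 3, 2, 2, 7, 6, 3, 6, 6, 7, 2, 3, 2, 2, 7, 2, 3, 6, 6, 7, 2, 7, 6, 3, 2, 2, 7, 2, 3]) = true := by decide +kernel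

theorem rot6_99 : T.rot 6 [7, 2, 7, 6, 6, 3, 6, 3, 2, 2, 7, 6, 3, 6, 6, 7, 3, 6, 3, 2, 2, 7, 6, 3, 6, 6, 7, 2, 3, 2, 2, 7, 2, 3, 6, 6, 7, 2, 7, 6, 3, 2, 2, 7, 2, 3, 6] (sel (ones 7128) ip6 99) = true := by decide +kernel

theorem rot6_99r : band (Rule.ok (2 * 0) EX RL ⟨6 :: [7, 2, 7, 6, 6, 3, 6, 3, 2, 2, 7, 6, 3, 6, 6, 7, 3, 6, 3, 2, 2, 7, 6, 3, 6, 6, 7, 2, 3, 2, 2, 7, 2, 3, 6, 6, 7, 2, 7, 6, 3, 2, 2, 7, 2, 3, 6], [3, 5, 3, 3, 4, 3, 5, 2, 2, 4, 3, 4, 2, 5, 3, 3, 4, 3, 5, 2], 3, true⟩) (lall (memL L) [7, 2, 7, 6, 6, 3, 6, 3, 2, 2, 7, 6, 3, 6, 6, 7, 3, 6, 3, 2, 2, 7, 6, 3, 6, 6, 7, 2, 3, 2, 2, 7, 2, 3, 6, 6, 7, 2, 7, 6, 3, 2, 2, 7, 2, 3, 6]) = true := by decide +kernel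

theorem rot6_100 : T.rot 6 [6, 3, 6, 3, 2, 2, 7, 6, 3, 6, 6, 7, 3, 6, 3, 2, 2, 7, 6, 3, 6, 6, 7, 2, 3, 2, 2, 7, 2, 3, 6, 6, 7, 2, 7, 6, 3, 2, 2, 7, 2, 3, 6, 6, 7, 2, 7] (sel (ones 7128) ip6 100) = true := by decide +kernel

theorem rot6_100r : band (Rule.ok (2 * 0) EX RL ⟨6 :: [6, 3, 6, 3, 2, 2, 7, 6, 3, 6, 6, 7, 3, 6, 3, 2, 2, 7, 6, 3, 6, 6, 7, 2, 3, 2, 2, 7, 2, 3, 6, 6, 7, 2, 7, 6, 3, 2, 2, 7, 2, 3, 6, 6, 7, 2, 7], [5, 3, 3, 4, 3, 5, 2, 2, 4, 3, 3, 3, 4, 3, 5, 2, 2, 4, 3, 4, 3, 3], 3, true⟩) (lall (memL L) [6, 3, 6, 3, 2, 2, 7, 6, 3, 6, 6, 7, 3, 6, 3, 2, 2, 7, 6, 3, 6, 6, 7, 2, 3, 2, 2, 7, 2, 3, 6, 6, 7, 2, 7, 6, 3, 2, 2, 7, 2, 3, 6, 6, 7, 2, 7]) = true := by decide +kernel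

theorem rot6_101 : T.rot 6 [3, 6, 3, 2, 2, 7, 6, 3, 6, 6, 7, 3, 6, 3, 2, 2, 7, 6, 3, 6, 6, 7, 2, 3, 2, 2, 7, 2, 3, 6, 6, 7, 2, 7, 6, 3, 2, 2, 7, 2, 3, 6, 6, 7, 2, 7, 6] (sel (ones 7128) ip6 101) = true := by decide +kernel

theorem rot6_101r : band (Rule.ok (2 * 0) EX RL ⟨6 :: [3, 6, 3, 2, 2, 7, 6, 3, 6, 6, 7, 3, 6, 3, 2, 2, 7, 6, 3, 6, 6, 7, 2, 3, 2, 2, 7, 2, 3, 6, 6, 7, 2, 7, 6, 3, 2, 2, 7, 2, 3, 6, 6, 7, 2, 7, 6], [5, 3, 3, 4, 3, 5, 2, 2, 4, 3, 3, 3, 4, 3, 5, 2, 2, 4, 3, 4, 3], 3, true⟩) (lall (memL L) [3, 6, 3, 2, 2, 7, 6, 3, 6, 6, 7, 3, 6, 3, 2, 2, 7, 6, 3, 6, 6, 7, 2, 3, 2, 2, 7, 2, 3, 6, 6, 7, 2, 7, 6, 3, 2, 2, 7, 2, 3, 6, 6, 7, 2, 7, 6]) = true := by decide +kernel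

theorem rot6_102 : T.rot 6 [3, 2, 2, 7, 6, 3, 6, 6, 7, 3, 6, 3, 2, 2, 7, 6, 3, 6, 6, 7, 2, 3, 2, 2, 7, 2, 3, 6, 6, 7, 2, 7, 6, 3, 2, 2, 7, 2, 3, 6, 6, 7, 2, 7, 6, 6, 3] (sel (ones 7128) ip6 102) = true := by decide +kernel

theorem rot6_102r : band (Rule.ok (2 * 0) EX RL ⟨6 :: [3, 2, 2, 7, 6, 3, 6, 6, 7, 3, 6, 3, 2, 2, 7, 6, 3, 6, 6, 7, 2, 3, 2, 2, 7, 2, 3, 6, 6, 7, 2, 7, 6, 3, 2, 2, 7, 2, 3, 6, 6, 7, 2, 7, 6, 6, 3], [5, 3, 3, 4, 3, 5, 2, 2, 4, 3, 3, 3, 4, 3, 5, 2, 2, 4, 3], 3, true⟩) (lall (memL L) [3, 2, 2, 7, 6, 3, 6, 6, 7, 3, 6, 3, 2, 2, 7, 6, 3, 6, 6, 7, 2, 3, 2, 2, 7, 2, 3, 6, 6, 7, 2, 7, 6, 3, 2, 2, 7, 2, 3, 6, 6, 7, 2, 7, 6, 6, 3]) = true := by decide +kernel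

theorem rot6_103 : T.rot 6 [3, 6, 6, 7, 3, 6, 3, 2, 2, 7, 6, 3, 6, 6, 7, 2, 3, 2, 2, 7, 2, 3, 6, 6, 7, 2, 7, 6, 3, 2, 2, 7, 2, 3, 6, 6, 7, 2, 7, 6, 6, 3, 6, 3, 2, 2, 7] (sel (ones 7128) ip6 103) = true := by decide +kernel

theorem rot6_103r : band (Rule.ok (2 * 0) EX RL ⟨6 :: [3, 6, 6, 7, 3, 6, 3, 2, 2, 7, 6, 3, 6, 6, 7, 2, 3, 2, 2, 7, 2, 3, 6, 6, 7, 2, 7, 6, 3, 2, 2, 7, 2, 3, 6, 6, 7, 2, 7, 6, 6, 3, 6, 3, 2, 2, 7], [5, 3, 3, 4, 3, 5, 2, 2, 4, 3, 3, 3, 4, 3], 3, true⟩) (lall (memL L) [3, 6, 6, 7, 3, 6, 3, 2, 2, 7, 6, 3, 6, 6, 7, 2, 3, 2, 2, 7, 2, 3, 6, 6, 7, 2, 7, 6, 3, 2, 2, 7, 2, 3, 6, 6, 7, 2, 7, 6, 6, 3, 6, 3, 2, 2, 7]) = true := by decide +kernel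

theorem rot6_104 : T.rot 6 [6, 7, 3, 6, 3, 2, 2, 7, 6, 3, 6, 6, 7, 2, 3, 2, 2, 7, 2, 3, 6, 6, 7, 2, 7, 6, 3, 2, 2, 7, 2, 3, 6, 6, 7, 2, 7, 6, 6, 3, 6, 3, 2, 2, 7, 6, 3] (sel (ones 7128) ip6 104) = true := by decide +kernel

theorem rot6_104r : band (Rule.ok (2 * 0) EX RL ⟨6 :: [6, 7, 3, 6, 3, 2, 2, 7, 6, 3, 6, 6, 7, 2, 3, 2, 2, 7, 2, 3, 6, 6, 7, 2, 7, 6, 3, 2, 2, 7, 2, 3, 6, 6, 7, 2, 7, 6, 6, 3, 6, 3, 2, 2, 7, 6, 3], [5, 3, 3, 4, 3, 5, 2, 2, 4, 3, 3, 3], 3, true⟩) (lall (memL L) [6, 7, 3, 6, 3, 2, 2, 7, 6, 3, 6, 6, 7, 2, 3, 2, 2, 7, 2, 3, 6, 6, 7, 2, 7, 6, 3, 2, 2, 7, 2, 3, 6, 6, 7, 2, 7, 6, 6, 3, 6, 3, 2, 2, 7, 6, 3]) = true := by decide +kernel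

theorem rot6_105 : T.rot 6 [7, 3, 6, 3, 2, 2, 7, 6, 3, 6, 6, 7, 2, 3, 2, 2, 7, 2, 3, 6, 6, 7, 2, 7, 6, 3, 2, 2, 7, 2, 3, 6, 6, 7, 2, 7, 6, 6, 3, 6, 3, 2, 2, 7, 6, 3, 6] (sel (ones 7128) ip6 105) = true := by decide +kernel

theorem rot6_105r : band (Rule.ok (2 * 0) EX RL ⟨6 :: [7, 3, 6, 3, 2, 2, 7, 6, 3, 6, 6, 7, 2, 3, 2, 2, 7, 2, 3, 6, 6, 7, 2, 7, 6, 3, 2, 2, 7, 2, 3, 6, 6, 7, 2, 7, 6, 6, 3, 6, 3, 2, 2, 7, 6, 3, 6], [5, 3, 3, 4, 3, 5, 2, 2, 4, 3, 3], 3, true⟩) (lall (memL L) [7, 3, 6, 3, 2, 2, 7, 6, 3, 6, 6, 7, 2, 3, 2, 2, 7, 2, 3, 6, 6, 7, 2, 7, 6, 3, 2, 2, 7, 2, 3, 6, 6, 7, 2, 7, 6, 6, 3, 6, 3, 2, 2, 7, 6, 3, 6]) = true := by decide +kernel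

theorem rot6_106 : T.rot 6 [3, 6, 6, 7, 2, 3, 2, 2, 7, 2, 3, 6, 6, 7, 2, 7, 6, 3, 2, 2, 7, 2, 3, 6, 6, 7, 2, 7, 6, 6, 3, 6, 3, 2, 2, 7, 6, 3, 6, 6, 7, 3, 6, 3, 2, 2, 7] (sel (ones 7128) ip6 106) = true := by decide +kernel

theorem rot6_106r : band (Rule.ok (2 * 0) EX RL ⟨6 :: [3, 6, 6, 7, 2, 3, 2, 2, 7, 2, 3, 6, 6, 7, 2, 7, 6, 3, 2, 2, 7, 2, 3, 6, 6, 7, 2, 7, 6, 6, 3, 6, 3, 2, 2, 7, 6, 3, 6, 6, 7, 3, 6, 3, 2, 2, 7], [5, 3, 3, 4, 3], 3, true⟩) (lall (memL L) [3, 6, 6, 7, 2, 3, 2, 2, 7, 2, 3, 6, 6, 7, 2, 7, 6, 3, 2, 2, 7, 2, 3, 6, 6, 7, 2, 7, 6, 6, 3, 6, 3, 2, 2, 7, 6, 3, 6, 6, 7, 3, 6, 3, 2, 2, 7]) = true := by decide +kernel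

theorem rot6_107 : T.rot 6 [7, 2, 3, 2, 2, 7, 2, 3, 6, 6, 7, 2, 7, 6, 3, 2, 2, 7, 2, 3, 6, 6, 7, 2, 7, 6, 6, 3, 6, 3, 2, 2, 7, 6, 3, 6, 6, 7, 3, 6, 3, 2, 2, 7, 6, 3, 6] (sel (ones 7128) ip6 107) = true := by decide +kernel

theorem rot6_107r : band (Rule.ok (2 * 0) EX RL ⟨6 :: [7, 2, 3, 2, 2, 7, 2, 3, 6, 6, 7, 2, 7, 6, 3, 2, 2, 7, 2, 3, 6, 6, 7, 2, 7, 6, 6, 3, 6, 3, 2, 2, 7, 6, 3, 6, 6, 7, 3, 6, 3, 2, 2, 7, 6, 3, 6], [5, 3], 3, true⟩) (lall (memL L) [7, 2, 3, 2, 2, 7, 2, 3, 6, 6, 7, 2, 7, 6, 3, 2, 2, 7, 2, 3, 6, 6, 7, 2, 7, 6, 6, 3, 6, 3, 2, 2, 7, 6, 3, 6, 6, 7, 3, 6, 3, 2, 2, 7, 6, 3, 6]) = true := by decide +kernel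

theorem rot6_108 : T.rot 6 [7, 2, 7, 3, 2, 2, 7, 2, 3, 6, 6, 7, 2, 7, 2, 2, 3, 6, 3, 2, 2, 7, 6, 3, 6, 6, 7, 2, 3, 6, 3, 2, 2, 7, 6, 3, 6, 6, 7, 6, 3, 2, 2, 7, 2, 3, 6] (sel (ones 7128) ip6 108) = true := by decide +kernel

theorem rot6_108r : band (Rule.ok (2 * 0) EX RL ⟨6 :: [7, 2, 7, 3, 2, 2, 7, 2, 3, 6, 6, 7, 2, 7, 2, 2, 3, 6, 3, 2, 2, 7, 6, 3, 6, 6, 7, 2, 3, 6, 3, 2, 2, 7, 6, 3, 6, 6, 7, 6, 3, 2, 2, 7, 2, 3, 6], [5, 3, 3, 4, 3, 5, 2], 3, false⟩) (lall (memL L) [7, 2, 7, 3, 2, 2, 7, 2, 3, 6, 6, 7, 2, 7, 2, 2, 3, 6, 3, 2, 2, 7, 6, 3, 6, 6, 7, 2, 3, 6, 3, 2, 2, 7, 6, 3, 6, 6, 7, 6, 3, 2, 2, 7, 2, 3, 6]) = true := by decide +kernel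

theorem rot6_109 : T.rot 6 [6, 7, 2, 7, 2, 2, 3, 6, 3, 2, 2, 7, 6, 3, 6, 6, 7, 2, 3, 6, 3, 2, 2, 7, 6, 3, 6, 6, 7, 6, 3, 2, 2, 7, 2, 3, 6, 6, 7, 2, 7, 3, 2, 2, 7, 2, 3] (sel (ones 7128) ip6 109) = true := by decide +kernel

theorem rot6_109r : band (Rule.ok (2 * 0) EX RL ⟨6 :: [6, 7, 2, 7, 2, 2, 3, 6, 3, 2, 2, 7, 6, 3, 6, 6, 7, 2, 3, 6, 3, 2, 2, 7, 6, 3, 6, 6, 7, 6, 3, 2, 2, 7, 2, 3, 6, 6, 7, 2, 7, 3, 2, 2, 7, 2, 3], [5, 3, 3, 4, 3, 5, 2, 2, 4, 3, 3, 3, 4, 3, 5], 3, false⟩) (lall (memL L) [6, 7, 2, 7, 2, 2, 3, 6, 3, 2, 2, 7, 6, 3, 6, 6, 7, 2, 3, 6, 3, 2, 2, 7, 6, 3, 6, 6, 7, 6, 3, 2, 2, 7, 2, 3, 6, 6, 7, 2, 7, 3, 2, 2, 7, 2, 3]) = true := by decide +kernel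

theorem rot6_110 : T.rot 6 [7, 2, 7, 2, 2, 3, 6, 3, 2, 2, 7, 6, 3, 6, 6, 7, 2, 3, 6, 3, 2, 2, 7, 6, 3, 6, 6, 7, 6, 3, 2, 2, 7, 2, 3, 6, 6, 7, 2, 7, 3, 2, 2, 7, 2, 3, 6] (sel (ones 7128) ip6 110) = true := by decide +kernel

theorem rot6_110r : band (Rule.ok (2 * 0) EX RL ⟨6 :: [7, 2, 7, 2, 2, 3, 6, 3, 2, 2, 7, 6, 3, 6, 6, 7, 2, 3, 6, 3, 2, 2, 7, 6, 3, 6, 6, 7, 6, 3, 2, 2, 7, 2, 3, 6, 6, 7, 2, 7, 3, 2, 2, 7, 2, 3, 6], [5, 3, 3, 4, 3, 5, 2, 2, 4, 3, 3, 3, 4, 3, 5, 2], 3, false⟩) (lall (memL L) [7, 2, 7, 2, 2, 3, 6, 3, 2, 2, 7, 6, 3, 6, 6, 7, 2, 3, 6, 3, 2, 2, 7, 6, 3, 6, 6, 7, 6, 3, 2, 2, 7, 2, 3, 6, 6, 7, 2, 7, 3, 2, 2, 7, 2, 3, 6]) = true := by decide +kernel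

theorem rot6_111 : T.rot 6 [3, 2, 2, 7, 6, 3, 6, 6, 7, 2, 3, 6, 3, 2, 2, 7, 6, 3, 6, 6, 7, 6, 3, 2, 2, 7, 2, 3, 6, 6, 7, 2, 7, 3, 2, 2, 7, 2, 3, 6, 6, 7, 2, 7, 2, 2, 3] (sel (ones 7128) ip6 111) = true := by decide +kernel

theorem rot6_111r : band (Rule.ok (2 * 0) EX RL ⟨6 :: [3, 2, 2, 7, 6, 3, 6, 6, 7, 2, 3, 6, 3, 2, 2, 7, 6, 3, 6, 6, 7, 6, 3, 2, 2, 7, 2, 3, 6, 6, 7, 2, 7, 3, 2, 2, 7, 2, 3, 6, 6, 7, 2, 7, 2, 2, 3], [3, 5, 3, 3, 4, 3, 5, 2, 2, 4, 3, 4, 2, 5, 3, 3, 4, 3, 5, 2, 2, 4, 3], 3, false⟩) (lall (memL L) [3, 2, 2, 7, 6, 3, 6, 6, 7, 2, 3, 6, 3, 2, 2, 7, 6, 3, 6, 6, 7, 6, 3, 2, 2, 7, 2, 3, 6, 6, 7, 2, 7, 3, 2, 2, 7, 2, 3, 6, 6, 7, 2, 7, 2, 2, 3]) = true := by decide +kernel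

theorem rot6_112 : T.rot 6 [3, 6, 6, 7, 2, 3, 6, 3, 2, 2, 7, 6, 3, 6, 6, 7, 6, 3, 2, 2, 7, 2, 3, 6, 6, 7, 2, 7, 3, 2, 2, 7, 2, 3, 6, 6, 7, 2, 7, 2, 2, 3, 6, 3, 2, 2, 7] (sel (ones 7128) ip6 112) = true := by decide +kernel

theorem rot6_112r : band (Rule.ok (2 * 0) EX RL ⟨6 :: [3, 6, 6, 7, 2, 3, 6, 3, 2, 2, 7, 6, 3, 6, 6, 7, 6, 3, 2, 2, 7, 2, 3, 6, 6, 7, 2, 7, 3, 2, 2, 7, 2, 3, 6, 6, 7, 2, 7, 2, 2, 3, 6, 3, 2, 2, 7], [3, 5, 3, 3, 4, 3, 5, 2, 2, 4, 3, 4, 2, 5, 3, 3, 4, 3], 3, false⟩) (lall (memL L) [3, 6, 6, 7, 2, 3, 6, 3, 2, 2, 7, 6, 3, 6, 6, 7, 6, 3, 2, 2, 7, 2, 3, 6, 6, 7, 2, 7, 3, 2, 2, 7, 2, 3, 6, 6, 7, 2, 7, 2, 2, 3, 6, 3, 2, 2, 7]) = true := by decide +kernel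

theorem rot6_113 : T.rot 6 [6, 7, 2, 3, 6, 3, 2, 2, 7, 6, 3, 6, 6, 7, 6, 3, 2, 2, 7, 2, 3, 6, 6, 7, 2, 7, 3, 2, 2, 7, 2, 3, 6, 6, 7, 2, 7, 2, 2, 3, 6, 3, 2, 2, 7, 6, 3] (sel (ones 7128) ip6 113) = true := by decide +kernel

theorem rot6_113r : band (Rule.ok (2 * 0) EX RL ⟨6 :: [6, 7, 2, 3, 6, 3, 2, 2, 7, 6, 3, 6, 6, 7, 6, 3, 2, 2, 7, 2, 3, 6, 6, 7, 2, 7, 3, 2, 2, 7, 2, 3, 6, 6, 7, 2, 7, 2, 2, 3, 6, 3, 2, 2, 7, 6, 3], [3, 5, 3, 3, 4, 3, 5, 2, 2, 4, 3, 4, 2, 5, 3, 3], 3, false⟩) (lall (memL L) [6, 7, 2, 3, 6, 3, 2, 2, 7, 6, 3, 6, 6, 7, 6, 3, 2, 2, 7, 2, 3, 6, 6, 7, 2, 7, 3, 2, 2, 7, 2, 3, 6, 6, 7, 2, 7, 2, 2, 3, 6, 3, 2, 2, 7, 6, 3]) = true := by decide +kernel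

theorem rot6_114 : T.rot 6 [7, 2, 3, 6, 3, 2, 2, 7, 6, 3, 6, 6, 7, 6, 3, 2, 2, 7, 2, 3, 6, 6, 7, 2, 7, 3, 2, 2, 7, 2, 3, 6, 6, 7, 2, 7, 2, 2, 3, 6, 3, 2, 2, 7, 6, 3, 6] (sel (ones 7128) ip6 114) = true := by decide +kernel

theorem rot6_114r : band (Rule.ok (2 * 0) EX RL ⟨6 :: [7, 2, 3, 6, 3, 2, 2, 7, 6, 3, 6, 6, 7, 6, 3, 2, 2, 7, 2, 3, 6, 6, 7, 2, 7, 3, 2, 2, 7, 2, 3, 6, 6, 7, 2, 7, 2, 2, 3, 6, 3, 2, 2, 7, 6, 3, 6], [3, 5, 3, 3, 4, 3, 5, 2, 2, 4, 3, 4, 2, 5, 3], 3, false⟩) (lall (memL L) [7, 2, 3, 6, 3, 2, 2, 7, 6, 3, 6, 6, 7, 6, 3, 2, 2, 7, 2, 3, 6, 6, 7, 2, 7, 3, 2, 2, 7, 2, 3, 6, 6, 7, 2, 7, 2, 2, 3, 6, 3, 2, 2, 7, 6, 3, 6]) = true := by decide +kernel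

theorem rot6_115 : T.rot 6 [3, 2, 2, 7, 6, 3, 6, 6, 7, 6, 3, 2, 2, 7, 2, 3, 6, 6, 7, 2, 7, 3, 2, 2, 7, 2, 3, 6, 6, 7, 2, 7, 2, 2, 3, 6, 3, 2, 2, 7, 6, 3, 6, 6, 7, 2, 3] (sel (ones 7128) ip6 115) = true := by decide +kernel

theorem rot6_115r : band (Rule.ok (2 * 0) EX RL ⟨6 :: [3, 2, 2, 7, 6, 3, 6, 6, 7, 6, 3, 2, 2, 7, 2, 3, 6, 6, 7, 2, 7, 3, 2, 2, 7, 2, 3, 6, 6, 7, 2, 7, 2, 2, 3, 6, 3, 2, 2, 7, 6, 3, 6, 6, 7, 2, 3], [3, 5, 3, 3, 4, 3, 5, 2, 2, 4, 3], 3, false⟩) (lall (memL L) [3, 2, 2, 7, 6, 3, 6, 6, 7, 6, 3, 2, 2, 7, 2, 3, 6, 6, 7, 2, 7, 3, 2, 2, 7, 2, 3, 6, 6, 7, 2, 7, 2, 2, 3, 6, 3, 2, 2, 7, 6, 3, 6, 6, 7, 2, 3]) = true := by decide +kernel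

theorem rot6_116 : T.rot 6 [3, 6, 6, 7, 6, 3, 2, 2, 7, 2, 3, 6, 6, 7, 2, 7, 3, 2, 2, 7, 2, 3, 6, 6, 7, 2, 7, 2, 2, 3, 6, 3, 2, 2, 7, 6, 3, 6, 6, 7, 2, 3, 6, 3, 2, 2, 7] (sel (ones 7128) ip6 116) = true := by decide +kernel

theorem rot6_116r : band (Rule.ok (2 * 0) EX RL ⟨6 :: [3, 6, 6, 7, 6, 3, 2, 2, 7, 2, 3, 6, 6, 7, 2, 7, 3, 2, 2, 7, 2, 3, 6, 6, 7, 2, 7, 2, 2, 3, 6, 3, 2, 2, 7, 6, 3, 6, 6, 7, 2, 3, 6, 3, 2, 2, 7], [3, 5, 3, 3, 4, 3], 3, false⟩) (lall (memL L) [3, 6, 6, 7, 6, 3, 2, 2, 7, 2, 3, 6, 6, 7, 2, 7, 3, 2, 2, 7, 2, 3, 6, 6, 7, 2, 7, 2, 2, 3, 6, 3, 2, 2, 7, 6, 3, 6, 6, 7, 2, 3, 6, 3, 2, 2, 7]) = true := by decide +kernel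

theorem rot6_117 : T.rot 6 [7, 6, 3, 2, 2, 7, 2, 3, 6, 6, 7, 2, 7, 3, 2, 2, 7, 2, 3, 6, 6, 7, 2, 7, 2, 2, 3, 6, 3, 2, 2, 7, 6, 3, 6, 6, 7, 2, 3, 6, 3, 2, 2, 7, 6, 3, 6] (sel (ones 7128) ip6 117) = true := by decide +kernel

theorem rot6_117r : band (Rule.ok (2 * 0) EX RL ⟨6 :: [7, 6, 3, 2, 2, 7, 2, 3, 6, 6, 7, 2, 7, 3, 2, 2, 7, 2, 3, 6, 6, 7, 2, 7, 2, 2, 3, 6, 3, 2, 2, 7, 6, 3, 6, 6, 7, 2, 3, 6, 3, 2, 2, 7, 6, 3, 6], [3, 5, 3], 3, false⟩) (lall (memL L) [7, 6, 3, 2, 2, 7, 2, 3, 6, 6, 7, 2, 7, 3, 2, 2, 7, 2, 3, 6, 6, 7, 2, 7, 2, 2, 3, 6, 3, 2, 2, 7, 6, 3, 6, 6, 7, 2, 3, 6, 3, 2, 2, 7, 6, 3, 6]) = true := by decide +kernel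

theorem rot6_118 : T.rot 6 [3, 2, 2, 7, 2, 3, 6, 6, 7, 2, 7, 3, 2, 2, 7, 2, 3, 6, 6, 7, 2, 7, 2, 2, 3, 6, 3, 2, 2, 7, 6, 3, 6, 6, 7, 2, 3, 6, 3, 2, 2, 7, 6, 3, 6, 6, 7] (sel (ones 7128) ip6 118) = true := by decide +kernel

theorem rot6_118r : band (Rule.ok (2 * 0) EX RL ⟨6 :: [3, 2, 2, 7, 2, 3, 6, 6, 7, 2, 7, 3, 2, 2, 7, 2, 3, 6, 6, 7, 2, 7, 2, 2, 3, 6, 3, 2, 2, 7, 6, 3, 6, 6, 7, 2, 3, 6, 3, 2, 2, 7, 6, 3, 6, 6, 7], [3], 3, false⟩) (lall (memL L) [3, 2, 2, 7, 2, 3, 6, 6, 7, 2, 7, 3, 2, 2, 7, 2, 3, 6, 6, 7, 2, 7, 2, 2, 3, 6, 3, 2, 2, 7, 6, 3, 6, 6, 7, 2, 3, 6, 3, 2, 2, 7, 6, 3, 6, 6, 7]) = true := by decide +kernel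

theorem rot6_119 : T.rot 6 [6, 7, 2, 7, 7, 7, 3, 2, 2, 7, 2, 3, 6, 6, 7, 2, 7, 3, 2, 2, 7, 2, 3, 6, 6, 7, 2, 7, 7, 7, 3, 6, 3, 2, 2, 7, 6, 3, 6, 6, 7, 7, 7, 3, 2, 2, 7, 2, 3] (sel (ones 7128) ip6 119) = true := by decide +kernel

theorem rot6_119r : band (Rule.ok (2 * 0) EX RL ⟨6 :: [6, 7, 2, 7, 7, 7, 3, 2, 2, 7, 2, 3, 6, 6, 7, 2, 7, 3, 2, 2, 7, 2, 3, 6, 6, 7, 2, 7, 7, 7, 3, 6, 3, 2, 2, 7, 6, 3, 6, 6, 7, 7, 7, 3, 2, 2, 7, 2, 3], [4, 3, 3, 4, 3, 5], 2, true⟩) (lall (memL L) [6, 7, 2, 7, 7, 7, 3, 2, 2, 7, 2, 3, 6, 6, 7, 2, 7, 3, 2, 2, 7, 2, 3, 6, 6, 7, 2, 7, 7, 7, 3, 6, 3, 2, 2, 7, 6, 3, 6, 6, 7, 7, 7, 3, 2, 2, 7, 2, 3]) = true := by decide +kernel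

theorem rot6_120 : T.rot 6 [7, 2, 7, 7, 7, 3, 2, 2, 7, 2, 3, 6, 6, 7, 2, 7, 3, 2, 2, 7, 2, 3, 6, 6, 7, 2, 7, 7, 7, 3, 6, 3, 2, 2, 7, 6, 3, 6, 6, 7, 7, 7, 3, 2, 2, 7, 2, 3, 6] (sel (ones 7128) ip6 120) = true := by decide +kernel

theorem rot6_120r : band (Rule.ok (2 * 0) EX RL ⟨6 :: [7, 2, 7, 7, 7, 3, 2, 2, 7, 2, 3, 6, 6, 7, 2, 7, 3, 2, 2, 7, 2, 3, 6, 6, 7, 2, 7, 7, 7, 3, 6, 3, 2, 2, 7, 6, 3, 6, 6, 7, 7, 7, 3, 2, 2, 7, 2, 3, 6], [4, 3, 3, 4, 3, 5, 2], 2, true⟩) (lall (memL L) [7, 2, 7, 7, 7, 3, 2, 2, 7, 2, 3, 6, 6, 7, 2, 7, 3, 2, 2, 7, 2, 3, 6, 6, 7, 2, 7, 7, 7, 3, 6, 3, 2, 2, 7, 6, 3, 6, 6, 7, 7, 7, 3, 2, 2, 7, 2, 3, 6]) = true := by decide +kernel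

theorem rot6_121 : T.rot 6 [6, 7, 2, 7, 3, 2, 2, 7, 2, 3, 6, 6, 7, 2, 7, 7, 7, 3, 6, 3, 2, 2, 7, 6, 3, 6, 6, 7, 7, 7, 3, 2, 2, 7, 2, 3, 6, 6, 7, 2, 7, 7, 7, 3, 2, 2, 7, 2, 3] (sel (ones 7128) ip6 121) = true := by decide +kernel

theorem rot6_121r : band (Rule.ok (2 * 0) EX RL ⟨6 :: [6, 7, 2, 7, 3, 2, 2, 7, 2, 3, 6, 6, 7, 2, 7, 7, 7, 3, 6, 3, 2, 2, 7, 6, 3, 6, 6, 7, 7, 7, 3, 2, 2, 7, 2, 3, 6, 6, 7, 2, 7, 7, 7, 3, 2, 2, 7, 2, 3], [4, 3, 3, 4, 3, 5, 2, 2, 4, 3, 4, 4, 3, 3, 4, 3, 5], 2, true⟩) (lall (memL L) [6, 7, 2, 7, 3, 2, 2, 7, 2, 3, 6, 6, 7, 2, 7, 7, 7, 3, 6, 3, 2, 2, 7, 6, 3, 6, 6, 7, 7, 7, 3, 2, 2, 7, 2, 3, 6, 6, 7, 2, 7, 7, 7, 3, 2, 2, 7, 2, 3]) = true := by decide +kernel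

theorem rot6_122 : T.rot 6 [7, 2, 7, 3, 2, 2, 7, 2, 3, 6, 6, 7, 2, 7, 7, 7, 3, 6, 3, 2, 2, 7, 6, 3, 6, 6, 7, 7, 7, 3, 2, 2, 7, 2, 3, 6, 6, 7, 2, 7, 7, 7, 3, 2, 2, 7, 2, 3, 6] (sel (ones 7128) ip6 122) = true := by decide +kernel

theorem rot6_122r : band (Rule.ok (2 * 0) EX RL ⟨6 :: [7, 2, 7, 3, 2, 2, 7, 2, 3, 6, 6, 7, 2, 7, 7, 7, 3, 6, 3, 2, 2, 7, 6, 3, 6, 6, 7, 7, 7, 3, 2, 2, 7, 2, 3, 6, 6, 7, 2, 7, 7, 7, 3, 2, 2, 7, 2, 3, 6], [4, 3, 3, 4, 3, 5, 2, 2, 4, 3, 4, 4, 3, 3, 4, 3, 5, 2], 2, true⟩) (lall (memL L) [7, 2, 7, 3, 2, 2, 7, 2, 3, 6, 6, 7, 2, 7, 7, 7, 3, 6, 3, 2, 2, 7, 6, 3, 6, 6, 7, 7, 7, 3, 2, 2, 7, 2, 3, 6, 6, 7, 2, 7, 7, 7, 3, 2, 2, 7, 2, 3, 6]) = true := by decide +kernel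

theorem rot6_123 : T.rot 6 [6, 7, 2, 7, 7, 7, 3, 6, 3, 2, 2, 7, 6, 3, 6, 6, 7, 7, 7, 3, 2, 2, 7, 2, 3, 6, 6, 7, 2, 7, 7, 7, 3, 2, 2, 7, 2, 3, 6, 6, 7, 2, 7, 3, 2, 2, 7, 2, 3] (sel (ones 7128) ip6 123) = true := by decide +kernel

theorem rot6_123r : band (Rule.ok (2 * 0) EX RL ⟨6 :: [6, 7, 2, 7, 7, 7, 3, 6, 3, 2, 2, 7, 6, 3, 6, 6, 7, 7, 7, 3, 2, 2, 7, 2, 3, 6, 6, 7, 2, 7, 7, 7, 3, 2, 2, 7, 2, 3, 6, 6, 7, 2, 7, 3, 2, 2, 7, 2, 3], [5, 3, 3, 4, 3, 5, 2, 2, 4, 3, 5, 5, 2, 5, 3, 3], 2, true⟩) (lall (memL L) [6, 7, 2, 7, 7, 7, 3, 6, 3, 2, 2, 7, 6, 3, 6, 6, 7, 7, 7, 3, 2, 2, 7, 2, 3, 6, 6, 7, 2, 7, 7, 7, 3, 2, 2, 7, 2, 3, 6, 6, 7, 2, 7, 3, 2, 2, 7, 2, 3]) = true := by decide +kernel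

theorem rot6_124 : T.rot 6 [7, 2, 7, 7, 7, 3, 6, 3, 2, 2, 7, 6, 3, 6, 6, 7, 7, 7, 3, 2, 2, 7, 2, 3, 6, 6, 7, 2, 7, 7, 7, 3, 2, 2, 7, 2, 3, 6, 6, 7, 2, 7, 3, 2, 2, 7, 2, 3, 6] (sel (ones 7128) ip6 124) = true := by decide +kernel

theorem rot6_124r : band (Rule.ok (2 * 0) EX RL ⟨6 :: [7, 2, 7, 7, 7, 3, 6, 3, 2, 2, 7, 6, 3, 6, 6, 7, 7, 7, 3, 2, 2, 7, 2, 3, 6, 6, 7, 2, 7, 7, 7, 3, 2, 2, 7, 2, 3, 6, 6, 7, 2, 7, 3, 2, 2, 7, 2, 3, 6], [5, 3, 3, 4, 3, 5, 2, 2, 4, 3, 5, 5, 2, 5, 3], 2, true⟩) (lall (memL L) [7, 2, 7, 7, 7, 3, 6, 3, 2, 2, 7, 6, 3, 6, 6, 7, 7, 7, 3, 2, 2, 7, 2, 3, 6, 6, 7, 2, 7, 7, 7, 3, 2, 2, 7, 2, 3, 6, 6, 7, 2, 7, 3, 2, 2, 7, 2, 3, 6]) = true := by decide +kernel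

theorem rot6_125 : T.rot 6 [3, 2, 2, 7, 6, 3, 6, 6, 7, 7, 7, 3, 2, 2, 7, 2, 3, 6, 6, 7, 2, 7, 7, 7, 3, 2, 2, 7, 2, 3, 6, 6, 7, 2, 7, 3, 2, 2, 7, 2, 3, 6, 6, 7, 2, 7, 7, 7, 3] (sel (ones 7128) ip6 125) = true := by decide +kernel

theorem rot6_125r : band (Rule.ok (2 * 0) EX RL ⟨6 :: [3, 2, 2, 7, 6, 3, 6, 6, 7, 7, 7, 3, 2, 2, 7, 2, 3, 6, 6, 7, 2, 7, 7, 7, 3, 2, 2, 7, 2, 3, 6, 6, 7, 2, 7, 3, 2, 2, 7, 2, 3, 6, 6, 7, 2, 7, 7, 7, 3], [5, 3, 3, 4, 3, 5, 2, 2, 4, 3], 2, true⟩) (lall (memL L) [3, 2, 2, 7, 6, 3, 6, 6, 7, 7, 7, 3, 2, 2, 7, 2, 3, 6, 6, 7, 2, 7, 7, 7, 3, 2, 2, 7, 2, 3, 6, 6, 7, 2, 7, 3, 2, 2, 7, 2, 3, 6, 6, 7, 2, 7, 7, 7, 3]) = true := by decide +kernel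

theorem rot6_126 : T.rot 6 [6, 7, 7, 7, 3, 2, 2, 7, 2, 3, 6, 6, 7, 2, 7, 7, 7, 3, 2, 2, 7, 2, 3, 6, 6, 7, 2, 7, 3, 2, 2, 7, 2, 3, 6, 6, 7, 2, 7, 7, 7, 3, 6, 3, 2, 2, 7, 6, 3] (sel (ones 7128) ip6 126) = true := by decide +kernel

theorem rot6_126r : band (Rule.ok (2 * 0) EX RL ⟨6 :: [6, 7, 7, 7, 3, 2, 2, 7, 2, 3, 6, 6, 7, 2, 7, 7, 7, 3, 2, 2, 7, 2, 3, 6, 6, 7, 2, 7, 3, 2, 2, 7, 2, 3, 6, 6, 7, 2, 7, 7, 7, 3, 6, 3, 2, 2, 7, 6, 3], [5, 3, 3], 2, true⟩) (lall (memL L) [6, 7, 7, 7, 3, 2, 2, 7, 2, 3, 6, 6, 7, 2, 7, 7, 7, 3, 2, 2, 7, 2, 3, 6, 6, 7, 2, 7, 3, 2, 2, 7, 2, 3, 6, 6, 7, 2, 7, 7, 7, 3, 6, 3, 2, 2, 7, 6, 3]) = true := by decide +kernel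

theorem rot6_127 : T.rot 6 [7, 7, 7, 3, 2, 2, 7, 2, 3, 6, 6, 7, 2, 7, 7, 7, 3, 2, 2, 7, 2, 3, 6, 6, 7, 2, 7, 3, 2, 2, 7, 2, 3, 6, 6, 7, 2, 7, 7, 7, 3, 6, 3, 2, 2, 7, 6, 3, 6] (sel (ones 7128) ip6 127) = true := by decide +kernel

theorem rot6_127r : band (Rule.ok (2 * 0) EX RL ⟨6 :: [7, 7, 7, 3, 2, 2, 7, 2, 3, 6, 6, 7, 2, 7, 7, 7, 3, 2, 2, 7, 2, 3, 6, 6, 7, 2, 7, 3, 2, 2, 7, 2, 3, 6, 6, 7, 2, 7, 7, 7, 3, 6, 3, 2, 2, 7, 6, 3, 6], [5, 3], 2, true⟩) (lall (memL L) [7, 7, 7, 3, 2, 2, 7, 2, 3, 6, 6, 7, 2, 7, 7, 7, 3, 2, 2, 7, 2, 3, 6, 6, 7, 2, 7, 3, 2, 2, 7, 2, 3, 6, 6, 7, 2, 7, 7, 7, 3, 6, 3, 2, 2, 7, 6, 3, 6]) = true := by decide +kernel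

theorem rot6_128 : T.rot 6 [6, 7, 2, 7, 3, 3, 3, 6, 3, 2, 2, 7, 6, 3, 6, 6, 7, 3, 6, 3, 2, 2, 7, 6, 3, 6, 6, 7, 3, 3, 3, 6, 3, 2, 2, 7, 6, 3, 6, 6, 7, 3, 3, 3, 2, 2, 7, 2, 3] (sel (ones 7128) ip6 128) = true := by decide +kernel

theorem rot6_128r : band (Rule.ok (2 * 0) EX RL ⟨6 :: [6, 7, 2, 7, 3, 3, 3, 6, 3, 2, 2, 7, 6, 3, 6, 6, 7, 3, 6, 3, 2, 2, 7, 6, 3, 6, 6, 7, 3, 3, 3, 6, 3, 2, 2, 7, 6, 3, 6, 6, 7, 3, 3, 3, 2, 2, 7, 2, 3], [5, 3, 3, 4, 3, 5], 2, false⟩) (lall (memL L) [6, 7, 2, 7, 3, 3, 3, 6, 3, 2, 2, 7, 6, 3, 6, 6, 7, 3, 6, 3, 2, 2, 7, 6, 3, 6, 6, 7, 3, 3, 3, 6, 3, 2, 2, 7, 6, 3, 6, 6, 7, 3, 3, 3, 2, 2, 7, 2, 3]) = true := by decide +kernel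

theorem rot6_129 : T.rot 6 [3, 6, 6, 7, 3, 6, 3, 2, 2, 7, 6, 3, 6, 6, 7, 3, 3, 3, 6, 3, 2, 2, 7, 6, 3, 6, 6, 7, 3, 3, 3, 2, 2, 7, 2, 3, 6, 6, 7, 2, 7, 3, 3, 3, 6, 3, 2, 2, 7] (sel (ones 7128) ip6 129) = true := by decide +kernel

theorem rot6_129r : band (Rule.ok (2 * 0) EX RL ⟨6 :: [3, 6, 6, 7, 3, 6, 3, 2, 2, 7, 6, 3, 6, 6, 7, 3, 3, 3, 6, 3, 2, 2, 7, 6, 3, 6, 6, 7, 3, 3, 3, 2, 2, 7, 2, 3, 6, 6, 7, 2, 7, 3, 3, 3, 6, 3, 2, 2, 7], [5, 3, 3, 4, 3, 5, 2, 2, 4, 3, 5, 5, 2, 5, 3, 3, 4], 2, false⟩) (lall (memL L) [3, 6, 6, 7, 3, 6, 3, 2, 2, 7, 6, 3, 6, 6, 7, 3, 3, 3, 6, 3, 2, 2, 7, 6, 3, 6, 6, 7, 3, 3, 3, 2, 2, 7, 2, 3, 6, 6, 7, 2, 7, 3, 3, 3, 6, 3, 2, 2, 7]) = true := by decide +kernel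

theorem rot6_130 : T.rot 6 [6, 7, 3, 6, 3, 2, 2, 7, 6, 3, 6, 6, 7, 3, 3, 3, 6, 3, 2, 2, 7, 6, 3, 6, 6, 7, 3, 3, 3, 2, 2, 7, 2, 3, 6, 6, 7, 2, 7, 3, 3, 3, 6, 3, 2, 2, 7, 6, 3] (sel (ones 7128) ip6 130) = true := by decide +kernel

theorem rot6_130r : band (Rule.ok (2 * 0) EX RL ⟨6 :: [6, 7, 3, 6, 3, 2, 2, 7, 6, 3, 6, 6, 7, 3, 3, 3, 6, 3, 2, 2, 7, 6, 3, 6, 6, 7, 3, 3, 3, 2, 2, 7, 2, 3, 6, 6, 7, 2, 7, 3, 3, 3, 6, 3, 2, 2, 7, 6, 3], [5, 3, 3, 4, 3, 5, 2, 2, 4, 3, 5, 5, 2, 5, 3, 3, 4, 2, 5], 2, false⟩) (lall (memL L) [6, 7, 3, 6, 3, 2, 2, 7, 6, 3, 6, 6, 7, 3, 3, 3, 6, 3, 2, 2, 7, 6, 3, 6, 6, 7, 3, 3, 3, 2, 2, 7, 2, 3, 6, 6, 7, 2, 7, 3, 3, 3, 6, 3, 2, 2, 7, 6, 3]) = true := by decide +kernel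

theorem rot6_131 : T.rot 6 [7, 3, 6, 3, 2, 2, 7, 6, 3, 6, 6, 7, 3, 3, 3, 6, 3, 2, 2, 7, 6, 3, 6, 6, 7, 3, 3, 3, 2, 2, 7, 2, 3, 6, 6, 7, 2, 7, 3, 3, 3, 6, 3, 2, 2, 7, 6, 3, 6] (sel (ones 7128) ip6 131) = true := by decide +kernel

theorem rot6_131r : band (Rule.ok (2 * 0) EX RL ⟨6 :: [7, 3, 6, 3, 2, 2, 7, 6, 3, 6, 6, 7, 3, 3, 3, 6, 3, 2, 2, 7, 6, 3, 6, 6, 7, 3, 3, 3, 2, 2, 7, 2, 3, 6, 6, 7, 2, 7, 3, 3, 3, 6, 3, 2, 2, 7, 6, 3, 6], [5, 3, 3, 4, 3, 5, 2, 2, 4, 3, 5, 5, 2, 5, 3, 3, 4, 2, 5, 2], 2, false⟩) (lall (memL L) [7, 3, 6, 3, 2, 2, 7, 6, 3, 6, 6, 7, 3, 3, 3, 6, 3, 2, 2, 7, 6, 3, 6, 6, 7, 3, 3, 3, 2, 2, 7, 2, 3, 6, 6, 7, 2, 7, 3, 3, 3, 6, 3, 2, 2, 7, 6, 3, 6]) = true := by decide +kernel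

theorem rot6_132 : T.rot 6 [3, 2, 2, 7, 6, 3, 6, 6, 7, 3, 3, 3, 6, 3, 2, 2, 7, 6, 3, 6, 6, 7, 3, 3, 3, 2, 2, 7, 2, 3, 6, 6, 7, 2, 7, 3, 3, 3, 6, 3, 2, 2, 7, 6, 3, 6, 6, 7, 3] (sel (ones 7128) ip6 132) = true := by decide +kernel

theorem rot6_132r : band (Rule.ok (2 * 0) EX RL ⟨6 :: [3, 2, 2, 7, 6, 3, 6, 6, 7, 3, 3, 3, 6, 3, 2, 2, 7, 6, 3, 6, 6, 7, 3, 3, 3, 2, 2, 7, 2, 3, 6, 6, 7, 2, 7, 3, 3, 3, 6, 3, 2, 2, 7, 6, 3, 6, 6, 7, 3], [4, 3, 3, 4, 3, 5, 2, 2, 4, 3, 4, 4, 3, 3, 4, 3, 5, 2, 2, 4, 3], 2, false⟩) (lall (memL L) [3, 2, 2, 7, 6, 3, 6, 6, 7, 3, 3, 3, 6, 3, 2, 2, 7, 6, 3, 6, 6, 7, 3, 3, 3, 2, 2, 7, 2, 3, 6, 6, 7, 2, 7, 3, 3, 3, 6, 3, 2, 2, 7, 6, 3, 6, 6, 7, 3]) = true := by decide +kernel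

theorem rot6_133 : T.rot 6 [3, 6, 6, 7, 3, 3, 3, 6, 3, 2, 2, 7, 6, 3, 6, 6, 7, 3, 3, 3, 2, 2, 7, 2, 3, 6, 6, 7, 2, 7, 3, 3, 3, 6, 3, 2, 2, 7, 6, 3, 6, 6, 7, 3, 6, 3, 2, 2, 7] (sel (ones 7128) ip6 133) = true := by decide +kernel

theorem rot6_133r : band (Rule.ok (2 * 0) EX RL ⟨6 :: [3, 6, 6, 7, 3, 3, 3, 6, 3, 2, 2, 7, 6, 3, 6, 6, 7, 3, 3, 3, 2, 2, 7, 2, 3, 6, 6, 7, 2, 7, 3, 3, 3, 6, 3, 2, 2, 7, 6, 3, 6, 6, 7, 3, 6, 3, 2, 2, 7], [4, 3, 3, 4, 3, 5, 2, 2, 4, 3, 4, 4, 3, 3, 4, 3], 2, false⟩) (lall (memL L) [3, 6, 6, 7, 3, 3, 3, 6, 3, 2, 2, 7, 6, 3, 6, 6, 7, 3, 3, 3, 2, 2, 7, 2, 3, 6, 6, 7, 2, 7, 3, 3, 3, 6, 3, 2, 2, 7, 6, 3, 6, 6, 7, 3, 6, 3, 2, 2, 7]) = true := by decide +kernel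

theorem rot6_134 : T.rot 6 [6, 7, 3, 3, 3, 6, 3, 2, 2, 7, 6, 3, 6, 6, 7, 3, 3, 3, 2, 2, 7, 2, 3, 6, 6, 7, 2, 7, 3, 3, 3, 6, 3, 2, 2, 7, 6, 3, 6, 6, 7, 3, 6, 3, 2, 2, 7, 6, 3] (sel (ones 7128) ip6 134) = true := by decide +kernel

theorem rot6_134r : band (Rule.ok (2 * 0) EX RL ⟨6 :: [6, 7, 3, 3, 3, 6, 3, 2, 2, 7, 6, 3, 6, 6, 7, 3, 3, 3, 2, 2, 7, 2, 3, 6, 6, 7, 2, 7, 3, 3, 3, 6, 3, 2, 2, 7, 6, 3, 6, 6, 7, 3, 6, 3, 2, 2, 7, 6, 3], [4, 3, 3, 4, 3, 5, 2, 2, 4, 3, 4, 4, 3, 3], 2, false⟩) (lall (memL L) [6, 7, 3, 3, 3, 6, 3, 2, 2, 7, 6, 3, 6, 6, 7, 3, 3, 3, 2, 2, 7, 2, 3, 6, 6, 7, 2, 7, 3, 3, 3, 6, 3, 2, 2, 7, 6, 3, 6, 6, 7, 3, 6, 3, 2, 2, 7, 6, 3]) = true := by decide +kernel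

theorem rot6_135 : T.rot 6 [7, 3, 3, 3, 6, 3, 2, 2, 7, 6, 3, 6, 6, 7, 3, 3, 3, 2, 2, 7, 2, 3, 6, 6, 7, 2, 7, 3, 3, 3, 6, 3, 2, 2, 7, 6, 3, 6, 6, 7, 3, 6, 3, 2, 2, 7, 6, 3, 6] (sel (ones 7128) ip6 135) = true := by decide +kernel

theorem rot6_135r : band (Rule.ok (2 * 0) EX RL ⟨6 :: [7, 3, 3, 3, 6, 3, 2, 2, 7, 6, 3, 6, 6, 7, 3, 3, 3, 2, 2, 7, 2, 3, 6, 6, 7, 2, 7, 3, 3, 3, 6, 3, 2, 2, 7, 6, 3, 6, 6, 7, 3, 6, 3, 2, 2, 7, 6, 3, 6], [4, 3, 3, 4, 3, 5, 2, 2, 4, 3, 4, 4, 3], 2, false⟩) (lall (memL L) [7, 3, 3, 3, 6, 3, 2, 2, 7, 6, 3, 6, 6, 7, 3, 3, 3, 2, 2, 7, 2, 3, 6, 6, 7, 2, 7, 3, 3, 3, 6, 3, 2, 2, 7, 6, 3, 6, 6, 7, 3, 6, 3, 2, 2, 7, 6, 3, 6]) = true := by decide +kernel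

theorem rot6_136 : T.rot 6 [3, 2, 2, 7, 6, 3, 6, 6, 7, 3, 3, 3, 2, 2, 7, 2, 3, 6, 6, 7, 2, 7, 3, 3, 3, 6, 3, 2, 2, 7, 6, 3, 6, 6, 7, 3, 6, 3, 2, 2, 7, 6, 3, 6, 6, 7, 3, 3, 3] (sel (ones 7128) ip6 136) = true := by decide +kernel

theorem rot6_136r : band (Rule.ok (2 * 0) EX RL ⟨6 :: [3, 2, 2, 7, 6, 3, 6, 6, 7, 3, 3, 3, 2, 2, 7, 2, 3, 6, 6, 7, 2, 7, 3, 3, 3, 6, 3, 2, 2, 7, 6, 3, 6, 6, 7, 3, 6, 3, 2, 2, 7, 6, 3, 6, 6, 7, 3, 3, 3], [4, 3, 3, 4, 3, 5, 2, 2, 4, 3], 2, false⟩) (lall (memL L) [3, 2, 2, 7, 6, 3, 6, 6, 7, 3, 3, 3, 2, 2, 7, 2, 3, 6, 6, 7, 2, 7, 3, 3, 3, 6, 3, 2, 2, 7, 6, 3, 6, 6, 7, 3, 6, 3, 2, 2, 7, 6, 3, 6, 6, 7, 3, 3, 3]) = true := by decide +kernel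

theorem rot6_137 : T.rot 6 [3, 6, 6, 7, 3, 3, 3, 2, 2, 7, 2, 3, 6, 6, 7, 2, 7, 3, 3, 3, 6, 3, 2, 2, 7, 6, 3, 6, 6, 7, 3, 6, 3, 2, 2, 7, 6, 3, 6, 6, 7, 3, 3, 3, 6, 3, 2, 2, 7] (sel (ones 7128) ip6 137) = true := by decide +kernel

theorem rot6_137r : band (Rule.ok (2 * 0) EX RL ⟨6 :: [3, 6, 6, 7, 3, 3, 3, 2, 2, 7, 2, 3, 6, 6, 7, 2, 7, 3, 3, 3, 6, 3, 2, 2, 7, 6, 3, 6, 6, 7, 3, 6, 3, 2, 2, 7, 6, 3, 6, 6, 7, 3, 3, 3, 6, 3, 2, 2, 7], [4, 3, 3, 4, 3], 2, false⟩) (lall (memL L) [3, 6, 6, 7, 3, 3, 3, 2, 2, 7, 2, 3, 6, 6, 7, 2, 7, 3, 3, 3, 6, 3, 2, 2, 7, 6, 3, 6, 6, 7, 3, 6, 3, 2, 2, 7, 6, 3, 6, 6, 7, 3, 3, 3, 6, 3, 2, 2, 7]) = true := by decide +kernel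

theorem rot6_138 : T.rot 6 [6, 7, 3, 3, 3, 2, 2, 7, 2, 3, 6, 6, 7, 2, 7, 3, 3, 3, 6, 3, 2, 2, 7, 6, 3, 6, 6, 7, 3, 6, 3, 2, 2, 7, 6, 3, 6, 6, 7, 3, 3, 3, 6, 3, 2, 2, 7, 6, 3] (sel (ones 7128) ip6 138) = true := by decide +kernel

theorem rot6_138r : band (Rule.ok (2 * 0) EX RL ⟨6 :: [6, 7, 3, 3, 3, 2, 2, 7, 2, 3, 6, 6, 7, 2, 7, 3, 3, 3, 6, 3, 2, 2, 7, 6, 3, 6, 6, 7, 3, 6, 3, 2, 2, 7, 6, 3, 6, 6, 7, 3, 3, 3, 6, 3, 2, 2, 7, 6, 3], [4, 3, 3], 2, false⟩) (lall (memL L) [6, 7, 3, 3, 3, 2, 2, 7, 2, 3, 6, 6, 7, 2, 7, 3, 3, 3, 6, 3, 2, 2, 7, 6, 3, 6, 6, 7, 3, 6, 3, 2, 2, 7, 6, 3, 6, 6, 7, 3, 3, 3, 6, 3, 2, 2, 7, 6, 3]) = true := by decide +kernel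

theorem rot6_139 : T.rot 6 [7, 3, 3, 3, 2, 2, 7, 2, 3, 6, 6, 7, 2, 7, 3, 3, 3, 6, 3, 2, 2, 7, 6, 3, 6, 6, 7, 3, 6, 3, 2, 2, 7, 6, 3, 6, 6, 7, 3, 3, 3, 6, 3, 2, 2, 7, 6, 3, 6] (sel (ones 7128) ip6 139) = true := by decide +kernel

theorem rot6_139r : band (Rule.ok (2 * 0) EX RL ⟨6 :: [7, 3, 3, 3, 2, 2, 7, 2, 3, 6, 6, 7, 2, 7, 3, 3, 3, 6, 3, 2, 2, 7, 6, 3, 6, 6, 7, 3, 6, 3, 2, 2, 7, 6, 3, 6, 6, 7, 3, 3, 3, 6, 3, 2, 2, 7, 6, 3, 6], [4, 3], 2, false⟩) (lall (memL L) [7, 3, 3, 3, 2, 2, 7, 2, 3, 6, 6, 7, 2, 7, 3, 3, 3, 6, 3, 2, 2, 7, 6, 3, 6, 6, 7, 3, 6, 3, 2, 2, 7, 6, 3, 6, 6, 7, 3, 3, 3, 6, 3, 2, 2, 7, 6, 3, 6]) = true := by decide +kernel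

theorem cov6 : T.cover 6 [(sel (ones 7128) ip6 1), (sel (ones 7128) ip6 2), (sel (ones 7128) ip6 3), (sel (ones 7128) ip6 4), (sel (ones 7128) ip6 5), (sel (ones 7128) ip6 6), (sel (ones 7128) ip6 7), (sel (ones 7128) ip6 8), (sel (ones 7128) ip6 9), (sel (ones 7128) ip6 10), (sel (ones 7128) ip6 11), (sel (ones 7128) ip6 12), (sel (ones 7128) ip6 13), (sel (ones 7128) ip6 14), (sel (ones 7128) ip6 15), (sel (ones 7128) ip6 16), (sel (ones 7128) ip6 17), (sel (ones 7128) ip6 18), (sel (ones 7128) ip6 19), (sel (ones 7128) ip6 20), (sel (ones 7128) ip6 21), (sel (ones 7128) ip6 22), (sel (ones 7128) ip6 23), (sel (ones 7128) ip6 24), (sel (ones 7128) ip6 25), (sel (ones 7128) ip6 26), (sel (ones 7128) ip6 27), (sel (ones 7128) ip6 28), (sel (ones 7128)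 ip6 29), (sel (ones 7128) ip6 30), (sel (ones 7128) ip6 31), (sel (ones 7128) ip6 32), (sel (ones 7128) ip6 33), (sel (ones 7128) ip6 34), (sel (ones 7128) ip6 35), (sel (ones 7128) ip6 36), (sel (ones 7128) ip6 37), (sel (ones 7128) ip6 38), (sel (ones 7128) ip6 39), (sel (ones 7128) ip6 40), (sel (ones 7128) ip6 41), (sel (ones 7128) ip6 42), (sel (ones 7128) ip6 43), (sel (ones 7128) ip6 44), (sel (ones 7128) ip6 45), (sel (ones 7128) ip6 46), (sel (ones 7128) ip6 47), (sel (ones 7128) ip6 48), (sel (ones 7128) ip6 49), (sel (ones 7128) ip6 50), (sel (ones 7128) ip6 51), (sel (ones 7128) ip6 52), (sel (ones 7128) ip6 53), (sel (ones 7128) ip6 54), (sel (ones 7128) ip6 55), (sel (ones 7128) ip6 56), (sel (ones 7128) ip6 57), (sel (ones 7128) ip6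 58), (sel (ones 7128) ip6 59), (sel (ones 7128) ip6 60), (sel (ones 7128) ip6 61), (sel (ones 7128) ip6 62), (sel (ones 7128) ip6 63), (sel (ones 7128) ip6 64), (sel (ones 7128) ip6 65), (sel (ones 7128) ip6 66), (sel (ones 7128) ip6 67), (sel (ones 7128) ip6 68), (sel (ones 7128) ip6 69), (sel (ones 7128) ip6 70), (sel (ones 7128) ip6 71), (sel (ones 7128) ip6 72), (sel (ones 7128) ip6 73), (sel (ones 7128) ip6 74), (sel (ones 7128) ip6 75), (sel (ones 7128) ip6 76), (sel (ones 7128) ip6 77), (sel (ones 7128) ip6 78), (sel (ones 7128) ip6 79), (sel (ones 7128) ip6 80), (sel (ones 7128) ip6 81), (sel (ones 7128) ip6 82), (sel (ones 7128) ip6 83), (sel (ones 7128) ip6 84), (sel (ones 7128) ip6 85), (sel (ones 7128) ip6 86), (sel (ones 7128) ip6 87),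 (sel (ones 7128) ip6 88), (sel (ones 7128) ip6 89), (sel (ones 7128) ip6 90), (sel (ones 7128) ip6 91), (sel (ones 7128) ip6 92), (sel (ones 7128) ip6 93), (sel (ones 7128) ip6 94), (sel (ones 7128) ip6 95), (sel (ones 7128) ip6 96), (sel (ones 7128) ip6 97), (sel (ones 7128) ip6 98), (sel (ones 7128) ip6 99), (sel (ones 7128) ip6 100), (sel (ones 7128) ip6 101), (sel (ones 7128) ip6 102), (sel (ones 7128) ip6 103), (sel (ones 7128) ip6 104), (sel (ones 7128) ip6 105), (sel (ones 7128) ip6 106), (sel (ones 7128) ip6 107), (sel (ones 7128) ip6 108), (sel (ones 7128) ip6 109), (sel (ones 7128) ip6 110), (sel (ones 7128) ip6 111), (sel (ones 7128) ip6 112), (sel (ones 7128) ip6 113), (sel (ones 7128) ip6 114), (sel (ones 7128) ip6 115), (sel (ones 7128)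 ip6 116), (sel (ones 7128) ip6 117), (sel (ones 7128) ip6 118), (sel (ones 7128) ip6 119), (sel (ones 7128) ip6 120), (sel (ones 7128) ip6 121), (sel (ones 7128) ip6 122), (sel (ones 7128) ip6 123), (sel (ones 7128) ip6 124), (sel (ones 7128) ip6 125), (sel (ones 7128) ip6 126), (sel (ones 7128) ip6 127), (sel (ones 7128) ip6 128), (sel (ones 7128) ip6 129), (sel (ones 7128) ip6 130), (sel (ones 7128) ip6 131), (sel (ones 7128) ip6 132), (sel (ones 7128) ip6 133), (sel (ones 7128) ip6 134), (sel (ones 7128) ip6 135), (sel (ones 7128) ip6 136), (sel (ones 7128) ip6 137), (sel (ones 7128) ip6 138), (sel (ones 7128) ip6 139)] = true := by decide +kernel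

theorem tl6 : T.treeLt 13 6 = true := by decide +kernel

theorem rot7_1 : T.rot 7 [3] (sel (ones 7128) ip7 1) = true := by decide +kernel

theorem rot7_1r : band (Rule.ok (2 * 0) EX RL ⟨7 :: [3], [], 29, false⟩) (lall (memL L) [3]) = true := by decide +kernel

theorem rot7_2 : T.rot 7 [7, 7, 7] (sel (ones 7128) ip7 2) = true := by decide +kernel

theorem rot7_2r : band (Rule.ok (2 * 0) EX RL ⟨7 :: [7, 7, 7], [], 5, true⟩) (lall (memL L) [7, 7, 7]) = true := by decide +kernel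

theorem rot7_3 : T.rot 7 [1, 7, 1] (sel (ones 7128) ip7 3) = true := by decide +kernel

theorem rot7_3r : band (Rule.ok (2 * 0) EX RL ⟨7 :: [1, 7, 1], [5], 11, true⟩) (lall (memL L) [1, 7, 1]) = true := by decide +kernel

theorem rot7_4 : T.rot 7 [5, 7, 5] (sel (ones 7128) ip7 4) = true := by decide +kernel

theorem rot7_4r : band (Rule.ok (2 * 0) EX RL ⟨7 :: [5, 7, 5], [], 13, false⟩) (lall (memL L) [5, 7, 5]) = true := by decide +kernel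

theorem rot7_5 : T.rot 7 [7, 1, 1, 1, 1] (sel (ones 7128) ip7 5) = true := by decide +kernel

theorem rot7_5r : band (Rule.ok (2 * 0) EX RL ⟨7 :: [7, 1, 1, 1, 1], [5, 5], 12, true⟩) (lall (memL L) [7, 1, 1, 1, 1]) = true := by decide +kernel

theorem rot7_6 : T.rot 7 [1, 1, 1, 1, 7] (sel (ones 7128) ip7 6) = true := by decide +kernel

theorem rot7_6r : band (Rule.ok (2 * 0) EX RL ⟨7 :: [1, 1, 1, 1, 7], [5], 12, true⟩) (lall (memL L) [1, 1, 1, 1, 7]) = true := by decide +kernel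

theorem rot7_7 : T.rot 7 [7, 8, 3, 3, 4] (sel (ones 7128) ip7 7) = true := by decide +kernel

theorem rot7_7r : band (Rule.ok (2 * 0) EX RL ⟨7 :: [7, 8, 3, 3, 4], [5, 7], 14, true⟩) (lall (memL L) [7, 8, 3, 3, 4]) = true := by decide +kernel

theorem rot7_8 : T.rot 7 [8, 3, 3, 4, 7] (sel (ones 7128) ip7 8) = true := by decide +kernel

theorem rot7_8r : band (Rule.ok (2 * 0) EX RL ⟨7 :: [8, 3, 3, 4, 7], [4, 7, 5], 14, true⟩) (lall (memL L) [8, 3, 3, 4, 7]) = true := by decide +kernel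

theorem rot7_9 : T.rot 7 [4, 3, 3, 8, 7] (sel (ones 7128) ip7 9) = true := by decide +kernel

theorem rot7_9r : band (Rule.ok (2 * 0) EX RL ⟨7 :: [4, 3, 3, 8, 7], [], 14, false⟩) (lall (memL L) [4, 3, 3, 8, 7]) = true := by decide +kernel

theorem rot7_10 : T.rot 7 [7, 4, 3, 3, 8] (sel (ones 7128) ip7 10) = true := by decide +kernel

theorem rot7_10r : band (Rule.ok (2 * 0) EX RL ⟨7 :: [7, 4, 3, 3, 8], [5], 14, false⟩) (lall (memL L) [7, 4, 3, 3, 8]) = true := by decide +kernel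

theorem rot7_11 : T.rot 7 [7, 8, 5, 5, 8] (sel (ones 7128) ip7 11) = true := by decide +kernel

theorem rot7_11r : band (Rule.ok (2 * 0) EX RL ⟨7 :: [7, 8, 5, 5, 8], [0, 6], 18, true⟩) (lall (memL L) [7, 8, 5, 5, 8]) = true := by decide +kernel

theorem rot7_12 : T.rot 7 [8, 5, 5, 8, 7] (sel (ones 7128) ip7 12) = true := by decide +kernel

theorem rot7_12r : band (Rule.ok (2 * 0) EX RL ⟨7 :: [8, 5, 5, 8, 7], [1, 7, 5], 18, true⟩) (lall (memL L) [8, 5, 5, 8, 7]) = true := by decide +kernel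

theorem rot7_13 : T.rot 7 [8, 8, 7, 4, 4] (sel (ones 7128) ip7 13) = true := by decide +kernel

theorem rot7_13r : band (Rule.ok (2 * 0) EX RL ⟨7 :: [8, 8, 7, 4, 4], [7], 20, false⟩) (lall (memL L) [8, 8, 7, 4, 4]) = true := by decide +kernel

theorem rot7_14 : T.rot 7 [4, 4, 7, 8, 8] (sel (ones 7128) ip7 14) = true := by decide +kernel

theorem rot7_14r : band (Rule.ok (2 * 0) EX RL ⟨7 :: [4, 4, 7, 8, 8], [6, 5], 20, false⟩) (lall (memL L) [4, 4, 7, 8, 8]) = true := by decide +kernel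

theorem rot7_15 : T.rot 7 [1, 3, 6, 8, 6, 8, 6, 5, 2] (sel (ones 7128) ip7 15) = true := by decide +kernel

theorem rot7_15r : band (Rule.ok (2 * 0) EX RL ⟨7 :: [1, 3, 6, 8, 6, 8, 6, 5, 2], [5], 24, true⟩) (lall (memL L) [1, 3, 6, 8, 6, 8, 6, 5, 2]) = true := by decide +kernel

theorem rot7_16 : T.rot 7 [5, 3, 6, 1, 2, 4, 2, 4, 2] (sel (ones 7128) ip7 16) = true := by decide +kernel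

theorem rot7_16r : band (Rule.ok (2 * 0) EX RL ⟨7 :: [5, 3, 6, 1, 2, 4, 2, 4, 2], [1, 5], 24, false⟩) (lall (memL L) [5, 3, 6, 1, 2, 4, 2, 4, 2]) = true := by decide +kernel

theorem rot7_17 : T.rot 7 [1, 3, 2, 8, 2, 1, 8, 6, 5, 8] (sel (ones 7128) ip7 17) = true := by decide +kernel

theorem rot7_17r : band (Rule.ok (2 * 0) EX RL ⟨7 :: [1, 3, 2, 8, 2, 1, 8, 6, 5, 8], [5], 21, true⟩) (lall (memL L) [1, 3, 2, 8, 2, 1, 8, 6, 5, 8]) = true := by decide +kernel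

theorem rot7_18 : T.rot 7 [5, 3, 4, 1, 2, 4, 5, 6, 4, 6] (sel (ones 7128) ip7 18) = true := by decide +kernel

theorem rot7_18r : band (Rule.ok (2 * 0) EX RL ⟨7 :: [5, 3, 4, 1, 2, 4, 5, 6, 4, 6], [1, 5], 21, false⟩) (lall (memL L) [5, 3, 4, 1, 2, 4, 5, 6, 4, 6]) = true := by decide +kernel

theorem rot7_19 : T.rot 7 [7, 2, 7, 7, 2, 7, 7, 6, 7, 7, 6] (sel (ones 7128) ip7 19) = true := by decide +kernel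

theorem rot7_19r : band (Rule.ok (2 * 0) EX RL ⟨7 :: [7, 2, 7, 7, 2, 7, 7, 6, 7, 7, 6], [], 4, true⟩) (lall (memL L) [7, 2, 7, 7, 2, 7, 7, 6, 7, 7, 6]) = true := by decide +kernel

theorem rot7_20 : T.rot 7 [2, 7, 7, 2, 7, 7, 6, 7, 7, 6, 7] (sel (ones 7128) ip7 20) = true := by decide +kernel

theorem rot7_20r : band (Rule.ok (2 * 0) EX RL ⟨7 :: [2, 7, 7, 2, 7, 7, 6, 7, 7, 6, 7], [4], 4, true⟩) (lall (memL L) [2, 7, 7, 2, 7, 7, 6, 7, 7, 6, 7]) = true := by decide +kernel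

theorem rot7_21 : T.rot 7 [7, 2, 7, 7, 6, 7, 7, 6, 7, 7, 2] (sel (ones 7128) ip7 21) = true := by decide +kernel

theorem rot7_21r : band (Rule.ok (2 * 0) EX RL ⟨7 :: [7, 2, 7, 7, 6, 7, 7, 6, 7, 7, 2], [4, 4, 3], 4, true⟩) (lall (memL L) [7, 2, 7, 7, 6, 7, 7, 6, 7, 7, 2]) = true := by decide +kernel

theorem rot7_22 : T.rot 7 [2, 7, 7, 6, 7, 7, 6, 7, 7, 2, 7] (sel (ones 7128) ip7 22) = true := by decide +kernel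

theorem rot7_22r : band (Rule.ok (2 * 0) EX RL ⟨7 :: [2, 7, 7, 6, 7, 7, 6, 7, 7, 2, 7], [4, 4, 3, 4], 4, true⟩) (lall (memL L) [2, 7, 7, 6, 7, 7, 6, 7, 7, 2, 7]) = true := by decide +kernel

theorem rot7_23 : T.rot 7 [7, 6, 7, 7, 6, 7, 7, 2, 7, 7, 2] (sel (ones 7128) ip7 23) = true := by decide +kernel

theorem rot7_23r : band (Rule.ok (2 * 0) EX RL ⟨7 :: [7, 6, 7, 7, 6, 7, 7, 2, 7, 7, 2], [3, 5, 5, 3, 5, 5], 4, true⟩) (lall (memL L) [7, 6, 7, 7, 6, 7, 7, 2, 7, 7, 2]) = true := by decide +kernel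

theorem rot7_24 : T.rot 7 [6, 7, 7, 6, 7, 7, 2, 7, 7, 2, 7] (sel (ones 7128) ip7 24) = true := by decide +kernel

theorem rot7_24r : band (Rule.ok (2 * 0) EX RL ⟨7 :: [6, 7, 7, 6, 7, 7, 2, 7, 7, 2, 7], [3, 5, 5, 3, 5], 4, true⟩) (lall (memL L) [6, 7, 7, 6, 7, 7, 2, 7, 7, 2, 7]) = true := by decide +kernel

theorem rot7_25 : T.rot 7 [7, 6, 7, 7, 2, 7, 7, 2, 7, 7, 6] (sel (ones 7128) ip7 25) = true := by decide +kernel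

theorem rot7_25r : band (Rule.ok (2 * 0) EX RL ⟨7 :: [7, 6, 7, 7, 2, 7, 7, 2, 7, 7, 6], [3, 5, 5], 4, true⟩) (lall (memL L) [7, 6, 7, 7, 2, 7, 7, 2, 7, 7, 6]) = true := by decide +kernel

theorem rot7_26 : T.rot 7 [6, 7, 7, 2, 7, 7, 2, 7, 7, 6, 7] (sel (ones 7128) ip7 26) = true := by decide +kernel

theorem rot7_26r : band (Rule.ok (2 * 0) EX RL ⟨7 :: [6, 7, 7, 2, 7, 7, 2, 7, 7, 6, 7], [3, 5], 4, true⟩) (lall (memL L) [6, 7, 7, 2, 7, 7, 2, 7, 7, 6, 7]) = true := by decide +kernel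

theorem rot7_27 : T.rot 7 [6, 3, 2, 7, 6, 3, 2, 7, 6, 3, 2] (sel (ones 7128) ip7 27) = true := by decide +kernel

theorem rot7_27r : band (Rule.ok (2 * 0) EX RL ⟨7 :: [6, 3, 2, 7, 6, 3, 2, 7, 6, 3, 2], [3, 5], 9, true⟩) (lall (memL L) [6, 3, 2, 7, 6, 3, 2, 7, 6, 3, 2]) = true := by decide +kernel

theorem rot7_28 : T.rot 7 [2, 3, 6, 7, 2, 3, 6, 7, 2, 3, 6] (sel (ones 7128) ip7 28) = true := by decide +kernel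

theorem rot7_28r : band (Rule.ok (2 * 0) EX RL ⟨7 :: [2, 3, 6, 7, 2, 3, 6, 7, 2, 3, 6], [5], 9, false⟩) (lall (memL L) [2, 3, 6, 7, 2, 3, 6, 7, 2, 3, 6]) = true := by decide +kernel

theorem rot7_29 : T.rot 7 [1, 3, 4, 2, 1, 4, 2, 2, 1, 4, 6] (sel (ones 7128) ip7 29) = true := by decide +kernel

theorem rot7_29r : band (Rule.ok (2 * 0) EX RL ⟨7 :: [1, 3, 4, 2, 1, 4, 2, 2, 1, 4, 6], [5], 23, true⟩) (lall (memL L) [1, 3, 4, 2, 1, 4, 2, 2, 1, 4, 6]) = true := by decide +kernel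

theorem rot7_30 : T.rot 7 [5, 3, 2, 8, 5, 6, 6, 8, 5, 6, 8] (sel (ones 7128) ip7 30) = true := by decide +kernel

theorem rot7_30r : band (Rule.ok (2 * 0) EX RL ⟨7 :: [5, 3, 2, 8, 5, 6, 6, 8, 5, 6, 8], [1, 5], 23, false⟩) (lall (memL L) [5, 3, 2, 8, 5, 6, 6, 8, 5, 6, 8]) = true := by decide +kernel

theorem rot7_31 : T.rot 7 [1, 3, 2, 1, 1, 4, 2, 4, 6, 1, 2] (sel (ones 7128) ip7 31) = true := by decide +kernel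

theorem rot7_31r : band (Rule.ok (2 * 0) EX RL ⟨7 :: [1, 3, 2, 1, 1, 4, 2, 4, 6, 1, 2], [5], 25, true⟩) (lall (memL L) [1, 3, 2, 1, 1, 4, 2, 4, 6, 1, 2]) = true := by decide +kernel

theorem rot7_32 : T.rot 7 [5, 3, 6, 5, 2, 8, 6, 8, 5, 5, 6] (sel (ones 7128) ip7 32) = true := by decide +kernel

theorem rot7_32r : band (Rule.ok (2 * 0) EX RL ⟨7 :: [5, 3, 6, 5, 2, 8, 6, 8, 5, 5, 6], [1, 5], 25, false⟩) (lall (memL L) [5, 3, 6, 5, 2, 8, 6, 8, 5, 5, 6]) = true := by decide +kernel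

theorem rot7_33 : T.rot 7 [2, 2, 3, 6, 6, 3, 6, 7, 2, 1, 6] (sel (ones 7128) ip7 33) = true := by decide +kernel

theorem rot7_33r : band (Rule.ok (2 * 0) EX RL ⟨7 :: [2, 2, 3, 6, 6, 3, 6, 7, 2, 1, 6], [1, 2], 26, true⟩) (lall (memL L) [2, 2, 3, 6, 6, 3, 6, 7, 2, 1, 6]) = true := by decide +kernel

theorem rot7_34 : T.rot 7 [2, 1, 6, 7, 2, 2, 3, 6, 6, 3, 6] (sel (ones 7128) ip7 34) = true := by decide +kernel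

theorem rot7_34r : band (Rule.ok (2 * 0) EX RL ⟨7 :: [2, 1, 6, 7, 2, 2, 3, 6, 6, 3, 6], [2, 5], 26, true⟩) (lall (memL L) [2, 1, 6, 7, 2, 2, 3, 6, 6, 3, 6]) = true := by decide +kernel

theorem rot7_35 : T.rot 7 [2, 2, 7, 6, 6, 3, 2, 5, 6, 3, 2] (sel (ones 7128) ip7 35) = true := by decide +kernel

theorem rot7_35r : band (Rule.ok (2 * 0) EX RL ⟨7 :: [2, 2, 7, 6, 6, 3, 2, 5, 6, 3, 2], [2, 5, 3], 26, false⟩) (lall (memL L) [2, 2, 7, 6, 6, 3, 2, 5, 6, 3, 2]) = true := by decide +kernel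

theorem rot7_36 : T.rot 7 [6, 6, 3, 2, 5, 6, 3, 2, 7, 2, 2] (sel (ones 7128) ip7 36) = true := by decide +kernel

theorem rot7_36r : band (Rule.ok (2 * 0) EX RL ⟨7 :: [6, 6, 3, 2, 5, 6, 3, 2, 7, 2, 2], [1, 2, 4, 3, 3, 5], 26, false⟩) (lall (memL L) [6, 6, 3, 2, 5, 6, 3, 2, 7, 2, 2]) = true := by decide +kernel

theorem rot7_37 : T.rot 7 [2, 7, 6, 1, 6, 3, 2, 4, 6, 4, 6] (sel (ones 7128) ip7 37) = true := by decide +kernel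

theorem rot7_37r : band (Rule.ok (2 * 0) EX RL ⟨7 :: [2, 7, 6, 1, 6, 3, 2, 4, 6, 4, 6], [7, 2], 27, true⟩) (lall (memL L) [2, 7, 6, 1, 6, 3, 2, 4, 6, 4, 6]) = true := by decide +kernel

theorem rot7_38 : T.rot 7 [6, 1, 6, 3, 2, 4, 6, 4, 6, 7, 2] (sel (ones 7128) ip7 38) = true := by decide +kernel

theorem rot7_38r : band (Rule.ok (2 * 0) EX RL ⟨7 :: [6, 1, 6, 3, 2, 4, 6, 4, 6, 7, 2], [7, 2, 4, 3], 27, true⟩) (lall (memL L) [6, 1, 6, 3, 2, 4, 6, 4, 6, 7, 2]) = true := by decide +kernel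

theorem rot7_39 : T.rot 7 [2, 5, 2, 3, 6, 3, 2, 8, 2, 8, 6] (sel (ones 7128) ip7 39) = true := by decide +kernel

theorem rot7_39r : band (Rule.ok (2 * 0) EX RL ⟨7 :: [2, 5, 2, 3, 6, 3, 2, 8, 2, 8, 6], [3, 6, 2], 27, false⟩) (lall (memL L) [2, 5, 2, 3, 6, 3, 2, 8, 2, 8, 6]) = true := by decide +kernel

theorem rot7_40 : T.rot 7 [2, 2, 3, 2, 7, 2, 2, 3, 3, 2, 3, 2, 3, 2, 2] (sel (ones 7128) ip7 40) = true := by decide +kernel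

theorem rot7_40r : band (Rule.ok (2 * 0) EX RL ⟨7 :: [2, 2, 3, 2, 7, 2, 2, 3, 3, 2, 3, 2, 3, 2, 2], [5, 3, 5, 3, 3], 8, true⟩) (lall (memL L) [2, 2, 3, 2, 7, 2, 2, 3, 3, 2, 3, 2, 3, 2, 2]) = true := by decide +kernel

theorem rot7_41 : T.rot 7 [2, 2, 3, 3, 2, 3, 2, 3, 2, 2, 7, 2, 2, 3, 2] (sel (ones 7128) ip7 41) = true := by decide +kernel

theorem rot7_41r : band (Rule.ok (2 * 0) EX RL ⟨7 :: [2, 2, 3, 3, 2, 3, 2, 3, 2, 2, 7, 2, 2, 3, 2], [2, 4, 4, 2, 2, 5], 8, true⟩) (lall (memL L) [2, 2, 3, 3, 2, 3, 2, 3, 2, 2, 7, 2, 2, 3, 2]) = true := by decide +kernel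

theorem rot7_42 : T.rot 7 [7, 6, 6, 3, 6, 7, 6, 6, 3, 6, 6, 7, 6, 7, 6] (sel (ones 7128) ip7 42) = true := by decide +kernel

theorem rot7_42r : band (Rule.ok (2 * 0) EX RL ⟨7 :: [7, 6, 6, 3, 6, 7, 6, 6, 3, 6, 6, 7, 6, 7, 6], [2], 8, false⟩) (lall (memL L) [7, 6, 6, 3, 6, 7, 6, 6, 3, 6, 6, 7, 6, 7, 6]) = true := by decide +kernel

theorem rot7_43 : T.rot 7 [6, 6, 3, 6, 7, 6, 6, 3, 6, 6, 7, 6, 7, 6, 7] (sel (ones 7128) ip7 43) = true := by decide +kernel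

theorem rot7_43r : band (Rule.ok (2 * 0) EX RL ⟨7 :: [6, 6, 3, 6, 7, 6, 6, 3, 6, 6, 7, 6, 7, 6, 7], [2, 4], 8, false⟩) (lall (memL L) [6, 6, 3, 6, 7, 6, 6, 3, 6, 6, 7, 6, 7, 6, 7]) = true := by decide +kernel

theorem rot7_44 : T.rot 7 [6, 6, 3, 6, 6, 7, 6, 7, 6, 7, 7, 6, 6, 3, 6] (sel (ones 7128) ip7 44) = true := by decide +kernel

theorem rot7_44r : band (Rule.ok (2 * 0) EX RL ⟨7 :: [6, 6, 3, 6, 6, 7, 6, 7, 6, 7, 7, 6, 6, 3, 6], [2, 4, 4, 2, 2, 5, 2], 8, false⟩) (lall (memL L) [6, 6, 3, 6, 6, 7, 6, 7, 6, 7, 7, 6, 6, 3, 6]) = true := by decide +kernel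

theorem rot7_45 : T.rot 7 [6, 7, 6, 7, 7, 6, 6, 3, 6, 7, 6, 6, 3, 6, 6] (sel (ones 7128) ip7 45) = true := by decide +kernel

theorem rot7_45r : band (Rule.ok (2 * 0) EX RL ⟨7 :: [6, 7, 6, 7, 7, 6, 6, 3, 6, 7, 6, 6, 3, 6, 6], [5, 3, 5], 8, false⟩) (lall (memL L) [6, 7, 6, 7, 7, 6, 6, 3, 6, 7, 6, 6, 3, 6, 6]) = true := by decide +kernel

theorem rot7_46 : T.rot 7 [6, 7, 7, 6, 6, 3, 6, 7, 6, 6, 3, 6, 6, 7, 6] (sel (ones 7128) ip7 46) = true := by decide +kernel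

theorem rot7_46r : band (Rule.ok (2 * 0) EX RL ⟨7 :: [6, 7, 7, 6, 6, 3, 6, 7, 6, 6, 3, 6, 6, 7, 6], [5], 8, false⟩) (lall (memL L) [6, 7, 7, 6, 6, 3, 6, 7, 6, 6, 3, 6, 6, 7, 6]) = true := by decide +kernel

theorem rot7_47 : T.rot 7 [4, 2, 1, 2, 7, 8, 7, 2, 2, 7, 2, 2, 4, 1, 3, 2, 8, 2] (sel (ones 7128) ip7 47) = true := by decide +kernel

theorem rot7_47r : band (Rule.ok (2 * 0) EX RL ⟨7 :: [4, 2, 1, 2, 7, 8, 7, 2, 2, 7, 2, 2, 4, 1, 3, 2, 8, 2], [7, 1, 5, 3, 6, 3], 28, true⟩) (lall (memL L) [4, 2, 1, 2, 7, 8, 7, 2, 2, 7, 2, 2, 4, 1, 3, 2, 8, 2]) = true := by decide +kernel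

theorem rot7_48 : T.rot 7 [8, 7, 2, 2, 7, 2, 2, 4, 1, 3, 2, 8, 2, 7, 4, 2, 1, 2] (sel (ones 7128) ip7 48) = true := by decide +kernel

theorem rot7_48r : band (Rule.ok (2 * 0) EX RL ⟨7 :: [8, 7, 2, 2, 7, 2, 2, 4, 1, 3, 2, 8, 2, 7, 4, 2, 1, 2], [2, 2, 5, 2, 2, 5, 7, 5], 28, true⟩) (lall (memL L) [8, 7, 2, 2, 7, 2, 2, 4, 1, 3, 2, 8, 2, 7, 4, 2, 1, 2]) = true := by decide +kernel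

theorem rot7_49 : T.rot 7 [2, 2, 7, 2, 2, 4, 1, 3, 2, 8, 2, 7, 4, 2, 1, 2, 7, 8] (sel (ones 7128) ip7 49) = true := by decide +kernel

theorem rot7_49r : band (Rule.ok (2 * 0) EX RL ⟨7 :: [2, 2, 7, 2, 2, 4, 1, 3, 2, 8, 2, 7, 4, 2, 1, 2, 7, 8], [2, 2, 5, 2, 2, 5], 28, true⟩) (lall (memL L) [2, 2, 7, 2, 2, 4, 1, 3, 2, 8, 2, 7, 4, 2, 1, 2, 7, 8]) = true := by decide +kernel

theorem rot7_50 : T.rot 7 [2, 2, 4, 1, 3, 2, 8, 2, 7, 4, 2, 1, 2, 7, 8, 7, 2, 2] (sel (ones 7128) ip7 50) = true := by decide +kernel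

theorem rot7_50r : band (Rule.ok (2 * 0) EX RL ⟨7 :: [2, 2, 4, 1, 3, 2, 8, 2, 7, 4, 2, 1, 2, 7, 8, 7, 2, 2], [2, 2, 5], 28, true⟩) (lall (memL L) [2, 2, 4, 1, 3, 2, 8, 2, 7, 4, 2, 1, 2, 7, 8, 7, 2, 2]) = true := by decide +kernel

theorem rot7_51 : T.rot 7 [5, 8, 6, 6, 3, 6, 6, 3, 4, 3, 6, 5, 6, 8, 3, 6, 4, 6] (sel (ones 7128) ip7 51) = true := by decide +kernel

theorem rot7_51r : band (Rule.ok (2 * 0) EX RL ⟨7 :: [5, 8, 6, 6, 3, 6, 6, 3, 4, 3, 6, 5, 6, 8, 3, 6, 4, 6], [7, 1, 5], 28, false⟩) (lall (memL L) [5, 8, 6, 6, 3, 6, 6, 3, 4, 3, 6, 5, 6, 8, 3, 6, 4, 6]) = true := by decide +kernel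

theorem rot7_52 : T.rot 7 [6, 3, 6, 3, 2, 7, 3, 6, 3, 2, 2, 7, 6, 3, 6, 6, 7, 3, 2, 3, 3, 2, 2] (sel (ones 7128) ip7 52) = true := by decide +kernel

theorem rot7_52r : band (Rule.ok (2 * 0) EX RL ⟨7 :: [6, 3, 6, 3, 2, 7, 3, 6, 3, 2, 2, 7, 6, 3, 6, 6, 7, 3, 2, 3, 3, 2, 2], [5, 3, 3, 4, 3, 5], 7, true⟩) (lall (memL L) [6, 3, 6, 3, 2, 7, 3, 6, 3, 2, 2, 7, 6, 3, 6, 6, 7, 3, 2, 3, 3, 2, 2]) = true := by decide +kernel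

theorem rot7_53 : T.rot 7 [6, 3, 6, 6, 7, 3, 2, 3, 3, 2, 2, 7, 6, 3, 6, 3, 2, 7, 3, 6, 3, 2, 2] (sel (ones 7128) ip7 53) = true := by decide +kernel

theorem rot7_53r : band (Rule.ok (2 * 0) EX RL ⟨7 :: [6, 3, 6, 6, 7, 3, 2, 3, 3, 2, 2, 7, 6, 3, 6, 3, 2, 7, 3, 6, 3, 2, 2], [5, 3, 3, 4, 3, 5], 7, true⟩) (lall (memL L) [6, 3, 6, 6, 7, 3, 2, 3, 3, 2, 2, 7, 6, 3, 6, 3, 2, 7, 3, 6, 3, 2, 2]) = true := by decide +kernel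

theorem rot7_54 : T.rot 7 [2, 3, 6, 6, 7, 2, 7, 3, 6, 7, 2, 7, 2, 3, 6, 6, 7, 7, 6, 7, 3, 2, 2] (sel (ones 7128) ip7 54) = true := by decide +kernel

theorem rot7_54r : band (Rule.ok (2 * 0) EX RL ⟨7 :: [2, 3, 6, 6, 7, 2, 7, 3, 6, 7, 2, 7, 2, 3, 6, 6, 7, 7, 6, 7, 3, 2, 2], [5, 3, 3], 7, false⟩) (lall (memL L) [2, 3, 6, 6, 7, 2, 7, 3, 6, 7, 2, 7, 2, 3, 6, 6, 7, 7, 6, 7, 3, 2, 2]) = true := by decide +kernel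

theorem rot7_55 : T.rot 7 [2, 7, 3, 6, 7, 2, 7, 2, 3, 6, 6, 7, 7, 6, 7, 3, 2, 2, 7, 2, 3, 6, 6] (sel (ones 7128) ip7 55) = true := by decide +kernel

theorem rot7_55r : band (Rule.ok (2 * 0) EX RL ⟨7 :: [2, 7, 3, 6, 7, 2, 7, 2, 3, 6, 6, 7, 7, 6, 7, 3, 2, 2, 7, 2, 3, 6, 6], [5, 3, 5, 5], 7, false⟩) (lall (memL L) [2, 7, 3, 6, 7, 2, 7, 2, 3, 6, 6, 7, 7, 6, 7, 3, 2, 2, 7, 2, 3, 6, 6]) = true := by decide +kernel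

theorem rot7_56 : T.rot 7 [2, 7, 2, 3, 6, 6, 7, 7, 6, 7, 3, 2, 2, 7, 2, 3, 6, 6, 7, 2, 7, 3, 6] (sel (ones 7128) ip7 56) = true := by decide +kernel

theorem rot7_56r : band (Rule.ok (2 * 0) EX RL ⟨7 :: [2, 7, 2, 3, 6, 6, 7, 7, 6, 7, 3, 2, 2, 7, 2, 3, 6, 6, 7, 2, 7, 3, 6], [5, 3, 5], 7, false⟩) (lall (memL L) [2, 7, 2, 3, 6, 6, 7, 7, 6, 7, 3, 2, 2, 7, 2, 3, 6, 6, 7, 2, 7, 3, 6]) = true := by decide +kernel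

theorem rot7_57 : T.rot 7 [2, 3, 6, 6, 7, 7, 6, 7, 3, 2, 2, 7, 2, 3, 6, 6, 7, 2, 7, 3, 6, 7, 2] (sel (ones 7128) ip7 57) = true := by decide +kernel

theorem rot7_57r : band (Rule.ok (2 * 0) EX RL ⟨7 :: [2, 3, 6, 6, 7, 7, 6, 7, 3, 2, 2, 7, 2, 3, 6, 6, 7, 2, 7, 3, 6, 7, 2], [5, 3, 3], 7, false⟩) (lall (memL L) [2, 3, 6, 6, 7, 7, 6, 7, 3, 2, 2, 7, 2, 3, 6, 6, 7, 2, 7, 3, 6, 7, 2]) = true := by decide +kernel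

theorem rot7_58 : T.rot 7 [7, 6, 7, 3, 2, 2, 7, 2, 3, 6, 6, 7, 2, 7, 3, 6, 7, 2, 7, 2, 3, 6, 6] (sel (ones 7128) ip7 58) = true := by decide +kernel

theorem rot7_58r : band (Rule.ok (2 * 0) EX RL ⟨7 :: [7, 6, 7, 3, 2, 2, 7, 2, 3, 6, 6, 7, 2, 7, 3, 6, 7, 2, 7, 2, 3, 6, 6], [5, 3, 5, 5], 7, false⟩) (lall (memL L) [7, 6, 7, 3, 2, 2, 7, 2, 3, 6, 6, 7, 2, 7, 3, 6, 7, 2, 7, 2, 3, 6, 6]) = true := by decide +kernel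

theorem rot7_59 : T.rot 7 [6, 7, 3, 2, 2, 7, 2, 3, 6, 6, 7, 2, 7, 3, 6, 7, 2, 7, 2, 3, 6, 6, 7] (sel (ones 7128) ip7 59) = true := by decide +kernel

theorem rot7_59r : band (Rule.ok (2 * 0) EX RL ⟨7 :: [6, 7, 3, 2, 2, 7, 2, 3, 6, 6, 7, 2, 7, 3, 6, 7, 2, 7, 2, 3, 6, 6, 7], [5, 3, 5], 7, false⟩) (lall (memL L) [6, 7, 3, 2, 2, 7, 2, 3, 6, 6, 7, 2, 7, 3, 6, 7, 2, 7, 2, 3, 6, 6, 7]) = true := by decide +kernel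

theorem rot7_60 : T.rot 7 [7, 2, 2, 7, 7, 3, 6, 3, 2, 2, 7, 6, 3, 6, 6, 7, 2, 3, 2, 2, 7, 2, 3, 6, 6, 7, 2, 7] (sel (ones 7128) ip7 60) = true := by decide +kernel

theorem rot7_60r : band (Rule.ok (2 * 0) EX RL ⟨7 :: [7, 2, 2, 7, 7, 3, 6, 3, 2, 2, 7, 6, 3, 6, 6, 7, 2, 3, 2, 2, 7, 2, 3, 6, 6, 7, 2, 7], [], 1, true⟩) (lall (memL L) [7, 2, 2, 7, 7, 3, 6, 3, 2, 2, 7, 6, 3, 6, 6, 7, 2, 3, 2, 2, 7, 2, 3, 6, 6, 7, 2, 7]) = true := by decide +kernel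

theorem rot7_61 : T.rot 7 [2, 2, 7, 7, 3, 6, 3, 2, 2, 7, 6, 3, 6, 6, 7, 2, 3, 2, 2, 7, 2, 3, 6, 6, 7, 2, 7, 7] (sel (ones 7128) ip7 61) = true := by decide +kernel

theorem rot7_61r : band (Rule.ok (2 * 0) EX RL ⟨7 :: [2, 2, 7, 7, 3, 6, 3, 2, 2, 7, 6, 3, 6, 6, 7, 2, 3, 2, 2, 7, 2, 3, 6, 6, 7, 2, 7, 7], [4], 1, true⟩) (lall (memL L) [2, 2, 7, 7, 3, 6, 3, 2, 2, 7, 6, 3, 6, 6, 7, 2, 3, 2, 2, 7, 2, 3, 6, 6, 7, 2, 7, 7]) = true := by decide +kernel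

theorem rot7_62 : T.rot 7 [7, 3, 6, 3, 2, 2, 7, 6, 3, 6, 6, 7, 2, 3, 2, 2, 7, 2, 3, 6, 6, 7, 2, 7, 7, 7, 2, 2] (sel (ones 7128) ip7 62) = true := by decide +kernel

theorem rot7_62r : band (Rule.ok (2 * 0) EX RL ⟨7 :: [7, 3, 6, 3, 2, 2, 7, 6, 3, 6, 6, 7, 2, 3, 2, 2, 7, 2, 3, 6, 6, 7, 2, 7, 7, 7, 2, 2], [4, 4, 3, 3], 1, true⟩) (lall (memL L) [7, 3, 6, 3, 2, 2, 7, 6, 3, 6, 6, 7, 2, 3, 2, 2, 7, 2, 3, 6, 6, 7, 2, 7, 7, 7, 2, 2]) = true := by decide +kernel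

theorem rot7_63 : T.rot 7 [6, 3, 6, 6, 7, 2, 3, 2, 2, 7, 2, 3, 6, 6, 7, 2, 7, 7, 7, 2, 2, 7, 7, 3, 6, 3, 2, 2] (sel (ones 7128) ip7 63) = true := by decide +kernel

theorem rot7_63r : band (Rule.ok (2 * 0) EX RL ⟨7 :: [6, 3, 6, 6, 7, 2, 3, 2, 2, 7, 2, 3, 6, 6, 7, 2, 7, 7, 7, 2, 2, 7, 7, 3, 6, 3, 2, 2], [4, 4, 3, 3, 4, 2, 5, 3, 3], 1, true⟩) (lall (memL L) [6, 3, 6, 6, 7, 2, 3, 2, 2, 7, 2, 3, 6, 6, 7, 2, 7, 7, 7, 2, 2, 7, 7, 3, 6, 3, 2, 2]) = true := by decide +kernel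

theorem rot7_64 : T.rot 7 [2, 3, 2, 2, 7, 2, 3, 6, 6, 7, 2, 7, 7, 7, 2, 2, 7, 7, 3, 6, 3, 2, 2, 7, 6, 3, 6, 6] (sel (ones 7128) ip7 64) = true := by decide +kernel

theorem rot7_64r : band (Rule.ok (2 * 0) EX RL ⟨7 :: [2, 3, 2, 2, 7, 2, 3, 6, 6, 7, 2, 7, 7, 7, 2, 2, 7, 7, 3, 6, 3, 2, 2, 7, 6, 3, 6, 6], [5, 2, 5, 3, 3, 4, 2, 5, 2, 2, 4, 2, 5], 1, true⟩) (lall (memL L) [2, 3, 2, 2, 7, 2, 3, 6, 6, 7, 2, 7, 7, 7, 2, 2, 7, 7, 3, 6, 3, 2, 2, 7, 6, 3, 6, 6]) = true := by decide +kernel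

theorem rot7_65 : T.rot 7 [2, 3, 6, 6, 7, 2, 7, 7, 7, 2, 2, 7, 7, 3, 6, 3, 2, 2, 7, 6, 3, 6, 6, 7, 2, 3, 2, 2] (sel (ones 7128) ip7 65) = true := by decide +kernel

theorem rot7_65r : band (Rule.ok (2 * 0) EX RL ⟨7 :: [2, 3, 6, 6, 7, 2, 7, 7, 7, 2, 2, 7, 7, 3, 6, 3, 2, 2, 7, 6, 3, 6, 6, 7, 2, 3, 2, 2], [5, 2, 5, 3, 3, 4, 2, 5], 1, true⟩) (lall (memL L) [2, 3, 6, 6, 7, 2, 7, 7, 7, 2, 2, 7, 7, 3, 6, 3, 2, 2, 7, 6, 3, 6, 6, 7, 2, 3, 2, 2]) = true := by decide +kernel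

theorem rot7_66 : T.rot 7 [2, 7, 7, 7, 2, 2, 7, 7, 3, 6, 3, 2, 2, 7, 6, 3, 6, 6, 7, 2, 3, 2, 2, 7, 2, 3, 6, 6] (sel (ones 7128) ip7 66) = true := by decide +kernel

theorem rot7_66r : band (Rule.ok (2 * 0) EX RL ⟨7 :: [2, 7, 7, 7, 2, 2, 7, 7, 3, 6, 3, 2, 2, 7, 6, 3, 6, 6, 7, 2, 3, 2, 2, 7, 2, 3, 6, 6], [5, 2, 5], 1, true⟩) (lall (memL L) [2, 7, 7, 7, 2, 2, 7, 7, 3, 6, 3, 2, 2, 7, 6, 3, 6, 6, 7, 2, 3, 2, 2, 7, 2, 3, 6, 6]) = true := by decide +kernel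

theorem rot7_67 : T.rot 7 [7, 7, 2, 2, 7, 7, 3, 6, 3, 2, 2, 7, 6, 3, 6, 6, 7, 2, 3, 2, 2, 7, 2, 3, 6, 6, 7, 2] (sel (ones 7128) ip7 67) = true := by decide +kernel

theorem rot7_67r : band (Rule.ok (2 * 0) EX RL ⟨7 :: [7, 7, 2, 2, 7, 7, 3, 6, 3, 2, 2, 7, 6, 3, 6, 6, 7, 2, 3, 2, 2, 7, 2, 3, 6, 6, 7, 2], [5], 1, true⟩) (lall (memL L) [7, 7, 2, 2, 7, 7, 3, 6, 3, 2, 2, 7, 6, 3, 6, 6, 7, 2, 3, 2, 2, 7, 2, 3, 6, 6, 7, 2]) = true := by decide +kernel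

theorem rot7_68 : T.rot 7 [6, 3, 6, 6, 7, 6, 3, 2, 2, 7, 2, 3, 6, 6, 7, 2, 7, 3, 3, 6, 6, 3, 3, 3, 6, 3, 2, 2] (sel (ones 7128) ip7 68) = true := by decide +kernel

theorem rot7_68r : band (Rule.ok (2 * 0) EX RL ⟨7 :: [6, 3, 6, 6, 7, 6, 3, 2, 2, 7, 2, 3, 6, 6, 7, 2, 7, 3, 3, 6, 6, 3, 3, 3, 6, 3, 2, 2], [5, 2, 5, 3, 3], 1, false⟩) (lall (memL L) [6, 3, 6, 6, 7, 6, 3, 2, 2, 7, 2, 3, 6, 6, 7, 2, 7, 3, 3, 6, 6, 3, 3, 3, 6, 3, 2, 2]) = true := by decide +kernel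

theorem rot7_69 : T.rot 7 [6, 3, 2, 2, 7, 2, 3, 6, 6, 7, 2, 7, 3, 3, 6, 6, 3, 3, 3, 6, 3, 2, 2, 7, 6, 3, 6, 6] (sel (ones 7128) ip7 69) = true := by decide +kernel

theorem rot7_69r : band (Rule.ok (2 * 0) EX RL ⟨7 :: [6, 3, 2, 2, 7, 2, 3, 6, 6, 7, 2, 7, 3, 3, 6, 6, 3, 3, 3, 6, 3, 2, 2, 7, 6, 3, 6, 6], [5, 2, 5, 3, 3, 4, 2, 5, 2, 2], 1, false⟩) (lall (memL L) [6, 3, 2, 2, 7, 2, 3, 6, 6, 7, 2, 7, 3, 3, 6, 6, 3, 3, 3, 6, 3, 2, 2, 7, 6, 3, 6, 6]) = true := by decide +kernel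

theorem rot7_70 : T.rot 7 [2, 3, 6, 6, 7, 2, 7, 3, 3, 6, 6, 3, 3, 3, 6, 3, 2, 2, 7, 6, 3, 6, 6, 7, 6, 3, 2, 2] (sel (ones 7128) ip7 70) = true := by decide +kernel

theorem rot7_70r : band (Rule.ok (2 * 0) EX RL ⟨7 :: [2, 3, 6, 6, 7, 2, 7, 3, 3, 6, 6, 3, 3, 3, 6, 3, 2, 2, 7, 6, 3, 6, 6, 7, 6, 3, 2, 2], [4, 4, 3, 3, 4, 2, 5, 3, 3, 4, 2, 5], 1, false⟩) (lall (memL L) [2, 3, 6, 6, 7, 2, 7, 3, 3, 6, 6, 3, 3, 3, 6, 3, 2, 2, 7, 6, 3, 6, 6, 7, 6, 3, 2, 2]) = true := by decide +kernel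

theorem rot7_71 : T.rot 7 [2, 7, 3, 3, 6, 6, 3, 3, 3, 6, 3, 2, 2, 7, 6, 3, 6, 6, 7, 6, 3, 2, 2, 7, 2, 3, 6, 6] (sel (ones 7128) ip7 71) = true := by decide +kernel

theorem rot7_71r : band (Rule.ok (2 * 0) EX RL ⟨7 :: [2, 7, 3, 3, 6, 6, 3, 3, 3, 6, 3, 2, 2, 7, 6, 3, 6, 6, 7, 6, 3, 2, 2, 7, 2, 3, 6, 6], [4, 4, 3, 3, 4, 2, 5], 1, false⟩) (lall (memL L) [2, 7, 3, 3, 6, 6, 3, 3, 3, 6, 3, 2, 2, 7, 6, 3, 6, 6, 7, 6, 3, 2, 2, 7, 2, 3, 6, 6]) = true := by decide +kernel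

theorem rot7_72 : T.rot 7 [2, 3, 6, 6, 7, 2, 7, 3, 2, 2, 7, 2, 3, 6, 6, 7, 2, 7, 3, 2, 2, 7, 2, 3, 6, 6, 7, 2, 7, 3, 2, 2, 7, 2, 3, 6, 6, 7, 2, 7, 3, 2, 2] (sel (ones 7128) ip7 72) = true := by decide +kernel

theorem rot7_72r : band (Rule.ok (2 * 0) EX RL ⟨7 :: [2, 3, 6, 6, 7, 2, 7, 3, 2, 2, 7, 2, 3, 6, 6, 7, 2, 7, 3, 2, 2, 7, 2, 3, 6, 6, 7, 2, 7, 3, 2, 2, 7, 2, 3, 6, 6, 7, 2, 7, 3, 2, 2], [5, 3, 3], 0, true⟩) (lall (memL L) [2, 3, 6, 6, 7, 2, 7, 3, 2, 2, 7, 2, 3, 6, 6, 7, 2, 7, 3, 2, 2, 7, 2, 3, 6, 6, 7, 2, 7, 3, 2, 2, 7, 2, 3, 6, 6, 7, 2, 7, 3, 2, 2]) = true := by decide +kernel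

theorem rot7_73 : T.rot 7 [2, 7, 3, 2, 2, 7, 2, 3, 6, 6, 7, 2, 7, 3, 2, 2, 7, 2, 3, 6, 6, 7, 2, 7, 3, 2, 2, 7, 2, 3, 6, 6, 7, 2, 7, 3, 2, 2, 7, 2, 3, 6, 6] (sel (ones 7128) ip7 73) = true := by decide +kernel

theorem rot7_73r : band (Rule.ok (2 * 0) EX RL ⟨7 :: [2, 7, 3, 2, 2, 7, 2, 3, 6, 6, 7, 2, 7, 3, 2, 2, 7, 2, 3, 6, 6, 7, 2, 7, 3, 2, 2, 7, 2, 3, 6, 6, 7, 2, 7, 3, 2, 2, 7, 2, 3, 6, 6], [5, 2, 5], 0, true⟩) (lall (memL L) [2, 7, 3, 2, 2, 7, 2, 3, 6, 6, 7, 2, 7, 3, 2, 2, 7, 2, 3, 6, 6, 7, 2, 7, 3, 2, 2, 7, 2, 3, 6, 6, 7, 2, 7, 3, 2, 2, 7, 2, 3, 6, 6]) = true := by decide +kernel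

theorem rot7_74 : T.rot 7 [6, 3, 6, 6, 7, 3, 6, 3, 2, 2, 7, 6, 3, 6, 6, 7, 3, 6, 3, 2, 2, 7, 6, 3, 6, 6, 7, 3, 6, 3, 2, 2, 7, 6, 3, 6, 6, 7, 3, 6, 3, 2, 2] (sel (ones 7128) ip7 74) = true := by decide +kernel

theorem rot7_74r : band (Rule.ok (2 * 0) EX RL ⟨7 :: [6, 3, 6, 6, 7, 3, 6, 3, 2, 2, 7, 6, 3, 6, 6, 7, 3, 6, 3, 2, 2, 7, 6, 3, 6, 6, 7, 3, 6, 3, 2, 2, 7, 6, 3, 6, 6, 7, 3, 6, 3, 2, 2], [5, 2, 5, 3, 3], 0, false⟩) (lall (memL L) [6, 3, 6, 6, 7, 3, 6, 3, 2, 2, 7, 6, 3, 6, 6, 7, 3, 6, 3, 2, 2, 7, 6, 3, 6, 6, 7, 3, 6, 3, 2, 2, 7, 6, 3, 6, 6, 7, 3, 6, 3, 2, 2]) = true := by decide +kernel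

theorem rot7_75 : T.rot 7 [2, 3, 6, 6, 7, 2, 7, 6, 3, 2, 2, 7, 2, 3, 6, 6, 7, 2, 7, 6, 6, 3, 6, 3, 2, 2, 7, 6, 3, 6, 6, 7, 3, 6, 3, 2, 2, 7, 6, 3, 6, 6, 7, 2, 3, 2, 2] (sel (ones 7128) ip7 75) = true := by decide +kernel

theorem rot7_75r : band (Rule.ok (2 * 0) EX RL ⟨7 :: [2, 3, 6, 6, 7, 2, 7, 6, 3, 2, 2, 7, 2, 3, 6, 6, 7, 2, 7, 6, 6, 3, 6, 3, 2, 2, 7, 6, 3, 6, 6, 7, 3, 6, 3, 2, 2, 7, 6, 3, 6, 6, 7, 2, 3, 2, 2], [3, 5, 3, 3], 3, true⟩) (lall (memL L) [2, 3, 6, 6, 7, 2, 7, 6, 3, 2, 2, 7, 2, 3, 6, 6, 7, 2, 7, 6, 6, 3, 6, 3, 2, 2, 7, 6, 3, 6, 6, 7, 3, 6, 3, 2, 2, 7, 6, 3, 6, 6, 7, 2, 3, 2, 2]) = true := by decide +kernel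

theorem rot7_76 : T.rot 7 [2, 7, 6, 3, 2, 2, 7, 2, 3, 6, 6, 7, 2, 7, 6, 6, 3, 6, 3, 2, 2, 7, 6, 3, 6, 6, 7, 3, 6, 3, 2, 2, 7, 6, 3, 6, 6, 7, 2, 3, 2, 2, 7, 2, 3, 6, 6] (sel (ones 7128) ip7 76) = true := by decide +kernel

theorem rot7_76r : band (Rule.ok (2 * 0) EX RL ⟨7 :: [2, 7, 6, 3, 2, 2, 7, 2, 3, 6, 6, 7, 2, 7, 6, 6, 3, 6, 3, 2, 2, 7, 6, 3, 6, 6, 7, 3, 6, 3, 2, 2, 7, 6, 3, 6, 6, 7, 2, 3, 2, 2, 7, 2, 3, 6, 6], [3, 5, 3, 3, 4, 3, 5, 2, 2], 3, true⟩) (lall (memL L) [2, 7, 6, 3, 2, 2, 7, 2, 3, 6, 6, 7, 2, 7, 6, 6, 3, 6, 3, 2, 2, 7, 6, 3, 6, 6, 7, 3, 6, 3, 2, 2, 7, 6, 3, 6, 6, 7, 2, 3, 2, 2, 7, 2, 3, 6, 6]) = true := by decide +kernel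

theorem rot7_77 : T.rot 7 [6, 3, 2, 2, 7, 2, 3, 6, 6, 7, 2, 7, 6, 6, 3, 6, 3, 2, 2, 7, 6, 3, 6, 6, 7, 3, 6, 3, 2, 2, 7, 6, 3, 6, 6, 7, 2, 3, 2, 2, 7, 2, 3, 6, 6, 7, 2] (sel (ones 7128) ip7 77) = true := by decide +kernel

theorem rot7_77r : band (Rule.ok (2 * 0) EX RL ⟨7 :: [6, 3, 2, 2, 7, 2, 3, 6, 6, 7, 2, 7, 6, 6, 3, 6, 3, 2, 2, 7, 6, 3, 6, 6, 7, 3, 6, 3, 2, 2, 7, 6, 3, 6, 6, 7, 2, 3, 2, 2, 7, 2, 3, 6, 6, 7, 2], [3, 5, 3, 3, 4, 3, 5, 2, 2, 4, 3], 3, true⟩) (lall (memL L) [6, 3, 2, 2, 7, 2, 3, 6, 6, 7, 2, 7, 6, 6, 3, 6, 3, 2, 2, 7, 6, 3, 6, 6, 7, 3, 6, 3, 2, 2, 7, 6, 3, 6, 6, 7, 2, 3, 2, 2, 7, 2, 3, 6, 6, 7, 2]) = true := by decide +kernel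

theorem rot7_78 : T.rot 7 [2, 3, 6, 6, 7, 2, 7, 6, 6, 3, 6, 3, 2, 2, 7, 6, 3, 6, 6, 7, 3, 6, 3, 2, 2, 7, 6, 3, 6, 6, 7, 2, 3, 2, 2, 7, 2, 3, 6, 6, 7, 2, 7, 6, 3, 2, 2] (sel (ones 7128) ip7 78) = true := by decide +kernel

theorem rot7_78r : band (Rule.ok (2 * 0) EX RL ⟨7 :: [2, 3, 6, 6, 7, 2, 7, 6, 6, 3, 6, 3, 2, 2, 7, 6, 3, 6, 6, 7, 3, 6, 3, 2, 2, 7, 6, 3, 6, 6, 7, 2, 3, 2, 2, 7, 2, 3, 6, 6, 7, 2, 7, 6, 3, 2, 2], [3, 5, 3, 3, 4, 3, 5, 2, 2, 4, 3, 4, 2, 5, 3, 3], 3, true⟩) (lall (memL L) [2, 3, 6, 6, 7, 2, 7, 6, 6, 3, 6, 3, 2, 2, 7, 6, 3, 6, 6, 7, 3, 6, 3, 2, 2, 7, 6, 3, 6, 6, 7, 2, 3, 2, 2, 7, 2, 3, 6, 6, 7, 2, 7, 6, 3, 2, 2]) = true := by decide +kernel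

theorem rot7_79 : T.rot 7 [2, 7, 6, 6, 3, 6, 3, 2, 2, 7, 6, 3, 6, 6, 7, 3, 6, 3, 2, 2, 7, 6, 3, 6, 6, 7, 2, 3, 2, 2, 7, 2, 3, 6, 6, 7, 2, 7, 6, 3, 2, 2, 7, 2, 3, 6, 6] (sel (ones 7128) ip7 79) = true := by decide +kernel

theorem rot7_79r : band (Rule.ok (2 * 0) EX RL ⟨7 :: [2, 7, 6, 6, 3, 6, 3, 2, 2, 7, 6, 3, 6, 6, 7, 3, 6, 3, 2, 2, 7, 6, 3, 6, 6, 7, 2, 3, 2, 2, 7, 2, 3, 6, 6, 7, 2, 7, 6, 3, 2, 2, 7, 2, 3, 6, 6], [3, 5, 3, 3, 4, 3, 5, 2, 2, 4, 3, 4, 2, 5, 3, 3, 4, 3, 5, 2, 2], 3, true⟩) (lall (memL L) [2, 7, 6, 6, 3, 6, 3, 2, 2, 7, 6, 3, 6, 6, 7, 3, 6, 3, 2, 2, 7, 6, 3, 6, 6, 7, 2, 3, 2, 2, 7, 2, 3, 6, 6, 7, 2, 7, 6, 3, 2, 2, 7, 2, 3, 6, 6]) = true := by decide +kernel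

theorem rot7_80 : T.rot 7 [6, 6, 3, 6, 3, 2, 2, 7, 6, 3, 6, 6, 7, 3, 6, 3, 2, 2, 7, 6, 3, 6, 6, 7, 2, 3, 2, 2, 7, 2, 3, 6, 6, 7, 2, 7, 6, 3, 2, 2, 7, 2, 3, 6, 6, 7, 2] (sel (ones 7128) ip7 80) = true := by decide +kernel

theorem rot7_80r : band (Rule.ok (2 * 0) EX RL ⟨7 :: [6, 6, 3, 6, 3, 2, 2, 7, 6, 3, 6, 6, 7, 3, 6, 3, 2, 2, 7, 6, 3, 6, 6, 7, 2, 3, 2, 2, 7, 2, 3, 6, 6, 7, 2, 7, 6, 3, 2, 2, 7, 2, 3, 6, 6, 7, 2], [5, 3, 3, 4, 3, 5, 2, 2, 4, 3, 3, 3, 4, 3, 5, 2, 2, 4, 3, 4, 3, 3, 5], 3, true⟩) (lall (memL L) [6, 6, 3, 6, 3, 2, 2, 7, 6, 3, 6, 6, 7, 3, 6, 3, 2, 2, 7, 6, 3, 6, 6, 7, 2, 3, 2, 2, 7, 2, 3, 6, 6, 7, 2, 7, 6, 3, 2, 2, 7, 2, 3, 6, 6, 7, 2]) = true := by decide +kernel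

theorem rot7_81 : T.rot 7 [6, 3, 6, 6, 7, 3, 6, 3, 2, 2, 7, 6, 3, 6, 6, 7, 2, 3, 2, 2, 7, 2, 3, 6, 6, 7, 2, 7, 6, 3, 2, 2, 7, 2, 3, 6, 6, 7, 2, 7, 6, 6, 3, 6, 3, 2, 2] (sel (ones 7128) ip7 81) = true := by decide +kernel

theorem rot7_81r : band (Rule.ok (2 * 0) EX RL ⟨7 :: [6, 3, 6, 6, 7, 3, 6, 3, 2, 2, 7, 6, 3, 6, 6, 7, 2, 3, 2, 2, 7, 2, 3, 6, 6, 7, 2, 7, 6, 3, 2, 2, 7, 2, 3, 6, 6, 7, 2, 7, 6, 6, 3, 6, 3, 2, 2], [5, 3, 3, 4, 3, 5, 2, 2, 4, 3, 3, 3, 4, 3, 5], 3, true⟩) (lall (memL L) [6, 3, 6, 6, 7, 3, 6, 3, 2, 2, 7, 6, 3, 6, 6, 7, 2, 3, 2, 2, 7, 2, 3, 6, 6, 7, 2, 7, 6, 3, 2, 2, 7, 2, 3, 6, 6, 7, 2, 7, 6, 6, 3, 6, 3, 2, 2]) = true := by decide +kernel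

theorem rot7_82 : T.rot 7 [6, 3, 6, 6, 7, 2, 3, 2, 2, 7, 2, 3, 6, 6, 7, 2, 7, 6, 3, 2, 2, 7, 2, 3, 6, 6, 7, 2, 7, 6, 6, 3, 6, 3, 2, 2, 7, 6, 3, 6, 6, 7, 3, 6, 3, 2, 2] (sel (ones 7128) ip7 82) = true := by decide +kernel

theorem rot7_82r : band (Rule.ok (2 * 0) EX RL ⟨7 :: [6, 3, 6, 6, 7, 2, 3, 2, 2, 7, 2, 3, 6, 6, 7, 2, 7, 6, 3, 2, 2, 7, 2, 3, 6, 6, 7, 2, 7, 6, 6, 3, 6, 3, 2, 2, 7, 6, 3, 6, 6, 7, 3, 6, 3, 2, 2], [5, 3, 3, 4, 3, 5], 3, true⟩) (lall (memL L) [6, 3, 6, 6, 7, 2, 3, 2, 2, 7, 2, 3, 6, 6, 7, 2, 7, 6, 3, 2, 2, 7, 2, 3, 6, 6, 7, 2, 7, 6, 6, 3, 6, 3, 2, 2, 7, 6, 3, 6, 6, 7, 3, 6, 3, 2, 2]) = true := by decide +kernel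

theorem rot7_83 : T.rot 7 [2, 3, 2, 2, 7, 2, 3, 6, 6, 7, 2, 7, 6, 3, 2, 2, 7, 2, 3, 6, 6, 7, 2, 7, 6, 6, 3, 6, 3, 2, 2, 7, 6, 3, 6, 6, 7, 3, 6, 3, 2, 2, 7, 6, 3, 6, 6] (sel (ones 7128) ip7 83) = true := by decide +kernel

theorem rot7_83r : band (Rule.ok (2 * 0) EX RL ⟨7 :: [2, 3, 2, 2, 7, 2, 3, 6, 6, 7, 2, 7, 6, 3, 2, 2, 7, 2, 3, 6, 6, 7, 2, 7, 6, 6, 3, 6, 3, 2, 2, 7, 6, 3, 6, 6, 7, 3, 6, 3, 2, 2, 7, 6, 3, 6, 6], [5], 3, true⟩) (lall (memL L) [2, 3, 2, 2, 7, 2, 3, 6, 6, 7, 2, 7, 6, 3, 2, 2, 7, 2, 3, 6, 6, 7, 2, 7, 6, 6, 3, 6, 3, 2, 2, 7, 6, 3, 6, 6, 7, 3, 6, 3, 2, 2, 7, 6, 3, 6, 6]) = true := by decide +kernel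

theorem rot7_84 : T.rot 7 [2, 3, 6, 6, 7, 2, 7, 3, 2, 2, 7, 2, 3, 6, 6, 7, 2, 7, 2, 2, 3, 6, 3, 2, 2, 7, 6, 3, 6, 6, 7, 2, 3, 6, 3, 2, 2, 7, 6, 3, 6, 6, 7, 6, 3, 2, 2] (sel (ones 7128) ip7 84) = true := by decide +kernel

theorem rot7_84r : band (Rule.ok (2 * 0) EX RL ⟨7 :: [2, 3, 6, 6, 7, 2, 7, 3, 2, 2, 7, 2, 3, 6, 6, 7, 2, 7, 2, 2, 3, 6, 3, 2, 2, 7, 6, 3, 6, 6, 7, 2, 3, 6, 3, 2, 2, 7, 6, 3, 6, 6, 7, 6, 3, 2, 2], [5, 3, 3], 3, false⟩) (lall (memL L) [2, 3, 6, 6, 7, 2, 7, 3, 2, 2, 7, 2, 3, 6, 6, 7, 2, 7, 2, 2, 3, 6, 3, 2, 2, 7, 6, 3, 6, 6, 7, 2, 3, 6, 3, 2, 2, 7, 6, 3, 6, 6, 7, 6, 3, 2, 2]) = true := by decide +kernel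

theorem rot7_85 : T.rot 7 [2, 7, 3, 2, 2, 7, 2, 3, 6, 6, 7, 2, 7, 2, 2, 3, 6, 3, 2, 2, 7, 6, 3, 6, 6, 7, 2, 3, 6, 3, 2, 2, 7, 6, 3, 6, 6, 7, 6, 3, 2, 2, 7, 2, 3, 6, 6] (sel (ones 7128) ip7 85) = true := by decide +kernel

theorem rot7_85r : band (Rule.ok (2 * 0) EX RL ⟨7 :: [2, 7, 3, 2, 2, 7, 2, 3, 6, 6, 7, 2, 7, 2, 2, 3, 6, 3, 2, 2, 7, 6, 3, 6, 6, 7, 2, 3, 6, 3, 2, 2, 7, 6, 3, 6, 6, 7, 6, 3, 2, 2, 7, 2, 3, 6, 6], [5, 3, 3, 4, 3, 5, 2, 2], 3, false⟩) (lall (memL L) [2, 7, 3, 2, 2, 7, 2, 3, 6, 6, 7, 2, 7, 2, 2, 3, 6, 3, 2, 2, 7, 6, 3, 6, 6, 7, 2, 3, 6, 3, 2, 2, 7, 6, 3, 6, 6, 7, 6, 3, 2, 2, 7, 2, 3, 6, 6]) = true := by decide +kernel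

theorem rot7_86 : T.rot 7 [2, 3, 6, 6, 7, 2, 7, 2, 2, 3, 6, 3, 2, 2, 7, 6, 3, 6, 6, 7, 2, 3, 6, 3, 2, 2, 7, 6, 3, 6, 6, 7, 6, 3, 2, 2, 7, 2, 3, 6, 6, 7, 2, 7, 3, 2, 2] (sel (ones 7128) ip7 86) = true := by decide +kernel

theorem rot7_86r : band (Rule.ok (2 * 0) EX RL ⟨7 :: [2, 3, 6, 6, 7, 2, 7, 2, 2, 3, 6, 3, 2, 2, 7, 6, 3, 6, 6, 7, 2, 3, 6, 3, 2, 2, 7, 6, 3, 6, 6, 7, 6, 3, 2, 2, 7, 2, 3, 6, 6, 7, 2, 7, 3, 2, 2], [5, 3, 3, 4, 3, 5, 2, 2, 4, 3, 3, 3], 3, false⟩) (lall (memL L) [2, 3, 6, 6, 7, 2, 7, 2, 2, 3, 6, 3, 2, 2, 7, 6, 3, 6, 6, 7, 2, 3, 6, 3, 2, 2, 7, 6, 3, 6, 6, 7, 6, 3, 2, 2, 7, 2, 3, 6, 6, 7, 2, 7, 3, 2, 2]) = true := by decide +kernel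

theorem rot7_87 : T.rot 7 [2, 7, 2, 2, 3, 6, 3, 2, 2, 7, 6, 3, 6, 6, 7, 2, 3, 6, 3, 2, 2, 7, 6, 3, 6, 6, 7, 6, 3, 2, 2, 7, 2, 3, 6, 6, 7, 2, 7, 3, 2, 2, 7, 2, 3, 6, 6] (sel (ones 7128) ip7 87) = true := by decide +kernel

theorem rot7_87r : band (Rule.ok (2 * 0) EX RL ⟨7 :: [2, 7, 2, 2, 3, 6, 3, 2, 2, 7, 6, 3, 6, 6, 7, 2, 3, 6, 3, 2, 2, 7, 6, 3, 6, 6, 7, 6, 3, 2, 2, 7, 2, 3, 6, 6, 7, 2, 7, 3, 2, 2, 7, 2, 3, 6, 6], [5, 3, 3, 4, 3, 5, 2, 2, 4, 3, 3, 3, 4, 3, 5, 2, 2], 3, false⟩) (lall (memL L) [2, 7, 2, 2, 3, 6, 3, 2, 2, 7, 6, 3, 6, 6, 7, 2, 3, 6, 3, 2, 2, 7, 6, 3, 6, 6, 7, 6, 3, 2, 2, 7, 2, 3, 6, 6, 7, 2, 7, 3, 2, 2, 7, 2, 3, 6, 6]) = true := by decide +kernel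

theorem rot7_88 : T.rot 7 [2, 2, 3, 6, 3, 2, 2, 7, 6, 3, 6, 6, 7, 2, 3, 6, 3, 2, 2, 7, 6, 3, 6, 6, 7, 6, 3, 2, 2, 7, 2, 3, 6, 6, 7, 2, 7, 3, 2, 2, 7, 2, 3, 6, 6, 7, 2] (sel (ones 7128) ip7 88) = true := by decide +kernel

theorem rot7_88r : band (Rule.ok (2 * 0) EX RL ⟨7 :: [2, 2, 3, 6, 3, 2, 2, 7, 6, 3, 6, 6, 7, 2, 3, 6, 3, 2, 2, 7, 6, 3, 6, 6, 7, 6, 3, 2, 2, 7, 2, 3, 6, 6, 7, 2, 7, 3, 2, 2, 7, 2, 3, 6, 6, 7, 2], [5, 3, 3, 4, 3, 5, 2, 2, 4, 3, 3, 3, 4, 3, 5, 2, 2, 4, 3], 3, false⟩) (lall (memL L) [2, 2, 3, 6, 3, 2, 2, 7, 6, 3, 6, 6, 7, 2, 3, 6, 3, 2, 2, 7, 6, 3, 6, 6, 7, 6, 3, 2, 2, 7, 2, 3, 6, 6, 7, 2, 7, 3, 2, 2, 7, 2, 3, 6, 6, 7, 2]) = true := by decide +kernel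

theorem rot7_89 : T.rot 7 [6, 3, 6, 6, 7, 2, 3, 6, 3, 2, 2, 7, 6, 3, 6, 6, 7, 6, 3, 2, 2, 7, 2, 3, 6, 6, 7, 2, 7, 3, 2, 2, 7, 2, 3, 6, 6, 7, 2, 7, 2, 2, 3, 6, 3, 2, 2] (sel (ones 7128) ip7 89) = true := by decide +kernel

theorem rot7_89r : band (Rule.ok (2 * 0) EX RL ⟨7 :: [6, 3, 6, 6, 7, 2, 3, 6, 3, 2, 2, 7, 6, 3, 6, 6, 7, 6, 3, 2, 2, 7, 2, 3, 6, 6, 7, 2, 7, 3, 2, 2, 7, 2, 3, 6, 6, 7, 2, 7, 2, 2, 3, 6, 3, 2, 2], [3, 5, 3, 3, 4, 3, 5, 2, 2, 4, 3, 4, 2, 5, 3, 3, 4, 3, 5], 3, false⟩) (lall (memL L) [6, 3, 6, 6, 7, 2, 3, 6, 3, 2, 2, 7, 6, 3, 6, 6, 7, 6, 3, 2, 2, 7, 2, 3, 6, 6, 7, 2, 7, 3, 2, 2, 7, 2, 3, 6, 6, 7, 2, 7, 2, 2, 3, 6, 3, 2, 2]) = true := by decide +kernel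

theorem rot7_90 : T.rot 7 [2, 3, 6, 3, 2, 2, 7, 6, 3, 6, 6, 7, 6, 3, 2, 2, 7, 2, 3, 6, 6, 7, 2, 7, 3, 2, 2, 7, 2, 3, 6, 6, 7, 2, 7, 2, 2, 3, 6, 3, 2, 2, 7, 6, 3, 6, 6] (sel (ones 7128) ip7 90) = true := by decide +kernel

theorem rot7_90r : band (Rule.ok (2 * 0) EX RL ⟨7 :: [2, 3, 6, 3, 2, 2, 7, 6, 3, 6, 6, 7, 6, 3, 2, 2, 7, 2, 3, 6, 6, 7, 2, 7, 3, 2, 2, 7, 2, 3, 6, 6, 7, 2, 7, 2, 2, 3, 6, 3, 2, 2, 7, 6, 3, 6, 6], [3, 5, 3, 3, 4, 3, 5, 2, 2, 4, 3, 4, 2, 5], 3, false⟩) (lall (memL L) [2, 3, 6, 3, 2, 2, 7, 6, 3, 6, 6, 7, 6, 3, 2, 2, 7, 2, 3, 6, 6, 7, 2, 7, 3, 2, 2, 7, 2, 3, 6, 6, 7, 2, 7, 2, 2, 3, 6, 3, 2, 2, 7, 6, 3, 6, 6]) = true := by decide +kernel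

theorem rot7_91 : T.rot 7 [6, 3, 6, 6, 7, 6, 3, 2, 2, 7, 2, 3, 6, 6, 7, 2, 7, 3, 2, 2, 7, 2, 3, 6, 6, 7, 2, 7, 2, 2, 3, 6, 3, 2, 2, 7, 6, 3, 6, 6, 7, 2, 3, 6, 3, 2, 2] (sel (ones 7128) ip7 91) = true := by decide +kernel

theorem rot7_91r : band (Rule.ok (2 * 0) EX RL ⟨7 :: [6, 3, 6, 6, 7, 6, 3, 2, 2, 7, 2, 3, 6, 6, 7, 2, 7, 3, 2, 2, 7, 2, 3, 6, 6, 7, 2, 7, 2, 2, 3, 6, 3, 2, 2, 7, 6, 3, 6, 6, 7, 2, 3, 6, 3, 2, 2], [3, 5, 3, 3, 4, 3, 5], 3, false⟩) (lall (memL L) [6, 3, 6, 6, 7, 6, 3, 2, 2, 7, 2, 3, 6, 6, 7, 2, 7, 3, 2, 2, 7, 2, 3, 6, 6, 7, 2, 7, 2, 2, 3, 6, 3, 2, 2, 7, 6, 3, 6, 6, 7, 2, 3, 6, 3, 2, 2]) = true := by decide +kernel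

theorem rot7_92 : T.rot 7 [6, 3, 2, 2, 7, 2, 3, 6, 6, 7, 2, 7, 3, 2, 2, 7, 2, 3, 6, 6, 7, 2, 7, 2, 2, 3, 6, 3, 2, 2, 7, 6, 3, 6, 6, 7, 2, 3, 6, 3, 2, 2, 7, 6, 3, 6, 6] (sel (ones 7128) ip7 92) = true := by decide +kernel

theorem rot7_92r : band (Rule.ok (2 * 0) EX RL ⟨7 :: [6, 3, 2, 2, 7, 2, 3, 6, 6, 7, 2, 7, 3, 2, 2, 7, 2, 3, 6, 6, 7, 2, 7, 2, 2, 3, 6, 3, 2, 2, 7, 6, 3, 6, 6, 7, 2, 3, 6, 3, 2, 2, 7, 6, 3, 6, 6], [3, 5], 3, false⟩) (lall (memL L) [6, 3, 2, 2, 7, 2, 3, 6, 6, 7, 2, 7, 3, 2, 2, 7, 2, 3, 6, 6, 7, 2, 7, 2, 2, 3, 6, 3, 2, 2, 7, 6, 3, 6, 6, 7, 2, 3, 6, 3, 2, 2, 7, 6, 3, 6, 6]) = true := by decide +kernel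

theorem rot7_93 : T.rot 7 [7, 3, 2, 2, 7, 2, 3, 6, 6, 7, 2, 7, 7, 7, 3, 2, 2, 7, 2, 3, 6, 6, 7, 2, 7, 3, 2, 2, 7, 2, 3, 6, 6, 7, 2, 7, 7, 7, 3, 6, 3, 2, 2, 7, 6, 3, 6, 6, 7] (sel (ones 7128) ip7 93) = true := by decide +kernel

theorem rot7_93r : band (Rule.ok (2 * 0) EX RL ⟨7 :: [7, 3, 2, 2, 7, 2, 3, 6, 6, 7, 2, 7, 7, 7, 3, 2, 2, 7, 2, 3, 6, 6, 7, 2, 7, 3, 2, 2, 7, 2, 3, 6, 6, 7, 2, 7, 7, 7, 3, 6, 3, 2, 2, 7, 6, 3, 6, 6, 7], [], 2, true⟩) (lall (memL L) [7, 3, 2, 2, 7, 2, 3, 6, 6, 7, 2, 7, 7, 7, 3, 2, 2, 7, 2, 3, 6, 6, 7, 2, 7, 3, 2, 2, 7, 2, 3, 6, 6, 7, 2, 7, 7, 7, 3, 6, 3, 2, 2, 7, 6, 3, 6, 6, 7]) = true := by decide +kernel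

theorem rot7_94 : T.rot 7 [2, 3, 6, 6, 7, 2, 7, 7, 7, 3, 2, 2, 7, 2, 3, 6, 6, 7, 2, 7, 3, 2, 2, 7, 2, 3, 6, 6, 7, 2, 7, 7, 7, 3, 6, 3, 2, 2, 7, 6, 3, 6, 6, 7, 7, 7, 3, 2, 2] (sel (ones 7128) ip7 94) = true := by decide +kernel

theorem rot7_94r : band (Rule.ok (2 * 0) EX RL ⟨7 :: [2, 3, 6, 6, 7, 2, 7, 7, 7, 3, 2, 2, 7, 2, 3, 6, 6, 7, 2, 7, 3, 2, 2, 7, 2, 3, 6, 6, 7, 2, 7, 7, 7, 3, 6, 3, 2, 2, 7, 6, 3, 6, 6, 7, 7, 7, 3, 2, 2], [4, 3, 3], 2, true⟩) (lall (memL L) [2, 3, 6, 6, 7, 2, 7, 7, 7, 3, 2, 2, 7, 2, 3, 6, 6, 7, 2, 7, 3, 2, 2, 7, 2, 3, 6, 6, 7, 2, 7, 7, 7, 3, 6, 3, 2, 2, 7, 6, 3, 6, 6, 7, 7, 7, 3, 2, 2]) = true := by decide +kernel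

theorem rot7_95 : T.rot 7 [2, 7, 7, 7, 3, 2, 2, 7, 2, 3, 6, 6, 7, 2, 7, 3, 2, 2, 7, 2, 3, 6, 6, 7, 2, 7, 7, 7, 3, 6, 3, 2, 2, 7, 6, 3, 6, 6, 7, 7, 7, 3, 2, 2, 7, 2, 3, 6, 6] (sel (ones 7128) ip7 95) = true := by decide +kernel

theorem rot7_95r : band (Rule.ok (2 * 0) EX RL ⟨7 :: [2, 7, 7, 7, 3, 2, 2, 7, 2, 3, 6, 6, 7, 2, 7, 3, 2, 2, 7, 2, 3, 6, 6, 7, 2, 7, 7, 7, 3, 6, 3, 2, 2, 7, 6, 3, 6, 6, 7, 7, 7, 3, 2, 2, 7, 2, 3, 6, 6], [4, 3, 3, 4, 3, 5, 2, 2], 2, true⟩) (lall (memL L) [2, 7, 7, 7, 3, 2, 2, 7, 2, 3, 6, 6, 7, 2, 7, 3, 2, 2, 7, 2, 3, 6, 6, 7, 2, 7, 7, 7, 3, 6, 3, 2, 2, 7, 6, 3, 6, 6, 7, 7, 7, 3, 2, 2, 7, 2, 3, 6, 6]) = true := by decide +kernel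

theorem rot7_96 : T.rot 7 [7, 7, 3, 2, 2, 7, 2, 3, 6, 6, 7, 2, 7, 3, 2, 2, 7, 2, 3, 6, 6, 7, 2, 7, 7, 7, 3, 6, 3, 2, 2, 7, 6, 3, 6, 6, 7, 7, 7, 3, 2, 2, 7, 2, 3, 6, 6, 7, 2] (sel (ones 7128) ip7 96) = true := by decide +kernel

theorem rot7_96r : band (Rule.ok (2 * 0) EX RL ⟨7 :: [7, 7, 3, 2, 2, 7, 2, 3, 6, 6, 7, 2, 7, 3, 2, 2, 7, 2, 3, 6, 6, 7, 2, 7, 7, 7, 3, 6, 3, 2, 2, 7, 6, 3, 6, 6, 7, 7, 7, 3, 2, 2, 7, 2, 3, 6, 6, 7, 2], [4, 3, 3, 4, 3, 5, 2, 2, 4, 3], 2, true⟩) (lall (memL L) [7, 7, 3, 2, 2, 7, 2, 3, 6, 6, 7, 2, 7, 3, 2, 2, 7, 2, 3, 6, 6, 7, 2, 7, 7, 7, 3, 6, 3, 2, 2, 7, 6, 3, 6, 6, 7, 7, 7, 3, 2, 2, 7, 2, 3, 6, 6, 7, 2]) = true := by decide +kernel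

theorem rot7_97 : T.rot 7 [7, 3, 2, 2, 7, 2, 3, 6, 6, 7, 2, 7, 3, 2, 2, 7, 2, 3, 6, 6, 7, 2, 7, 7, 7, 3, 6, 3, 2, 2, 7, 6, 3, 6, 6, 7, 7, 7, 3, 2, 2, 7, 2, 3, 6, 6, 7, 2, 7] (sel (ones 7128) ip7 97) = true := by decide +kernel

theorem rot7_97r : band (Rule.ok (2 * 0) EX RL ⟨7 :: [7, 3, 2, 2, 7, 2, 3, 6, 6, 7, 2, 7, 3, 2, 2, 7, 2, 3, 6, 6, 7, 2, 7, 7, 7, 3, 6, 3, 2, 2, 7, 6, 3, 6, 6, 7, 7, 7, 3, 2, 2, 7, 2, 3, 6, 6, 7, 2, 7], [4, 3, 3, 4, 3, 5, 2, 2, 4, 3, 4], 2, true⟩) (lall (memL L) [7, 3, 2, 2, 7, 2, 3, 6, 6, 7, 2, 7, 3, 2, 2, 7, 2, 3, 6, 6, 7, 2, 7, 7, 7, 3, 6, 3, 2, 2, 7, 6, 3, 6, 6, 7, 7, 7, 3, 2, 2, 7, 2, 3, 6, 6, 7, 2, 7]) = true := by decide +kernel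

theorem rot7_98 : T.rot 7 [2, 3, 6, 6, 7, 2, 7, 3, 2, 2, 7, 2, 3, 6, 6, 7, 2, 7, 7, 7, 3, 6, 3, 2, 2, 7, 6, 3, 6, 6, 7, 7, 7, 3, 2, 2, 7, 2, 3, 6, 6, 7, 2, 7, 7, 7, 3, 2, 2] (sel (ones 7128) ip7 98) = true := by decide +kernel

theorem rot7_98r : band (Rule.ok (2 * 0) EX RL ⟨7 :: [2, 3, 6, 6, 7, 2, 7, 3, 2, 2, 7, 2, 3, 6, 6, 7, 2, 7, 7, 7, 3, 6, 3, 2, 2, 7, 6, 3, 6, 6, 7, 7, 7, 3, 2, 2, 7, 2, 3, 6, 6, 7, 2, 7, 7, 7, 3, 2, 2], [4, 3, 3, 4, 3, 5, 2, 2, 4, 3, 4, 4, 3, 3], 2, true⟩) (lall (memL L) [2, 3, 6, 6, 7, 2, 7, 3, 2, 2, 7, 2, 3, 6, 6, 7, 2, 7, 7, 7, 3, 6, 3, 2, 2, 7, 6, 3, 6, 6, 7, 7, 7, 3, 2, 2, 7, 2, 3, 6, 6, 7, 2, 7, 7, 7, 3, 2, 2]) = true := by decide +kernel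

theorem rot7_99 : T.rot 7 [2, 7, 3, 2, 2, 7, 2, 3, 6, 6, 7, 2, 7, 7, 7, 3, 6, 3, 2, 2, 7, 6, 3, 6, 6, 7, 7, 7, 3, 2, 2, 7, 2, 3, 6, 6, 7, 2, 7, 7, 7, 3, 2, 2, 7, 2, 3, 6, 6] (sel (ones 7128) ip7 99) = true := by decide +kernel

theorem rot7_99r : band (Rule.ok (2 * 0) EX RL ⟨7 :: [2, 7, 3, 2, 2, 7, 2, 3, 6, 6, 7, 2, 7, 7, 7, 3, 6, 3, 2, 2, 7, 6, 3, 6, 6, 7, 7, 7, 3, 2, 2, 7, 2, 3, 6, 6, 7, 2, 7, 7, 7, 3, 2, 2, 7, 2, 3, 6, 6], [4, 3, 3, 4, 3, 5, 2, 2, 4, 3, 4, 4, 3, 3, 4, 3, 5, 2, 2], 2, true⟩) (lall (memL L) [2, 7, 3, 2, 2, 7, 2, 3, 6, 6, 7, 2, 7, 7, 7, 3, 6, 3, 2, 2, 7, 6, 3, 6, 6, 7, 7, 7, 3, 2, 2, 7, 2, 3, 6, 6, 7, 2, 7, 7, 7, 3, 2, 2, 7, 2, 3, 6, 6]) = true := by decide +kernel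

theorem rot7_100 : T.rot 7 [2, 3, 6, 6, 7, 2, 7, 7, 7, 3, 6, 3, 2, 2, 7, 6, 3, 6, 6, 7, 7, 7, 3, 2, 2, 7, 2, 3, 6, 6, 7, 2, 7, 7, 7, 3, 2, 2, 7, 2, 3, 6, 6, 7, 2, 7, 3, 2, 2] (sel (ones 7128) ip7 100) = true := by decide +kernel

theorem rot7_100r : band (Rule.ok (2 * 0) EX RL ⟨7 :: [2, 3, 6, 6, 7, 2, 7, 7, 7, 3, 6, 3, 2, 2, 7, 6, 3, 6, 6, 7, 7, 7, 3, 2, 2, 7, 2, 3, 6, 6, 7, 2, 7, 7, 7, 3, 2, 2, 7, 2, 3, 6, 6, 7, 2, 7, 3, 2, 2], [5, 3, 3, 4, 3, 5, 2, 2, 4, 3, 5, 5, 2, 5, 3, 3, 4, 2, 5], 2, true⟩) (lall (memL L) [2, 3, 6, 6, 7, 2, 7, 7, 7, 3, 6, 3, 2, 2, 7, 6, 3, 6, 6, 7, 7, 7, 3, 2, 2, 7, 2, 3, 6, 6, 7, 2, 7, 7, 7, 3, 2, 2, 7, 2, 3, 6, 6, 7, 2, 7, 3, 2, 2]) = true := by decide +kernel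

theorem rot7_101 : T.rot 7 [2, 7, 7, 7, 3, 6, 3, 2, 2, 7, 6, 3, 6, 6, 7, 7, 7, 3, 2, 2, 7, 2, 3, 6, 6, 7, 2, 7, 7, 7, 3, 2, 2, 7, 2, 3, 6, 6, 7, 2, 7, 3, 2, 2, 7, 2, 3, 6, 6] (sel (ones 7128) ip7 101) = true := by decide +kernel

theorem rot7_101r : band (Rule.ok (2 * 0) EX RL ⟨7 :: [2, 7, 7, 7, 3, 6, 3, 2, 2, 7, 6, 3, 6, 6, 7, 7, 7, 3, 2, 2, 7, 2, 3, 6, 6, 7, 2, 7, 7, 7, 3, 2, 2, 7, 2, 3, 6, 6, 7, 2, 7, 3, 2, 2, 7, 2, 3, 6, 6], [5, 3, 3, 4, 3, 5, 2, 2, 4, 3, 5, 5, 2, 5], 2, true⟩) (lall (memL L) [2, 7, 7, 7, 3, 6, 3, 2, 2, 7, 6, 3, 6, 6, 7, 7, 7, 3, 2, 2, 7, 2, 3, 6, 6, 7, 2, 7, 7, 7, 3, 2, 2, 7, 2, 3, 6, 6, 7, 2, 7, 3, 2, 2, 7, 2, 3, 6, 6]) = true := by decide +kernel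

theorem rot7_102 : T.rot 7 [7, 7, 3, 6, 3, 2, 2, 7, 6, 3, 6, 6, 7, 7, 7, 3, 2, 2, 7, 2, 3, 6, 6, 7, 2, 7, 7, 7, 3, 2, 2, 7, 2, 3, 6, 6, 7, 2, 7, 3, 2, 2, 7, 2, 3, 6, 6, 7, 2] (sel (ones 7128) ip7 102) = true := by decide +kernel

theorem rot7_102r : band (Rule.ok (2 * 0) EX RL ⟨7 :: [7, 7, 3, 6, 3, 2, 2, 7, 6, 3, 6, 6, 7, 7, 7, 3, 2, 2, 7, 2, 3, 6, 6, 7, 2, 7, 7, 7, 3, 2, 2, 7, 2, 3, 6, 6, 7, 2, 7, 3, 2, 2, 7, 2, 3, 6, 6, 7, 2], [5, 3, 3, 4, 3, 5, 2, 2, 4, 3, 5, 5], 2, true⟩) (lall (memL L) [7, 7, 3, 6, 3, 2, 2, 7, 6, 3, 6, 6, 7, 7, 7, 3, 2, 2, 7, 2, 3, 6, 6, 7, 2, 7, 7, 7, 3, 2, 2, 7, 2, 3, 6, 6, 7, 2, 7, 3, 2, 2, 7, 2, 3, 6, 6, 7, 2]) = true := by decide +kernel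

theorem rot7_103 : T.rot 7 [7, 3, 6, 3, 2, 2, 7, 6, 3, 6, 6, 7, 7, 7, 3, 2, 2, 7, 2, 3, 6, 6, 7, 2, 7, 7, 7, 3, 2, 2, 7, 2, 3, 6, 6, 7, 2, 7, 3, 2, 2, 7, 2, 3, 6, 6, 7, 2, 7] (sel (ones 7128) ip7 103) = true := by decide +kernel

theorem rot7_103r : band (Rule.ok (2 * 0) EX RL ⟨7 :: [7, 3, 6, 3, 2, 2, 7, 6, 3, 6, 6, 7, 7, 7, 3, 2, 2, 7, 2, 3, 6, 6, 7, 2, 7, 7, 7, 3, 2, 2, 7, 2, 3, 6, 6, 7, 2, 7, 3, 2, 2, 7, 2, 3, 6, 6, 7, 2, 7], [5, 3, 3, 4, 3, 5, 2, 2, 4, 3, 5], 2, true⟩) (lall (memL L) [7, 3, 6, 3, 2, 2, 7, 6, 3, 6, 6, 7, 7, 7, 3, 2, 2, 7, 2, 3, 6, 6, 7, 2, 7, 7, 7, 3, 2, 2, 7, 2, 3, 6, 6, 7, 2, 7, 3, 2, 2, 7, 2, 3, 6, 6, 7, 2, 7]) = true := by decide +kernel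

theorem rot7_104 : T.rot 7 [6, 3, 6, 6, 7, 7, 7, 3, 2, 2, 7, 2, 3, 6, 6, 7, 2, 7, 7, 7, 3, 2, 2, 7, 2, 3, 6, 6, 7, 2, 7, 3, 2, 2, 7, 2, 3, 6, 6, 7, 2, 7, 7, 7, 3, 6, 3, 2, 2] (sel (ones 7128) ip7 104) = true := by decide +kernel

theorem rot7_104r : band (Rule.ok (2 * 0) EX RL ⟨7 :: [6, 3, 6, 6, 7, 7, 7, 3, 2, 2, 7, 2, 3, 6, 6, 7, 2, 7, 7, 7, 3, 2, 2, 7, 2, 3, 6, 6, 7, 2, 7, 3, 2, 2, 7, 2, 3, 6, 6, 7, 2, 7, 7, 7, 3, 6, 3, 2, 2], [5, 3, 3, 4, 3, 5], 2, true⟩) (lall (memL L) [6, 3, 6, 6, 7, 7, 7, 3, 2, 2, 7, 2, 3, 6, 6, 7, 2, 7, 7, 7, 3, 2, 2, 7, 2, 3, 6, 6, 7, 2, 7, 3, 2, 2, 7, 2, 3, 6, 6, 7, 2, 7, 7, 7, 3, 6, 3, 2, 2]) = true := by decide +kernel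

theorem rot7_105 : T.rot 7 [7, 7, 3, 2, 2, 7, 2, 3, 6, 6, 7, 2, 7, 7, 7, 3, 2, 2, 7, 2, 3, 6, 6, 7, 2, 7, 3, 2, 2, 7, 2, 3, 6, 6, 7, 2, 7, 7, 7, 3, 6, 3, 2, 2, 7, 6, 3, 6, 6] (sel (ones 7128) ip7 105) = true := by decide +kernel

theorem rot7_105r : band (Rule.ok (2 * 0) EX RL ⟨7 :: [7, 7, 3, 2, 2, 7, 2, 3, 6, 6, 7, 2, 7, 7, 7, 3, 2, 2, 7, 2, 3, 6, 6, 7, 2, 7, 3, 2, 2, 7, 2, 3, 6, 6, 7, 2, 7, 7, 7, 3, 6, 3, 2, 2, 7, 6, 3, 6, 6], [5], 2, true⟩) (lall (memL L) [7, 7, 3, 2, 2, 7, 2, 3, 6, 6, 7, 2, 7, 7, 7, 3, 2, 2, 7, 2, 3, 6, 6, 7, 2, 7, 3, 2, 2, 7, 2, 3, 6, 6, 7, 2, 7, 7, 7, 3, 6, 3, 2, 2, 7, 6, 3, 6, 6]) = true := by decide +kernel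

theorem rot7_106 : T.rot 7 [2, 3, 6, 6, 7, 2, 7, 3, 3, 3, 6, 3, 2, 2, 7, 6, 3, 6, 6, 7, 3, 6, 3, 2, 2, 7, 6, 3, 6, 6, 7, 3, 3, 3, 6, 3, 2, 2, 7, 6, 3, 6, 6, 7, 3, 3, 3, 2, 2] (sel (ones 7128) ip7 106) = true := by decide +kernel

theorem rot7_106r : band (Rule.ok (2 * 0) EX RL ⟨7 :: [2, 3, 6, 6, 7, 2, 7, 3, 3, 3, 6, 3, 2, 2, 7, 6, 3, 6, 6, 7, 3, 6, 3, 2, 2, 7, 6, 3, 6, 6, 7, 3, 3, 3, 6, 3, 2, 2, 7, 6, 3, 6, 6, 7, 3, 3, 3, 2, 2], [5, 3, 3], 2, false⟩) (lall (memL L) [2, 3, 6, 6, 7, 2, 7, 3, 3, 3, 6, 3, 2, 2, 7, 6, 3, 6, 6, 7, 3, 6, 3, 2, 2, 7, 6, 3, 6, 6, 7, 3, 3, 3, 6, 3, 2, 2, 7, 6, 3, 6, 6, 7, 3, 3, 3, 2, 2]) = true := by decide +kernel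

theorem rot7_107 : T.rot 7 [2, 7, 3, 3, 3, 6, 3, 2, 2, 7, 6, 3, 6, 6, 7, 3, 6, 3, 2, 2, 7, 6, 3, 6, 6, 7, 3, 3, 3, 6, 3, 2, 2, 7, 6, 3, 6, 6, 7, 3, 3, 3, 2, 2, 7, 2, 3, 6, 6] (sel (ones 7128) ip7 107) = true := by decide +kernel

theorem rot7_107r : band (Rule.ok (2 * 0) EX RL ⟨7 :: [2, 7, 3, 3, 3, 6, 3, 2, 2, 7, 6, 3, 6, 6, 7, 3, 6, 3, 2, 2, 7, 6, 3, 6, 6, 7, 3, 3, 3, 6, 3, 2, 2, 7, 6, 3, 6, 6, 7, 3, 3, 3, 2, 2, 7, 2, 3, 6, 6], [5, 3, 3, 4, 3, 5, 2, 2], 2, false⟩) (lall (memL L) [2, 7, 3, 3, 3, 6, 3, 2, 2, 7, 6, 3, 6, 6, 7, 3, 6, 3, 2, 2, 7, 6, 3, 6, 6, 7, 3, 3, 3, 6, 3, 2, 2, 7, 6, 3, 6, 6, 7, 3, 3, 3, 2, 2, 7, 2, 3, 6, 6]) = true := by decide +kernel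

theorem rot7_108 : T.rot 7 [6, 3, 6, 6, 7, 3, 6, 3, 2, 2, 7, 6, 3, 6, 6, 7, 3, 3, 3, 6, 3, 2, 2, 7, 6, 3, 6, 6, 7, 3, 3, 3, 2, 2, 7, 2, 3, 6, 6, 7, 2, 7, 3, 3, 3, 6, 3, 2, 2] (sel (ones 7128) ip7 108) = true := by decide +kernel

theorem rot7_108r : band (Rule.ok (2 * 0) EX RL ⟨7 :: [6, 3, 6, 6, 7, 3, 6, 3, 2, 2, 7, 6, 3, 6, 6, 7, 3, 3, 3, 6, 3, 2, 2, 7, 6, 3, 6, 6, 7, 3, 3, 3, 2, 2, 7, 2, 3, 6, 6, 7, 2, 7, 3, 3, 3, 6, 3, 2, 2], [5, 3, 3, 4, 3, 5, 2, 2, 4, 3, 5, 5, 2, 5, 3, 3], 2, false⟩) (lall (memL L) [6, 3, 6, 6, 7, 3, 6, 3, 2, 2, 7, 6, 3, 6, 6, 7, 3, 3, 3, 6, 3, 2, 2, 7, 6, 3, 6, 6, 7, 3, 3, 3, 2, 2, 7, 2, 3, 6, 6, 7, 2, 7, 3, 3, 3, 6, 3, 2, 2]) = true := by decide +kernel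

theorem rot7_109 : T.rot 7 [6, 3, 6, 6, 7, 3, 3, 3, 6, 3, 2, 2, 7, 6, 3, 6, 6, 7, 3, 3, 3, 2, 2, 7, 2, 3, 6, 6, 7, 2, 7, 3, 3, 3, 6, 3, 2, 2, 7, 6, 3, 6, 6, 7, 3, 6, 3, 2, 2] (sel (ones 7128) ip7 109) = true := by decide +kernel

theorem rot7_109r : band (Rule.ok (2 * 0) EX RL ⟨7 :: [6, 3, 6, 6, 7, 3, 3, 3, 6, 3, 2, 2, 7, 6, 3, 6, 6, 7, 3, 3, 3, 2, 2, 7, 2, 3, 6, 6, 7, 2, 7, 3, 3, 3, 6, 3, 2, 2, 7, 6, 3, 6, 6, 7, 3, 6, 3, 2, 2], [4, 3, 3, 4, 3, 5, 2, 2, 4, 3, 4, 4, 3, 3, 4, 3, 5], 2, false⟩) (lall (memL L) [6, 3, 6, 6, 7, 3, 3, 3, 6, 3, 2, 2, 7, 6, 3, 6, 6, 7, 3, 3, 3, 2, 2, 7, 2, 3, 6, 6, 7, 2, 7, 3, 3, 3, 6, 3, 2, 2, 7, 6, 3, 6, 6, 7, 3, 6, 3, 2, 2]) = true := by decide +kernel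

theorem rot7_110 : T.rot 7 [6, 3, 6, 6, 7, 3, 3, 3, 2, 2, 7, 2, 3, 6, 6, 7, 2, 7, 3, 3, 3, 6, 3, 2, 2, 7, 6, 3, 6, 6, 7, 3, 6, 3, 2, 2, 7, 6, 3, 6, 6, 7, 3, 3, 3, 6, 3, 2, 2] (sel (ones 7128) ip7 110) = true := by decide +kernel

theorem rot7_110r : band (Rule.ok (2 * 0) EX RL ⟨7 :: [6, 3, 6, 6, 7, 3, 3, 3, 2, 2, 7, 2, 3, 6, 6, 7, 2, 7, 3, 3, 3, 6, 3, 2, 2, 7, 6, 3, 6, 6, 7, 3, 6, 3, 2, 2, 7, 6, 3, 6, 6, 7, 3, 3, 3, 6, 3, 2, 2], [4, 3, 3, 4, 3, 5], 2, false⟩) (lall (memL L) [6, 3, 6, 6, 7, 3, 3, 3, 2, 2, 7, 2, 3, 6, 6, 7, 2, 7, 3, 3, 3, 6, 3, 2, 2, 7, 6, 3, 6, 6, 7, 3, 6, 3, 2, 2, 7, 6, 3, 6, 6, 7, 3, 3, 3, 6, 3, 2, 2]) = true := by decide +kernel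

theorem cov7 : T.cover 7 [(sel (ones 7128) ip7 1), (sel (ones 7128) ip7 2), (sel (ones 7128) ip7 3), (sel (ones 7128) ip7 4), (sel (ones 7128) ip7 5), (sel (ones 7128) ip7 6), (sel (ones 7128) ip7 7), (sel (ones 7128) ip7 8), (sel (ones 7128) ip7 9), (sel (ones 7128) ip7 10), (sel (ones 7128) ip7 11), (sel (ones 7128) ip7 12), (sel (ones 7128) ip7 13), (sel (ones 7128) ip7 14), (sel (ones 7128) ip7 15), (sel (ones 7128) ip7 16), (sel (ones 7128) ip7 17), (sel (ones 7128) ip7 18), (sel (ones 7128) ip7 19), (sel (ones 7128) ip7 20), (sel (ones 7128) ip7 21), (sel (ones 7128) ip7 22), (sel (ones 7128) ip7 23), (sel (ones 7128) ip7 24), (sel (ones 7128) ip7 25), (sel (ones 7128) ip7 26), (sel (ones 7128) ip7 27), (sel (ones 7128) ip7 28), (sel (ones 7128)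 ip7 29), (sel (ones 7128) ip7 30), (sel (ones 7128) ip7 31), (sel (ones 7128) ip7 32), (sel (ones 7128) ip7 33), (sel (ones 7128) ip7 34), (sel (ones 7128) ip7 35), (sel (ones 7128) ip7 36), (sel (ones 7128) ip7 37), (sel (ones 7128) ip7 38), (sel (ones 7128) ip7 39), (sel (ones 7128) ip7 40), (sel (ones 7128) ip7 41), (sel (ones 7128) ip7 42), (sel (ones 7128) ip7 43), (sel (ones 7128) ip7 44), (sel (ones 7128) ip7 45), (sel (ones 7128) ip7 46), (sel (ones 7128) ip7 47), (sel (ones 7128) ip7 48), (sel (ones 7128) ip7 49), (sel (ones 7128) ip7 50), (sel (ones 7128) ip7 51), (sel (ones 7128) ip7 52), (sel (ones 7128) ip7 53), (sel (ones 7128) ip7 54), (sel (ones 7128) ip7 55), (sel (ones 7128) ip7 56), (sel (ones 7128) ip7 57), (sel (ones 7128) ip7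 58), (sel (ones 7128) ip7 59), (sel (ones 7128) ip7 60), (sel (ones 7128) ip7 61), (sel (ones 7128) ip7 62), (sel (ones 7128) ip7 63), (sel (ones 7128) ip7 64), (sel (ones 7128) ip7 65), (sel (ones 7128) ip7 66), (sel (ones 7128) ip7 67), (sel (ones 7128) ip7 68), (sel (ones 7128) ip7 69), (sel (ones 7128) ip7 70), (sel (ones 7128) ip7 71), (sel (ones 7128) ip7 72), (sel (ones 7128) ip7 73), (sel (ones 7128) ip7 74), (sel (ones 7128) ip7 75), (sel (ones 7128) ip7 76), (sel (ones 7128) ip7 77), (sel (ones 7128) ip7 78), (sel (ones 7128) ip7 79), (sel (ones 7128) ip7 80), (sel (ones 7128) ip7 81), (sel (ones 7128) ip7 82), (sel (ones 7128) ip7 83), (sel (ones 7128) ip7 84), (sel (ones 7128) ip7 85), (sel (ones 7128) ip7 86), (sel (ones 7128) ip7 87),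 (sel (ones 7128) ip7 88), (sel (ones 7128) ip7 89), (sel (ones 7128) ip7 90), (sel (ones 7128) ip7 91), (sel (ones 7128) ip7 92), (sel (ones 7128) ip7 93), (sel (ones 7128) ip7 94), (sel (ones 7128) ip7 95), (sel (ones 7128) ip7 96), (sel (ones 7128) ip7 97), (sel (ones 7128) ip7 98), (sel (ones 7128) ip7 99), (sel (ones 7128) ip7 100), (sel (ones 7128) ip7 101), (sel (ones 7128) ip7 102), (sel (ones 7128) ip7 103), (sel (ones 7128) ip7 104), (sel (ones 7128) ip7 105), (sel (ones 7128) ip7 106), (sel (ones 7128) ip7 107), (sel (ones 7128) ip7 108), (sel (ones 7128) ip7 109), (sel (ones 7128) ip7 110)] = true := by decide +kernel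

theorem tl7 : T.treeLt 13 7 = true := by decide +kernel

theorem rot8_1 : T.rot 8 [4] (sel (ones 7128) ip8 1) = true := by decide +kernel

theorem rot8_1r : band (Rule.ok (2 * 0) EX RL ⟨8 :: [4], [], 29, false⟩) (lall (memL L) [4]) = true := by decide +kernel

theorem rot8_2 : T.rot 8 [8, 1, 1] (sel (ones 7128) ip8 2) = true := by decide +kernel

theorem rot8_2r : band (Rule.ok (2 * 0) EX RL ⟨8 :: [8, 1, 1], [7, 7], 10, true⟩) (lall (memL L) [8, 1, 1]) = true := by decide +kernel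

theorem rot8_3 : T.rot 8 [1, 1, 8] (sel (ones 7128) ip8 3) = true := by decide +kernel

theorem rot8_3r : band (Rule.ok (2 * 0) EX RL ⟨8 :: [1, 1, 8], [7], 10, true⟩) (lall (memL L) [1, 1, 8]) = true := by decide +kernel

theorem rot8_4 : T.rot 8 [3, 3, 4, 7, 7] (sel (ones 7128) ip8 4) = true := by decide +kernel

theorem rot8_4r : band (Rule.ok (2 * 0) EX RL ⟨8 :: [3, 3, 4, 7, 7], [4, 7], 14, true⟩) (lall (memL L) [3, 3, 4, 7, 7]) = true := by decide +kernel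

theorem rot8_5 : T.rot 8 [7, 7, 4, 3, 3] (sel (ones 7128) ip8 5) = true := by decide +kernel

theorem rot8_5r : band (Rule.ok (2 * 0) EX RL ⟨8 :: [7, 7, 4, 3, 3], [5, 7], 14, false⟩) (lall (memL L) [7, 7, 4, 3, 3]) = true := by decide +kernel

theorem rot8_6 : T.rot 8 [5, 8, 1, 4, 1] (sel (ones 7128) ip8 6) = true := by decide +kernel

theorem rot8_6r : band (Rule.ok (2 * 0) EX RL ⟨8 :: [5, 8, 1, 4, 1], [7, 1, 7], 15, true⟩) (lall (memL L) [5, 8, 1, 4, 1]) = true := by decide +kernel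

theorem rot8_7 : T.rot 8 [1, 4, 1, 8, 5] (sel (ones 7128) ip8 7) = true := by decide +kernel

theorem rot8_7r : band (Rule.ok (2 * 0) EX RL ⟨8 :: [1, 4, 1, 8, 5], [7], 15, true⟩) (lall (memL L) [1, 4, 1, 8, 5]) = true := by decide +kernel

theorem rot8_8 : T.rot 8 [5, 4, 1, 4, 5] (sel (ones 7128) ip8 8) = true := by decide +kernel

theorem rot8_8r : band (Rule.ok (2 * 0) EX RL ⟨8 :: [5, 4, 1, 4, 5], [1, 7], 15, false⟩) (lall (memL L) [5, 4, 1, 4, 5]) = true := by decide +kernel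

theorem rot8_9 : T.rot 8 [7, 7, 8, 5, 5] (sel (ones 7128) ip8 9) = true := by decide +kernel

theorem rot8_9r : band (Rule.ok (2 * 0) EX RL ⟨8 :: [7, 7, 8, 5, 5], [0], 18, true⟩) (lall (memL L) [7, 7, 8, 5, 5]) = true := by decide +kernel

theorem rot8_10 : T.rot 8 [5, 5, 8, 7, 7] (sel (ones 7128) ip8 10) = true := by decide +kernel

theorem rot8_10r : band (Rule.ok (2 * 0) EX RL ⟨8 :: [5, 5, 8, 7, 7], [1, 7], 18, true⟩) (lall (memL L) [5, 5, 8, 7, 7]) = true := by decide +kernel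

theorem rot8_11 : T.rot 8 [3, 4, 4, 3, 8] (sel (ones 7128) ip8 11) = true := by decide +kernel

theorem rot8_11r : band (Rule.ok (2 * 0) EX RL ⟨8 :: [3, 4, 4, 3, 8], [], 20, true⟩) (lall (memL L) [3, 4, 4, 3, 8]) = true := by decide +kernel

theorem rot8_12 : T.rot 8 [8, 3, 4, 4, 3] (sel (ones 7128) ip8 12) = true := by decide +kernel

theorem rot8_12r : band (Rule.ok (2 * 0) EX RL ⟨8 :: [8, 3, 4, 4, 3], [7], 20, true⟩) (lall (memL L) [8, 3, 4, 4, 3]) = true := by decide +kernel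

theorem rot8_13 : T.rot 8 [8, 7, 4, 4, 7] (sel (ones 7128) ip8 13) = true := by decide +kernel

theorem rot8_13r : band (Rule.ok (2 * 0) EX RL ⟨8 :: [8, 7, 4, 4, 7], [7, 4], 20, false⟩) (lall (memL L) [8, 7, 4, 4, 7]) = true := by decide +kernel

theorem rot8_14 : T.rot 8 [7, 4, 4, 7, 8] (sel (ones 7128) ip8 14) = true := by decide +kernel

theorem rot8_14r : band (Rule.ok (2 * 0) EX RL ⟨8 :: [7, 4, 4, 7, 8], [6, 5, 7], 20, false⟩) (lall (memL L) [7, 4, 4, 7, 8]) = true := by decide +kernel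

theorem rot8_15 : T.rot 8 [5, 2, 1, 2, 4, 6] (sel (ones 7128) ip8 15) = true := by decide +kernel

theorem rot8_15r : band (Rule.ok (2 * 0) EX RL ⟨8 :: [5, 2, 1, 2, 4, 6], [2, 1, 7], 16, true⟩) (lall (memL L) [5, 2, 1, 2, 4, 6]) = true := by decide +kernel

theorem rot8_16 : T.rot 8 [6, 5, 6, 1, 4, 2] (sel (ones 7128) ip8 16) = true := by decide +kernel

theorem rot8_16r : band (Rule.ok (2 * 0) EX RL ⟨8 :: [6, 5, 6, 1, 4, 2], [1, 3, 7], 16, false⟩) (lall (memL L) [6, 5, 6, 1, 4, 2]) = true := by decide +kernel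

theorem rot8_17 : T.rot 8 [2, 1, 2, 2, 5, 4, 6] (sel (ones 7128) ip8 17) = true := by decide +kernel

theorem rot8_17r : band (Rule.ok (2 * 0) EX RL ⟨8 :: [2, 1, 2, 2, 5, 4, 6], [2, 7], 17, true⟩) (lall (memL L) [2, 1, 2, 2, 5, 4, 6]) = true := by decide +kernel

theorem rot8_18 : T.rot 8 [1, 6, 6, 5, 6, 4, 2] (sel (ones 7128) ip8 18) = true := by decide +kernel

theorem rot8_18r : band (Rule.ok (2 * 0) EX RL ⟨8 :: [1, 6, 6, 5, 6, 4, 2], [2, 7, 3], 17, false⟩) (lall (memL L) [1, 6, 6, 5, 6, 4, 2]) = true := by decide +kernel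

theorem rot8_19 : T.rot 8 [2, 4, 1, 2, 5, 6, 6] (sel (ones 7128) ip8 19) = true := by decide +kernel

theorem rot8_19r : band (Rule.ok (2 * 0) EX RL ⟨8 :: [2, 4, 1, 2, 5, 6, 6], [7], 19, true⟩) (lall (memL L) [2, 4, 1, 2, 5, 6, 6]) = true := by decide +kernel

theorem rot8_20 : T.rot 8 [6, 4, 2, 2, 1, 6, 5] (sel (ones 7128) ip8 20) = true := by decide +kernel

theorem rot8_20r : band (Rule.ok (2 * 0) EX RL ⟨8 :: [6, 4, 2, 2, 1, 6, 5], [3, 7], 19, false⟩) (lall (memL L) [6, 4, 2, 2, 1, 6, 5]) = true := by decide +kernel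

theorem rot8_21 : T.rot 8 [1, 6, 4, 5, 6, 4, 5, 6] (sel (ones 7128) ip8 21) = true := by decide +kernel

theorem rot8_21r : band (Rule.ok (2 * 0) EX RL ⟨8 :: [1, 6, 4, 5, 6, 4, 5, 6], [7], 22, true⟩) (lall (memL L) [1, 6, 4, 5, 6, 4, 5, 6]) = true := by decide +kernel

theorem rot8_22 : T.rot 8 [2, 1, 8, 2, 5, 4, 2, 1] (sel (ones 7128) ip8 22) = true := by decide +kernel

theorem rot8_22r : band (Rule.ok (2 * 0) EX RL ⟨8 :: [2, 1, 8, 2, 5, 4, 2, 1], [7, 3, 1], 22, false⟩) (lall (memL L) [2, 1, 8, 2, 5, 4, 2, 1]) = true := by decide +kernel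

theorem rot8_23 : T.rot 8 [2, 5, 4, 2, 1, 8, 2, 1] (sel (ones 7128) ip8 23) = true := by decide +kernel

theorem rot8_23r : band (Rule.ok (2 * 0) EX RL ⟨8 :: [2, 5, 4, 2, 1, 8, 2, 1], [1, 2, 7], 22, false⟩) (lall (memL L) [2, 5, 4, 2, 1, 8, 2, 1]) = true := by decide +kernel

theorem rot8_24 : T.rot 8 [6, 8, 6, 5, 2, 7, 1, 3, 6] (sel (ones 7128) ip8 24) = true := by decide +kernel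

theorem rot8_24r : band (Rule.ok (2 * 0) EX RL ⟨8 :: [6, 8, 6, 5, 2, 7, 1, 3, 6], [1, 5, 2], 24, true⟩) (lall (memL L) [6, 8, 6, 5, 2, 7, 1, 3, 6]) = true := by decide +kernel

theorem rot8_25 : T.rot 8 [6, 5, 2, 7, 1, 3, 6, 8, 6] (sel (ones 7128) ip8 25) = true := by decide +kernel

theorem rot8_25r : band (Rule.ok (2 * 0) EX RL ⟨8 :: [6, 5, 2, 7, 1, 3, 6, 8, 6], [5, 2, 1, 3, 7], 24, true⟩) (lall (memL L) [6, 5, 2, 7, 1, 3, 6, 8, 6]) = true := by decide +kernel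

theorem rot8_26 : T.rot 8 [2, 1, 8, 6, 5, 8, 7, 1, 3, 2] (sel (ones 7128) ip8 26) = true := by decide +kernel

theorem rot8_26r : band (Rule.ok (2 * 0) EX RL ⟨8 :: [2, 1, 8, 6, 5, 8, 7, 1, 3, 2], [1, 5, 3], 21, true⟩) (lall (memL L) [2, 1, 8, 6, 5, 8, 7, 1, 3, 2]) = true := by decide +kernel

theorem rot8_27 : T.rot 8 [6, 5, 8, 7, 1, 3, 2, 8, 2, 1] (sel (ones 7128) ip8 27) = true := by decide +kernel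

theorem rot8_27r : band (Rule.ok (2 * 0) EX RL ⟨8 :: [6, 5, 8, 7, 1, 3, 2, 8, 2, 1], [5, 7, 1, 3, 7], 21, true⟩) (lall (memL L) [6, 5, 8, 7, 1, 3, 2, 8, 2, 1]) = true := by decide +kernel

theorem rot8_28 : T.rot 8 [7, 1, 3, 2, 8, 2, 1, 8, 6, 5] (sel (ones 7128) ip8 28) = true := by decide +kernel

theorem rot8_28r : band (Rule.ok (2 * 0) EX RL ⟨8 :: [7, 1, 3, 2, 8, 2, 1, 8, 6, 5], [5, 7], 21, true⟩) (lall (memL L) [7, 1, 3, 2, 8, 2, 1, 8, 6, 5]) = true := by decide +kernel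

theorem rot8_29 : T.rot 8 [5, 6, 6, 8, 5, 6, 8, 7, 5, 3, 2] (sel (ones 7128) ip8 29) = true := by decide +kernel

theorem rot8_29r : band (Rule.ok (2 * 0) EX RL ⟨8 :: [5, 6, 6, 8, 5, 6, 8, 7, 5, 3, 2], [5, 3], 23, false⟩) (lall (memL L) [5, 6, 6, 8, 5, 6, 8, 7, 5, 3, 2]) = true := by decide +kernel

theorem rot8_30 : T.rot 8 [5, 6, 8, 7, 5, 3, 2, 8, 5, 6, 6] (sel (ones 7128) ip8 30) = true := by decide +kernel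

theorem rot8_30r : band (Rule.ok (2 * 0) EX RL ⟨8 :: [5, 6, 8, 7, 5, 3, 2, 8, 5, 6, 6], [1, 5, 7, 3, 1, 7], 23, false⟩) (lall (memL L) [5, 6, 8, 7, 5, 3, 2, 8, 5, 6, 6]) = true := by decide +kernel

theorem rot8_31 : T.rot 8 [7, 5, 3, 2, 8, 5, 6, 6, 8, 5, 6] (sel (ones 7128) ip8 31) = true := by decide +kernel

theorem rot8_31r : band (Rule.ok (2 * 0) EX RL ⟨8 :: [7, 5, 3, 2, 8, 5, 6, 6, 8, 5, 6], [1, 5, 7], 23, false⟩) (lall (memL L) [7, 5, 3, 2, 8, 5, 6, 6, 8, 5, 6]) = true := by decide +kernel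

theorem rot8_32 : T.rot 8 [6, 8, 5, 5, 6, 7, 5, 3, 6, 5, 2] (sel (ones 7128) ip8 32) = true := by decide +kernel

theorem rot8_32r : band (Rule.ok (2 * 0) EX RL ⟨8 :: [6, 8, 5, 5, 6, 7, 5, 3, 6, 5, 2], [5, 2, 0, 3], 25, false⟩) (lall (memL L) [6, 8, 5, 5, 6, 7, 5, 3, 6, 5, 2]) = true := by decide +kernel

theorem rot8_33 : T.rot 8 [5, 5, 6, 7, 5, 3, 6, 5, 2, 8, 6] (sel (ones 7128) ip8 33) = true := by decide +kernel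

theorem rot8_33r : band (Rule.ok (2 * 0) EX RL ⟨8 :: [5, 5, 6, 7, 5, 3, 6, 5, 2, 8, 6], [1, 5, 3, 1, 1, 7], 25, false⟩) (lall (memL L) [5, 5, 6, 7, 5, 3, 6, 5, 2, 8, 6]) = true := by decide +kernel

theorem rot8_34 : T.rot 8 [6, 7, 2, 5, 2, 3, 6, 3, 2, 8, 2] (sel (ones 7128) ip8 34) = true := by decide +kernel

theorem rot8_34r : band (Rule.ok (2 * 0) EX RL ⟨8 :: [6, 7, 2, 5, 2, 3, 6, 3, 2, 8, 2], [3], 27, false⟩) (lall (memL L) [6, 7, 2, 5, 2, 3, 6, 3, 2, 8, 2]) = true := by decide +kernel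

theorem rot8_35 : T.rot 8 [2, 8, 6, 7, 2, 5, 2, 3, 6, 3, 2] (sel (ones 7128) ip8 35) = true := by decide +kernel

theorem rot8_35r : band (Rule.ok (2 * 0) EX RL ⟨8 :: [2, 8, 6, 7, 2, 5, 2, 3, 6, 3, 2], [7], 27, false⟩) (lall (memL L) [2, 8, 6, 7, 2, 5, 2, 3, 6, 3, 2]) = true := by decide +kernel

theorem rot8_36 : T.rot 8 [2, 7, 4, 2, 1, 2, 7, 8, 7, 2, 2, 7, 2, 2, 4, 1, 3, 2] (sel (ones 7128) ip8 36) = true := by decide +kernel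

theorem rot8_36r : band (Rule.ok (2 * 0) EX RL ⟨8 :: [2, 7, 4, 2, 1, 2, 7, 8, 7, 2, 2, 7, 2, 2, 4, 1, 3, 2], [7, 1, 5, 3], 28, true⟩) (lall (memL L) [2, 7, 4, 2, 1, 2, 7, 8, 7, 2, 2, 7, 2, 2, 4, 1, 3, 2]) = true := by decide +kernel

theorem rot8_37 : T.rot 8 [7, 2, 2, 7, 2, 2, 4, 1, 3, 2, 8, 2, 7, 4, 2, 1, 2, 7] (sel (ones 7128) ip8 37) = true := by decide +kernel

theorem rot8_37r : band (Rule.ok (2 * 0) EX RL ⟨8 :: [7, 2, 2, 7, 2, 2, 4, 1, 3, 2, 8, 2, 7, 4, 2, 1, 2, 7], [2, 2, 5, 2, 2, 5, 7], 28, true⟩) (lall (memL L) [7, 2, 2, 7, 2, 2, 4, 1, 3, 2, 8, 2, 7, 4, 2, 1, 2, 7]) = true := by decide +kernel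

theorem rot8_38 : T.rot 8 [3, 6, 4, 6, 7, 5, 8, 6, 6, 3, 6, 6, 3, 4, 3, 6, 5, 6] (sel (ones 7128) ip8 38) = true := by decide +kernel

theorem rot8_38r : band (Rule.ok (2 * 0) EX RL ⟨8 :: [3, 6, 4, 6, 7, 5, 8, 6, 6, 3, 6, 6, 3, 4, 3, 6, 5, 6], [7, 1, 5, 3, 6, 3, 4, 7], 28, false⟩) (lall (memL L) [3, 6, 4, 6, 7, 5, 8, 6, 6, 3, 6, 6, 3, 4, 3, 6, 5, 6]) = true := by decide +kernel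

theorem rot8_39 : T.rot 8 [6, 6, 3, 6, 6, 3, 4, 3, 6, 5, 6, 8, 3, 6, 4, 6, 7, 5] (sel (ones 7128) ip8 39) = true := by decide +kernel

theorem rot8_39r : band (Rule.ok (2 * 0) EX RL ⟨8 :: [6, 6, 3, 6, 6, 3, 4, 3, 6, 5, 6, 8, 3, 6, 4, 6, 7, 5], [7], 28, false⟩) (lall (memL L) [6, 6, 3, 6, 6, 3, 4, 3, 6, 5, 6, 8, 3, 6, 4, 6, 7, 5]) = true := by decide +kernel

theorem cov8 : T.cover 8 [(sel (ones 7128) ip8 1), (sel (ones 7128) ip8 2), (sel (ones 7128) ip8 3), (sel (ones 7128) ip8 4), (sel (ones 7128) ip8 5), (sel (ones 7128) ip8 6), (sel (ones 7128) ip8 7), (sel (ones 7128) ip8 8), (sel (ones 7128) ip8 9), (sel (ones 7128) ip8 10), (sel (ones 7128) ip8 11), (sel (ones 7128) ip8 12), (sel (ones 7128) ip8 13), (sel (ones 7128) ip8 14), (sel (ones 7128)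 ip8 15), (sel (ones 7128) ip8 16), (sel (ones 7128) ip8 17), (sel (ones 7128) ip8 18), (sel (ones 7128) ip8 19), (sel (ones 7128) ip8 20), (sel (ones 7128) ip8 21), (sel (ones 7128) ip8 22), (sel (ones 7128) ip8 23), (sel (ones 7128) ip8 24), (sel (ones 7128) ip8 25), (sel (ones 7128) ip8 26), (sel (ones 7128) ip8 27), (sel (ones 7128) ip8 28), (sel (ones 7128) ip8 29), (sel (ones 7128) ip8 30), (sel (ones 7128) ip8 31), (sel (ones 7128) ip8 32), (sel (ones 7128) ip8 33), (sel (ones 7128) ip8 34), (sel (ones 7128) ip8 35), (sel (ones 7128) ip8 36), (sel (ones 7128) ip8 37), (sel (ones 7128) ip8 38), (sel (ones 7128) ip8 39)] = true := by decide +kernel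

theorem tl8 : T.treeLt 13 8 = true := by decide +kernel

end Cfsg.Agent.Spor.LyMca
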