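import Cfsg.Agent.Spor.Cert
import Cfsg.Agent.Spor.LyMca.C0
import Cfsg.Agent.Spor.LyMca.C1

set_option autoImplicit false
set_option maxRecDepth 100000000
set_option Elab.async false
set_option linter.unusedSectionVars false

namespace Cfsg.Agent.Spor.LyMca

theorem hT : T.Ok 13 := T.ok_of 13 (show AllP (fun n => Net.okb 13 n = true) [n0, n1, n2, n3] from AllP.cons ok0 (AllP.cons ok1 (AllP.cons ok2 (AllP.cons ok3 (AllP.nil)))))

noncomputable def fP : ℕ → Equiv.Perm ℕ := T.fP gs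

theorem hsq : ∀ j < 0, j < 4 → T.fP gs j * T.fP gs j = 1 :=
  Tab.sq (show AllP (fun z => evA T.τ [z, z] = 1) [] from AllP.nil) 4 rfl

theorem hiv : IvOk (2 * 0) (atm 4 (T.fP gs)) := ivOk_atm hsq

theorem pz1 : PZ T (atm 4 (T.fP gs)) EX 1 := PZ.of_atom (y := 2 * 0) (by decide +kernel) (atm_two_mul _ (by decide))
theorem pz2 : PZ T (atm 4 (T.fP gs)) EX 2 := PZ.of_atom (y := 2 * 1) (by decide +kernel) (atm_two_mul _ (by decide))
theorem pz3 : PZ T (atm 4 (T.fP gs)) EX 3 := PZ.of_atom (y := 2 * 2) (by decide +kernel) (atm_two_mul _ (by decide))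
theorem pz4 : PZ T (atm 4 (T.fP gs)) EX 4 := PZ.of_atom (y := 2 * 3) (by decide +kernel) (atm_two_mul _ (by decide))
theorem pz5 : PZ T (atm 4 (T.fP gs)) EX 5 := PZ.of_inv hiv pz1 (by decide +kernel)
theorem pz6 : PZ T (atm 4 (T.fP gs)) EX 6 := PZ.of_inv hiv pz2 (by decide +kernel)
theorem pz7 : PZ T (atm 4 (T.fP gs)) EX 7 := PZ.of_inv hiv pz3 (by decide +kernel)
theorem pz8 : PZ T (atm 4 (T.fP gs)) EX 8 := PZ.of_inv hiv pz4 (by decide +kernel)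
theorem hPZ : AllP (PZ T (atm 4 (T.fP gs)) EX) L :=
  show AllP (PZ T (atm 4 (T.fP gs)) EX) [1, 2, 3, 4, 5, 6, 7, 8] from AllP.cons pz1 (AllP.cons pz2 (AllP.cons pz3 (AllP.cons pz4 (AllP.cons pz5 (AllP.cons pz6 (AllP.cons pz7 (AllP.cons pz8 (AllP.nil))))))))

theorem hrel : ∀ l ∈ RL, ev (atm 4 (T.fP gs)) l = 1 :=
  relAll_sound hiv (W := [[3, 2, 2, 7, 2, 3, 6, 6, 7, 2, 7, 3, 2, 2, 7, 2, 3, 6, 6, 7, 2, 7, 3, 2, 2, 7, 2, 3, 6, 6, 7, 2, 7, 3, 2, 2, 7, 2, 3, 6, 6, 7, 2, 7], [7, 7, 2, 2, 7, 7, 3, 6, 3, 2, 2, 7, 6, 3, 6, 6, 7, 2, 3, 2, 2, 7, 2, 3, 6, 6, 7, 2, 7], [7, 7, 3, 2, 2, 7, 2, 3, 6, 6, 7, 2, 7, 7, 7, 3, 2, 2, 7, 2, 3, 6, 6, 7, 2, 7, 3, 2, 2, 7, 2, 3, 6, 6, 7, 2, 7, 7, 7, 3, 6, 3, 2, 2, 7, 6, 3, 6, 6, 7], [2, 3, 2, 2, 7, 2, 3, 6, 6, 7, 2, 7, 6, 3, 2, 2, 7, 2, 3, 6, 6, 7, 2, 7, 6, 6, 3, 6, 3, 2, 2, 7, 6, 3, 6, 6, 7, 3, 6, 3, 2, 2, 7, 6, 3, 6, 6, 7], [7, 7, 2, 7, 7, 2,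 7, 7, 6, 7, 7, 6], [7, 7, 7, 7], [2, 2, 2, 2, 2], [3, 2, 3, 3, 2, 2, 7, 6, 3, 6, 3, 2, 7, 3, 6, 3, 2, 2, 7, 6, 3, 6, 6, 7], [3, 2, 3, 2, 2, 7, 2, 2, 3, 2, 7, 2, 2, 3, 3, 2], [3, 2, 7, 6, 3, 2, 7, 6, 3, 2, 7, 6], [1, 1, 8, 8], [1, 7, 1, 7], [1, 1, 1, 1, 7, 7], [1, 3, 1, 3], [3, 4, 7, 7, 8, 3], [1, 4, 1, 8, 5, 8], [1, 2, 4, 6, 8, 5, 2], [1, 2, 2, 5, 4, 6, 8, 2], [5, 8, 7, 7, 8, 5], [2, 4, 1, 2, 5, 6, 6, 8], [8, 3, 4, 4, 3, 8], [1, 3, 2, 8, 2, 1, 8, 6, 5, 8, 7], [1, 6, 4, 5, 6, 4, 5, 6, 8], [1, 3, 4, 2, 1, 4, 2, 2, 1, 4, 6, 7], [1, 3, 6, 8, 6, 8, 6, 5, 2, 7], [1, 3, 2, 1, 1, 4, 2, 4, 6, 1, 2, 7], [1, 6, 7, 2, 2, 3, 6, 6, 3, 6, 7, 2], [4, 6, 7, 2, 7, 6, 1, 6, 3, 2, 4, 6], [4, 1, 3, 2, 8, 2, 7, 4, 2, 1, 2, 7, 8, 7, 2, 2, 7, 2, 2]]) (rules := [⟨[3, 2, 2, 7, 2, 3, 6, 6, 7, 2, 7, 3, 2, 2, 7, 2, 3, 6, 6, 7, 2, 7, 3, 2, 2, 7, 2, 3, 6, 6, 7, 2, 7, 3, 2, 2, 7, 2, 3, 6, 6, 7, 2,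 7], [], 0, true⟩, ⟨[7, 7, 2, 2, 7, 7, 3, 6, 3, 2, 2, 7, 6, 3, 6, 6, 7, 2, 3, 2, 2, 7, 2, 3, 6, 6, 7, 2, 7], [], 1, true⟩, ⟨[7, 7, 3, 2, 2, 7, 2, 3, 6, 6, 7, 2, 7, 7, 7, 3, 2, 2, 7, 2, 3, 6, 6, 7, 2, 7, 3, 2, 2, 7, 2, 3, 6, 6, 7, 2, 7, 7, 7, 3, 6, 3, 2, 2, 7, 6, 3, 6, 6, 7], [], 2, true⟩, ⟨[2, 3, 2, 2, 7, 2, 3, 6, 6, 7, 2, 7, 6, 3, 2, 2, 7, 2, 3, 6, 6, 7, 2, 7, 6, 6, 3, 6, 3, 2, 2, 7, 6, 3, 6, 6, 7, 3, 6, 3, 2, 2, 7, 6, 3, 6, 6, 7], [], 3, true⟩, ⟨[7, 7, 2, 7, 7, 2, 7, 7, 6, 7, 7, 6], [], 4, true⟩, ⟨[7, 7, 7, 7], [], 5, true⟩, ⟨[2, 2, 2, 2, 2], [], 6, true⟩, ⟨[3, 2, 3, 3, 2, 2, 7, 6, 3, 6, 3, 2, 7, 3, 6, 3, 2, 2, 7, 6, 3, 6, 6, 7], [], 7, true⟩, ⟨[3, 2, 3, 2, 2, 7, 2, 2, 3, 2, 7, 2, 2, 3, 3, 2], [], 8, true⟩, ⟨[3, 2, 7, 6, 3, 2, 7, 6, 3, 2, 7, 6], [], 9, true⟩, ⟨[1, 1, 8, 8], [], 10, true⟩, ⟨[1, 7, 1, 7], [], 11, true⟩, ⟨[1, 1, 1, 1, 7, 7], [], 12, true⟩, ⟨[1, 3, 1, 3],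 [], 13, true⟩, ⟨[3, 4, 7, 7, 8, 3], [], 14, true⟩, ⟨[1, 4, 1, 8, 5, 8], [], 15, true⟩, ⟨[1, 2, 4, 6, 8, 5, 2], [], 16, true⟩, ⟨[1, 2, 2, 5, 4, 6, 8, 2], [], 17, true⟩, ⟨[5, 8, 7, 7, 8, 5], [], 18, true⟩, ⟨[2, 4, 1, 2, 5, 6, 6, 8], [], 19, true⟩, ⟨[8, 3, 4, 4, 3, 8], [], 20, true⟩, ⟨[1, 3, 2, 8, 2, 1, 8, 6, 5, 8, 7], [], 21, true⟩, ⟨[1, 6, 4, 5, 6, 4, 5, 6, 8], [], 22, true⟩, ⟨[1, 3, 4, 2, 1, 4, 2, 2, 1, 4, 6, 7], [], 23, true⟩, ⟨[1, 3, 6, 8, 6, 8, 6, 5, 2, 7], [], 24, true⟩, ⟨[1, 3, 2, 1, 1, 4, 2, 4, 6, 1, 2, 7], [], 25, true⟩, ⟨[1, 6, 7, 2, 2, 3, 6, 6, 3, 6, 7, 2], [], 26, true⟩, ⟨[4, 6, 7, 2, 7, 6, 1, 6, 3, 2, 4, 6], [], 27, true⟩, ⟨[4, 1, 3, 2, 8, 2, 7, 4, 2, 1, 2, 7, 8, 7, 2, 2, 7, 2, 2], [], 28, true⟩]) hPZ (AllP.cons (hT.one rel0) (AllP.cons (hT.one rel1) (AllP.cons (hT.one rel2) (AllP.cons (hT.one rel3) (AllP.cons (hT.one rel4) (AllP.cons (hT.one rel5) (AllP.cons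 (hT.one rel6) (AllP.cons (hT.one rel7) (AllP.cons (hT.one rel8) (AllP.cons (hT.one rel9) (AllP.cons (hT.one rel10) (AllP.cons (hT.one rel11) (AllP.cons (hT.one rel12) (AllP.cons (hT.one rel13) (AllP.cons (hT.one rel14) (AllP.cons (hT.one rel15) (AllP.cons (hT.one rel16) (AllP.cons (hT.one rel17) (AllP.cons (hT.one rel18) (AllP.cons (hT.one rel19) (AllP.cons (hT.one rel20) (AllP.cons (hT.one rel21) (AllP.cons (hT.one rel22) (AllP.cons (hT.one rel23) (AllP.cons (hT.one rel24) (AllP.cons (hT.one rel25) (AllP.cons (hT.one rel26) (AllP.cons (hT.one rel27) (AllP.cons (hT.one rel28) (AllP.nil)))))))))))))))))))))))))))))) (by decide +kernel)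

section
variable {G : Type} [Group G] {a : ℕ → G} (hi : IvOk (2 * 0) a) (hR : ∀ r ∈ RL, ev a r = 1)
  {H : Subgroup G} (hb : ∀ z ∈ base, letV a EX z ∈ H)
include hi hR hb

theorem let1 : LetOk H (letV a EX) T L 1 :=
  LetOk.of hT tl1 cov1 (AllP.cons (Just.rot hT hi hR rot1_1 rot1_1r) (AllP.cons (Just.rot hT hi hR rot1_2 rot1_2r) (AllP.cons (Just.rot hT hi hR rot1_3 rot1_3r) (AllP.cons (Just.rot hT hi hR rot1_4 rot1_4r) (AllP.cons (Just.rot hT hi hR rot1_5 rot1_5r) (AllP.cons (Just.rot hT hi hR rot1_6 rot1_6r) (AllP.cons (Just.rot hT hi hR rot1_7 rot1_7r) (AllP.cons (Just.rot hT hi hR rot1_8 rot1_8r) (AllP.cons (Just.rot hT hi hR rot1_9 rot1_9r) (AllP.cons (Just.rot hT hi hR rot1_10 rot1_10r) (AllP.cons (Just.rot hT hi hR rot1_11 rot1_11r) (AllP.cons (Just.rot hT hi hR rot1_12 rot1_12r) (AllP.cons (Just.rot hT hi hR rot1_13 rot1_13r) (AllP.cons (Just.rot hT hi hR rot1_14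 rot1_14r) (AllP.cons (Just.rot hT hi hR rot1_15 rot1_15r) (AllP.cons (Just.rot hT hi hR rot1_16 rot1_16r) (AllP.cons (Just.rot hT hi hR rot1_17 rot1_17r) (AllP.cons (Just.rot hT hi hR rot1_18 rot1_18r) (AllP.cons (Just.rot hT hi hR rot1_19 rot1_19r) (AllP.cons (Just.rot hT hi hR rot1_20 rot1_20r) (AllP.cons (Just.rot hT hi hR rot1_21 rot1_21r) (AllP.cons (Just.rot hT hi hR rot1_22 rot1_22r) (AllP.cons (Just.rot hT hi hR rot1_23 rot1_23r) (AllP.cons (Just.rot hT hi hR rot1_24 rot1_24r) (AllP.cons (Just.rot hT hi hR rot1_25 rot1_25r) (AllP.cons (Just.rot hT hi hR rot1_26 rot1_26r) (AllP.cons (Just.rot hT hi hR rot1_27 rot1_27r) (AllP.cons (Just.rot hT hi hR rot1_28 rot1_28r) (AllP.cons (Just.rot hT hi hR rot1_29 rot1_29r) (AllP.cons (Just.rot hT hi hR rot1_30 rot1_30r) (AllP.cons (Just.rot hT hi hR rot1_31 rot1_31r) (AllP.cons (Just.rot hT hi hR rot1_32 rot1_32r) (AllP.cons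 (Just.rot hT hi hR rot1_33 rot1_33r) (AllP.cons (Just.rot hT hi hR rot1_34 rot1_34r) (AllP.cons (Just.rot hT hi hR rot1_35 rot1_35r) (AllP.cons (Just.rot hT hi hR rot1_36 rot1_36r) (AllP.cons (Just.rot hT hi hR rot1_37 rot1_37r) (AllP.cons (Just.rot hT hi hR rot1_38 rot1_38r) (AllP.cons (Just.rot hT hi hR rot1_39 rot1_39r) (AllP.nil))))))))))))))))))))))))))))))))))))))))
theorem let2 : LetOk H (letV a EX) T L 2 :=
  LetOk.of hT tl2 cov2 (AllP.cons (Just.rot hT hi hR rot2_1 rot2_1r) (AllP.cons (Just.rot hT hi hR rot2_2 rot2_2r) (AllP.cons (Just.rot hT hi hR rot2_3 rot2_3r) (AllP.cons (Just.rot hT hi hR rot2_4 rot2_4r) (AllP.cons (Just.rot hT hi hR rot2_5 rot2_5r) (AllP.cons (Just.rot hT hi hR rot2_6 rot2_6r) (AllP.cons (Just.rot hT hi hR rot2_7 rot2_7r) (AllP.cons (Just.rot hT hi hR rot2_8 rot2_8r) (AllP.cons (Just.rot hT hi hR rot2_9 rot2_9r) (AllP.cons (Just.rot hT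 hi hR rot2_10 rot2_10r) (AllP.cons (Just.rot hT hi hR rot2_11 rot2_11r) (AllP.cons (Just.rot hT hi hR rot2_12 rot2_12r) (AllP.cons (Just.rot hT hi hR rot2_13 rot2_13r) (AllP.cons (Just.rot hT hi hR rot2_14 rot2_14r) (AllP.cons (Just.rot hT hi hR rot2_15 rot2_15r) (AllP.cons (Just.rot hT hi hR rot2_16 rot2_16r) (AllP.cons (Just.rot hT hi hR rot2_17 rot2_17r) (AllP.cons (Just.rot hT hi hR rot2_18 rot2_18r) (AllP.cons (Just.rot hT hi hR rot2_19 rot2_19r) (AllP.cons (Just.rot hT hi hR rot2_20 rot2_20r) (AllP.cons (Just.rot hT hi hR rot2_21 rot2_21r) (AllP.cons (Just.rot hT hi hR rot2_22 rot2_22r) (AllP.cons (Just.rot hT hi hR rot2_23 rot2_23r) (AllP.cons (Just.rot hT hi hR rot2_24 rot2_24r) (AllP.cons (Just.rot hT hi hR rot2_25 rot2_25r) (AllP.cons (Just.rot hT hi hR rot2_26 rot2_26r) (AllP.cons (Just.rot hT hi hR rot2_27 rot2_27r) (AllP.cons (Just.rot hT hi hR rot2_28 rot2_28r)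 (AllP.cons (Just.rot hT hi hR rot2_29 rot2_29r) (AllP.cons (Just.rot hT hi hR rot2_30 rot2_30r) (AllP.cons (Just.rot hT hi hR rot2_31 rot2_31r) (AllP.cons (Just.rot hT hi hR rot2_32 rot2_32r) (AllP.cons (Just.rot hT hi hR rot2_33 rot2_33r) (AllP.cons (Just.rot hT hi hR rot2_34 rot2_34r) (AllP.cons (Just.rot hT hi hR rot2_35 rot2_35r) (AllP.cons (Just.rot hT hi hR rot2_36 rot2_36r) (AllP.cons (Just.rot hT hi hR rot2_37 rot2_37r) (AllP.cons (Just.rot hT hi hR rot2_38 rot2_38r) (AllP.cons (Just.rot hT hi hR rot2_39 rot2_39r) (AllP.cons (Just.rot hT hi hR rot2_40 rot2_40r) (AllP.cons (Just.rot hT hi hR rot2_41 rot2_41r) (AllP.cons (Just.rot hT hi hR rot2_42 rot2_42r) (AllP.cons (Just.rot hT hi hR rot2_43 rot2_43r) (AllP.cons (Just.rot hT hi hR rot2_44 rot2_44r) (AllP.cons (Just.rot hT hi hR rot2_45 rot2_45r) (AllP.cons (Just.rot hT hi hR rot2_46 rot2_46r) (AllP.cons (Just.rot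 hT hi hR rot2_47 rot2_47r) (AllP.cons (Just.rot hT hi hR rot2_48 rot2_48r) (AllP.cons (Just.rot hT hi hR rot2_49 rot2_49r) (AllP.cons (Just.rot hT hi hR rot2_50 rot2_50r) (AllP.cons (Just.rot hT hi hR rot2_51 rot2_51r) (AllP.cons (Just.rot hT hi hR rot2_52 rot2_52r) (AllP.cons (Just.rot hT hi hR rot2_53 rot2_53r) (AllP.cons (Just.rot hT hi hR rot2_54 rot2_54r) (AllP.cons (Just.rot hT hi hR rot2_55 rot2_55r) (AllP.cons (Just.rot hT hi hR rot2_56 rot2_56r) (AllP.cons (Just.rot hT hi hR rot2_57 rot2_57r) (AllP.cons (Just.rot hT hi hR rot2_58 rot2_58r) (AllP.cons (Just.rot hT hi hR rot2_59 rot2_59r) (AllP.cons (Just.rot hT hi hR rot2_60 rot2_60r) (AllP.cons (Just.rot hT hi hR rot2_61 rot2_61r) (AllP.cons (Just.rot hT hi hR rot2_62 rot2_62r) (AllP.cons (Just.rot hT hi hR rot2_63 rot2_63r) (AllP.cons (Just.rot hT hi hR rot2_64 rot2_64r) (AllP.cons (Just.rot hT hi hR rot2_65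 rot2_65r) (AllP.cons (Just.rot hT hi hR rot2_66 rot2_66r) (AllP.cons (Just.rot hT hi hR rot2_67 rot2_67r) (AllP.cons (Just.rot hT hi hR rot2_68 rot2_68r) (AllP.cons (Just.rot hT hi hR rot2_69 rot2_69r) (AllP.cons (Just.rot hT hi hR rot2_70 rot2_70r) (AllP.cons (Just.rot hT hi hR rot2_71 rot2_71r) (AllP.cons (Just.rot hT hi hR rot2_72 rot2_72r) (AllP.cons (Just.rot hT hi hR rot2_73 rot2_73r) (AllP.cons (Just.rot hT hi hR rot2_74 rot2_74r) (AllP.cons (Just.rot hT hi hR rot2_75 rot2_75r) (AllP.cons (Just.rot hT hi hR rot2_76 rot2_76r) (AllP.cons (Just.rot hT hi hR rot2_77 rot2_77r) (AllP.cons (Just.rot hT hi hR rot2_78 rot2_78r) (AllP.cons (Just.rot hT hi hR rot2_79 rot2_79r) (AllP.cons (Just.rot hT hi hR rot2_80 rot2_80r) (AllP.cons (Just.rot hT hi hR rot2_81 rot2_81r) (AllP.cons (Just.rot hT hi hR rot2_82 rot2_82r) (AllP.cons (Just.rot hT hi hR rot2_83 rot2_83r) (AllP.cons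 (Just.rot hT hi hR rot2_84 rot2_84r) (AllP.cons (Just.rot hT hi hR rot2_85 rot2_85r) (AllP.cons (Just.rot hT hi hR rot2_86 rot2_86r) (AllP.cons (Just.rot hT hi hR rot2_87 rot2_87r) (AllP.cons (Just.rot hT hi hR rot2_88 rot2_88r) (AllP.cons (Just.rot hT hi hR rot2_89 rot2_89r) (AllP.cons (Just.rot hT hi hR rot2_90 rot2_90r) (AllP.cons (Just.rot hT hi hR rot2_91 rot2_91r) (AllP.cons (Just.rot hT hi hR rot2_92 rot2_92r) (AllP.cons (Just.rot hT hi hR rot2_93 rot2_93r) (AllP.cons (Just.rot hT hi hR rot2_94 rot2_94r) (AllP.cons (Just.rot hT hi hR rot2_95 rot2_95r) (AllP.cons (Just.rot hT hi hR rot2_96 rot2_96r) (AllP.cons (Just.rot hT hi hR rot2_97 rot2_97r) (AllP.cons (Just.rot hT hi hR rot2_98 rot2_98r) (AllP.cons (Just.rot hT hi hR rot2_99 rot2_99r) (AllP.cons (Just.rot hT hi hR rot2_100 rot2_100r) (AllP.cons (Just.rot hT hi hR rot2_101 rot2_101r) (AllP.cons (Just.rot hT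 hi hR rot2_102 rot2_102r) (AllP.cons (Just.rot hT hi hR rot2_103 rot2_103r) (AllP.cons (Just.rot hT hi hR rot2_104 rot2_104r) (AllP.cons (Just.rot hT hi hR rot2_105 rot2_105r) (AllP.cons (Just.rot hT hi hR rot2_106 rot2_106r) (AllP.cons (Just.rot hT hi hR rot2_107 rot2_107r) (AllP.cons (Just.rot hT hi hR rot2_108 rot2_108r) (AllP.cons (Just.rot hT hi hR rot2_109 rot2_109r) (AllP.cons (Just.rot hT hi hR rot2_110 rot2_110r) (AllP.cons (Just.rot hT hi hR rot2_111 rot2_111r) (AllP.cons (Just.rot hT hi hR rot2_112 rot2_112r) (AllP.cons (Just.rot hT hi hR rot2_113 rot2_113r) (AllP.cons (Just.rot hT hi hR rot2_114 rot2_114r) (AllP.cons (Just.rot hT hi hR rot2_115 rot2_115r) (AllP.cons (Just.rot hT hi hR rot2_116 rot2_116r) (AllP.cons (Just.rot hT hi hR rot2_117 rot2_117r) (AllP.cons (Just.rot hT hi hR rot2_118 rot2_118r) (AllP.cons (Just.rot hT hi hR rot2_119 rot2_119r) (AllP.cons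 (Just.rot hT hi hR rot2_120 rot2_120r) (AllP.cons (Just.rot hT hi hR rot2_121 rot2_121r) (AllP.cons (Just.rot hT hi hR rot2_122 rot2_122r) (AllP.cons (Just.rot hT hi hR rot2_123 rot2_123r) (AllP.cons (Just.rot hT hi hR rot2_124 rot2_124r) (AllP.cons (Just.rot hT hi hR rot2_125 rot2_125r) (AllP.cons (Just.rot hT hi hR rot2_126 rot2_126r) (AllP.cons (Just.rot hT hi hR rot2_127 rot2_127r) (AllP.cons (Just.rot hT hi hR rot2_128 rot2_128r) (AllP.cons (Just.rot hT hi hR rot2_129 rot2_129r) (AllP.cons (Just.rot hT hi hR rot2_130 rot2_130r) (AllP.cons (Just.rot hT hi hR rot2_131 rot2_131r) (AllP.cons (Just.rot hT hi hR rot2_132 rot2_132r) (AllP.cons (Just.rot hT hi hR rot2_133 rot2_133r) (AllP.cons (Just.rot hT hi hR rot2_134 rot2_134r) (AllP.cons (Just.rot hT hi hR rot2_135 rot2_135r) (AllP.cons (Just.rot hT hi hR rot2_136 rot2_136r) (AllP.cons (Just.base (hb 2 (by decide)))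 (AllP.nil))))))))))))))))))))))))))))))))))))))))))))))))))))))))))))))))))))))))))))))))))))))))))))))))))))))))))))))))))))))))))))))))))))))))))
theorem let3 : LetOk H (letV a EX) T L 3 :=
  LetOk.of hT tl3 cov3 (AllP.cons (Just.rot hT hi hR rot3_1 rot3_1r) (AllP.cons (Just.rot hT hi hR rot3_2 rot3_2r) (AllP.cons (Just.rot hT hi hR rot3_3 rot3_3r) (AllP.cons (Just.rot hT hi hR rot3_4 rot3_4r) (AllP.cons (Just.rot hT hi hR rot3_5 rot3_5r) (AllP.cons (Just.rot hT hi hR rot3_6 rot3_6r) (AllP.cons (Just.rot hT hi hR rot3_7 rot3_7r) (AllP.cons (Just.rot hT hi hR rot3_8 rot3_8r) (AllP.cons (Just.rot hT hi hR rot3_9 rot3_9r) (AllP.cons (Just.rot hT hi hR rot3_10 rot3_10r) (AllP.cons (Just.rot hT hi hR rot3_11 rot3_11r) (AllP.cons (Just.rot hT hi hR rot3_12 rot3_12r) (AllP.cons (Just.rot hT hi hR rot3_13 rot3_13r) (AllP.cons (Just.rot hT hi hR rot3_14 rot3_14r) (AllP.cons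 (Just.rot hT hi hR rot3_15 rot3_15r) (AllP.cons (Just.rot hT hi hR rot3_16 rot3_16r) (AllP.cons (Just.rot hT hi hR rot3_17 rot3_17r) (AllP.cons (Just.rot hT hi hR rot3_18 rot3_18r) (AllP.cons (Just.rot hT hi hR rot3_19 rot3_19r) (AllP.cons (Just.rot hT hi hR rot3_20 rot3_20r) (AllP.cons (Just.rot hT hi hR rot3_21 rot3_21r) (AllP.cons (Just.rot hT hi hR rot3_22 rot3_22r) (AllP.cons (Just.rot hT hi hR rot3_23 rot3_23r) (AllP.cons (Just.rot hT hi hR rot3_24 rot3_24r) (AllP.cons (Just.rot hT hi hR rot3_25 rot3_25r) (AllP.cons (Just.rot hT hi hR rot3_26 rot3_26r) (AllP.cons (Just.rot hT hi hR rot3_27 rot3_27r) (AllP.cons (Just.rot hT hi hR rot3_28 rot3_28r) (AllP.cons (Just.rot hT hi hR rot3_29 rot3_29r) (AllP.cons (Just.rot hT hi hR rot3_30 rot3_30r) (AllP.cons (Just.rot hT hi hR rot3_31 rot3_31r) (AllP.cons (Just.rot hT hi hR rot3_32 rot3_32r) (AllP.cons (Just.rot hT hi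 hR rot3_33 rot3_33r) (AllP.cons (Just.rot hT hi hR rot3_34 rot3_34r) (AllP.cons (Just.rot hT hi hR rot3_35 rot3_35r) (AllP.cons (Just.rot hT hi hR rot3_36 rot3_36r) (AllP.cons (Just.rot hT hi hR rot3_37 rot3_37r) (AllP.cons (Just.rot hT hi hR rot3_38 rot3_38r) (AllP.cons (Just.rot hT hi hR rot3_39 rot3_39r) (AllP.cons (Just.rot hT hi hR rot3_40 rot3_40r) (AllP.cons (Just.rot hT hi hR rot3_41 rot3_41r) (AllP.cons (Just.rot hT hi hR rot3_42 rot3_42r) (AllP.cons (Just.rot hT hi hR rot3_43 rot3_43r) (AllP.cons (Just.rot hT hi hR rot3_44 rot3_44r) (AllP.cons (Just.rot hT hi hR rot3_45 rot3_45r) (AllP.cons (Just.rot hT hi hR rot3_46 rot3_46r) (AllP.cons (Just.rot hT hi hR rot3_47 rot3_47r) (AllP.cons (Just.rot hT hi hR rot3_48 rot3_48r) (AllP.cons (Just.rot hT hi hR rot3_49 rot3_49r) (AllP.cons (Just.rot hT hi hR rot3_50 rot3_50r) (AllP.cons (Just.rot hT hi hR rot3_51 rot3_51r)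 (AllP.cons (Just.rot hT hi hR rot3_52 rot3_52r) (AllP.cons (Just.rot hT hi hR rot3_53 rot3_53r) (AllP.cons (Just.rot hT hi hR rot3_54 rot3_54r) (AllP.cons (Just.rot hT hi hR rot3_55 rot3_55r) (AllP.cons (Just.rot hT hi hR rot3_56 rot3_56r) (AllP.cons (Just.rot hT hi hR rot3_57 rot3_57r) (AllP.cons (Just.rot hT hi hR rot3_58 rot3_58r) (AllP.cons (Just.rot hT hi hR rot3_59 rot3_59r) (AllP.cons (Just.rot hT hi hR rot3_60 rot3_60r) (AllP.cons (Just.rot hT hi hR rot3_61 rot3_61r) (AllP.cons (Just.rot hT hi hR rot3_62 rot3_62r) (AllP.cons (Just.rot hT hi hR rot3_63 rot3_63r) (AllP.cons (Just.rot hT hi hR rot3_64 rot3_64r) (AllP.cons (Just.rot hT hi hR rot3_65 rot3_65r) (AllP.cons (Just.rot hT hi hR rot3_66 rot3_66r) (AllP.cons (Just.rot hT hi hR rot3_67 rot3_67r) (AllP.cons (Just.rot hT hi hR rot3_68 rot3_68r) (AllP.cons (Just.rot hT hi hR rot3_69 rot3_69r) (AllP.cons (Just.rot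 hT hi hR rot3_70 rot3_70r) (AllP.cons (Just.rot hT hi hR rot3_71 rot3_71r) (AllP.cons (Just.rot hT hi hR rot3_72 rot3_72r) (AllP.cons (Just.rot hT hi hR rot3_73 rot3_73r) (AllP.cons (Just.rot hT hi hR rot3_74 rot3_74r) (AllP.cons (Just.rot hT hi hR rot3_75 rot3_75r) (AllP.cons (Just.rot hT hi hR rot3_76 rot3_76r) (AllP.cons (Just.rot hT hi hR rot3_77 rot3_77r) (AllP.cons (Just.rot hT hi hR rot3_78 rot3_78r) (AllP.cons (Just.rot hT hi hR rot3_79 rot3_79r) (AllP.cons (Just.rot hT hi hR rot3_80 rot3_80r) (AllP.cons (Just.rot hT hi hR rot3_81 rot3_81r) (AllP.cons (Just.rot hT hi hR rot3_82 rot3_82r) (AllP.cons (Just.rot hT hi hR rot3_83 rot3_83r) (AllP.cons (Just.rot hT hi hR rot3_84 rot3_84r) (AllP.cons (Just.rot hT hi hR rot3_85 rot3_85r) (AllP.cons (Just.rot hT hi hR rot3_86 rot3_86r) (AllP.cons (Just.rot hT hi hR rot3_87 rot3_87r) (AllP.cons (Just.rot hT hi hR rot3_88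 rot3_88r) (AllP.cons (Just.rot hT hi hR rot3_89 rot3_89r) (AllP.cons (Just.rot hT hi hR rot3_90 rot3_90r) (AllP.cons (Just.rot hT hi hR rot3_91 rot3_91r) (AllP.cons (Just.rot hT hi hR rot3_92 rot3_92r) (AllP.cons (Just.rot hT hi hR rot3_93 rot3_93r) (AllP.cons (Just.rot hT hi hR rot3_94 rot3_94r) (AllP.cons (Just.rot hT hi hR rot3_95 rot3_95r) (AllP.cons (Just.rot hT hi hR rot3_96 rot3_96r) (AllP.cons (Just.rot hT hi hR rot3_97 rot3_97r) (AllP.cons (Just.rot hT hi hR rot3_98 rot3_98r) (AllP.cons (Just.rot hT hi hR rot3_99 rot3_99r) (AllP.cons (Just.rot hT hi hR rot3_100 rot3_100r) (AllP.cons (Just.rot hT hi hR rot3_101 rot3_101r) (AllP.cons (Just.rot hT hi hR rot3_102 rot3_102r) (AllP.cons (Just.rot hT hi hR rot3_103 rot3_103r) (AllP.cons (Just.rot hT hi hR rot3_104 rot3_104r) (AllP.cons (Just.rot hT hi hR rot3_105 rot3_105r) (AllP.cons (Just.rot hT hi hR rot3_106 rot3_106r)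 (AllP.cons (Just.rot hT hi hR rot3_107 rot3_107r) (AllP.cons (Just.rot hT hi hR rot3_108 rot3_108r) (AllP.cons (Just.rot hT hi hR rot3_109 rot3_109r) (AllP.cons (Just.rot hT hi hR rot3_110 rot3_110r) (AllP.cons (Just.base (hb 3 (by decide))) (AllP.nil))))))))))))))))))))))))))))))))))))))))))))))))))))))))))))))))))))))))))))))))))))))))))))))))))))))))))))))))
theorem let4 : LetOk H (letV a EX) T L 4 :=
  LetOk.of hT tl4 cov4 (AllP.cons (Just.rot hT hi hR rot4_1 rot4_1r) (AllP.cons (Just.rot hT hi hR rot4_2 rot4_2r) (AllP.cons (Just.rot hT hi hR rot4_3 rot4_3r) (AllP.cons (Just.rot hT hi hR rot4_4 rot4_4r) (AllP.cons (Just.rot hT hi hR rot4_5 rot4_5r) (AllP.cons (Just.rot hT hi hR rot4_6 rot4_6r) (AllP.cons (Just.rot hT hi hR rot4_7 rot4_7r) (AllP.cons (Just.rot hT hi hR rot4_8 rot4_8r) (AllP.cons (Just.rot hT hi hR rot4_9 rot4_9r) (AllP.cons (Just.rot hT hi hR rot4_10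 rot4_10r) (AllP.cons (Just.rot hT hi hR rot4_11 rot4_11r) (AllP.cons (Just.rot hT hi hR rot4_12 rot4_12r) (AllP.cons (Just.rot hT hi hR rot4_13 rot4_13r) (AllP.cons (Just.rot hT hi hR rot4_14 rot4_14r) (AllP.cons (Just.rot hT hi hR rot4_15 rot4_15r) (AllP.cons (Just.rot hT hi hR rot4_16 rot4_16r) (AllP.cons (Just.rot hT hi hR rot4_17 rot4_17r) (AllP.cons (Just.rot hT hi hR rot4_18 rot4_18r) (AllP.cons (Just.rot hT hi hR rot4_19 rot4_19r) (AllP.cons (Just.rot hT hi hR rot4_20 rot4_20r) (AllP.cons (Just.rot hT hi hR rot4_21 rot4_21r) (AllP.cons (Just.rot hT hi hR rot4_22 rot4_22r) (AllP.cons (Just.rot hT hi hR rot4_23 rot4_23r) (AllP.cons (Just.rot hT hi hR rot4_24 rot4_24r) (AllP.cons (Just.rot hT hi hR rot4_25 rot4_25r) (AllP.cons (Just.rot hT hi hR rot4_26 rot4_26r) (AllP.cons (Just.rot hT hi hR rot4_27 rot4_27r) (AllP.cons (Just.rot hT hi hR rot4_28 rot4_28r) (AllP.cons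 (Just.rot hT hi hR rot4_29 rot4_29r) (AllP.cons (Just.rot hT hi hR rot4_30 rot4_30r) (AllP.cons (Just.rot hT hi hR rot4_31 rot4_31r) (AllP.cons (Just.rot hT hi hR rot4_32 rot4_32r) (AllP.cons (Just.rot hT hi hR rot4_33 rot4_33r) (AllP.cons (Just.rot hT hi hR rot4_34 rot4_34r) (AllP.cons (Just.rot hT hi hR rot4_35 rot4_35r) (AllP.cons (Just.rot hT hi hR rot4_36 rot4_36r) (AllP.cons (Just.rot hT hi hR rot4_37 rot4_37r) (AllP.cons (Just.rot hT hi hR rot4_38 rot4_38r) (AllP.cons (Just.rot hT hi hR rot4_39 rot4_39r) (AllP.nil))))))))))))))))))))))))))))))))))))))))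
theorem let5 : LetOk H (letV a EX) T L 5 :=
  LetOk.of hT tl5 cov5 (AllP.cons (Just.rot hT hi hR rot5_1 rot5_1r) (AllP.cons (Just.rot hT hi hR rot5_2 rot5_2r) (AllP.cons (Just.rot hT hi hR rot5_3 rot5_3r) (AllP.cons (Just.rot hT hi hR rot5_4 rot5_4r) (AllP.cons (Just.rot hT hi hR rot5_5 rot5_5r) (AllP.cons (Just.rot hT hi hR rot5_6 rot5_6r) (AllP.cons (Just.rot hT hi hR rot5_7 rot5_7r) (AllP.cons (Just.rot hT hi hR rot5_8 rot5_8r) (AllP.cons (Just.rot hT hi hR rot5_9 rot5_9r) (AllP.cons (Just.rot hT hi hR rot5_10 rot5_10r) (AllP.cons (Just.rot hT hi hR rot5_11 rot5_11r) (AllP.cons (Just.rot hT hi hR rot5_12 rot5_12r) (AllP.cons (Just.rot hT hi hR rot5_13 rot5_13r) (AllP.cons (Just.rot hT hi hR rot5_14 rot5_14r) (AllP.cons (Just.rot hT hi hR rot5_15 rot5_15r) (AllP.cons (Just.rot hT hi hR rot5_16 rot5_16r) (AllP.cons (Just.rot hT hi hR rot5_17 rot5_17r) (AllP.cons (Just.rot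 hT hi hR rot5_18 rot5_18r) (AllP.cons (Just.rot hT hi hR rot5_19 rot5_19r) (AllP.cons (Just.rot hT hi hR rot5_20 rot5_20r) (AllP.cons (Just.rot hT hi hR rot5_21 rot5_21r) (AllP.cons (Just.rot hT hi hR rot5_22 rot5_22r) (AllP.cons (Just.rot hT hi hR rot5_23 rot5_23r) (AllP.cons (Just.rot hT hi hR rot5_24 rot5_24r) (AllP.cons (Just.rot hT hi hR rot5_25 rot5_25r) (AllP.cons (Just.rot hT hi hR rot5_26 rot5_26r) (AllP.cons (Just.rot hT hi hR rot5_27 rot5_27r) (AllP.cons (Just.rot hT hi hR rot5_28 rot5_28r) (AllP.cons (Just.rot hT hi hR rot5_29 rot5_29r) (AllP.cons (Just.rot hT hi hR rot5_30 rot5_30r) (AllP.cons (Just.rot hT hi hR rot5_31 rot5_31r) (AllP.cons (Just.rot hT hi hR rot5_32 rot5_32r) (AllP.cons (Just.rot hT hi hR rot5_33 rot5_33r) (AllP.cons (Just.rot hT hi hR rot5_34 rot5_34r) (AllP.cons (Just.rot hT hi hR rot5_35 rot5_35r) (AllP.cons (Just.rot hT hi hR rot5_36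 rot5_36r) (AllP.cons (Just.rot hT hi hR rot5_37 rot5_37r) (AllP.cons (Just.rot hT hi hR rot5_38 rot5_38r) (AllP.cons (Just.rot hT hi hR rot5_39 rot5_39r) (AllP.nil))))))))))))))))))))))))))))))))))))))))
theorem let6 : LetOk H (letV a EX) T L 6 :=
  LetOk.of hT tl6 cov6 (AllP.cons (Just.rot hT hi hR rot6_1 rot6_1r) (AllP.cons (Just.rot hT hi hR rot6_2 rot6_2r) (AllP.cons (Just.rot hT hi hR rot6_3 rot6_3r) (AllP.cons (Just.rot hT hi hR rot6_4 rot6_4r) (AllP.cons (Just.rot hT hi hR rot6_5 rot6_5r) (AllP.cons (Just.rot hT hi hR rot6_6 rot6_6r) (AllP.cons (Just.rot hT hi hR rot6_7 rot6_7r) (AllP.cons (Just.rot hT hi hR rot6_8 rot6_8r) (AllP.cons (Just.rot hT hi hR rot6_9 rot6_9r) (AllP.cons (Just.rot hT hi hR rot6_10 rot6_10r) (AllP.cons (Just.rot hT hi hR rot6_11 rot6_11r) (AllP.cons (Just.rot hT hi hR rot6_12 rot6_12r) (AllP.cons (Just.rot hT hi hR rot6_13 rot6_13r) (AllP.cons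 (Just.rot hT hi hR rot6_14 rot6_14r) (AllP.cons (Just.rot hT hi hR rot6_15 rot6_15r) (AllP.cons (Just.rot hT hi hR rot6_16 rot6_16r) (AllP.cons (Just.rot hT hi hR rot6_17 rot6_17r) (AllP.cons (Just.rot hT hi hR rot6_18 rot6_18r) (AllP.cons (Just.rot hT hi hR rot6_19 rot6_19r) (AllP.cons (Just.rot hT hi hR rot6_20 rot6_20r) (AllP.cons (Just.rot hT hi hR rot6_21 rot6_21r) (AllP.cons (Just.rot hT hi hR rot6_22 rot6_22r) (AllP.cons (Just.rot hT hi hR rot6_23 rot6_23r) (AllP.cons (Just.rot hT hi hR rot6_24 rot6_24r) (AllP.cons (Just.rot hT hi hR rot6_25 rot6_25r) (AllP.cons (Just.rot hT hi hR rot6_26 rot6_26r) (AllP.cons (Just.rot hT hi hR rot6_27 rot6_27r) (AllP.cons (Just.rot hT hi hR rot6_28 rot6_28r) (AllP.cons (Just.rot hT hi hR rot6_29 rot6_29r) (AllP.cons (Just.rot hT hi hR rot6_30 rot6_30r) (AllP.cons (Just.rot hT hi hR rot6_31 rot6_31r) (AllP.cons (Just.rot hT hi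 hR rot6_32 rot6_32r) (AllP.cons (Just.rot hT hi hR rot6_33 rot6_33r) (AllP.cons (Just.rot hT hi hR rot6_34 rot6_34r) (AllP.cons (Just.rot hT hi hR rot6_35 rot6_35r) (AllP.cons (Just.rot hT hi hR rot6_36 rot6_36r) (AllP.cons (Just.rot hT hi hR rot6_37 rot6_37r) (AllP.cons (Just.rot hT hi hR rot6_38 rot6_38r) (AllP.cons (Just.rot hT hi hR rot6_39 rot6_39r) (AllP.cons (Just.rot hT hi hR rot6_40 rot6_40r) (AllP.cons (Just.rot hT hi hR rot6_41 rot6_41r) (AllP.cons (Just.rot hT hi hR rot6_42 rot6_42r) (AllP.cons (Just.rot hT hi hR rot6_43 rot6_43r) (AllP.cons (Just.rot hT hi hR rot6_44 rot6_44r) (AllP.cons (Just.rot hT hi hR rot6_45 rot6_45r) (AllP.cons (Just.rot hT hi hR rot6_46 rot6_46r) (AllP.cons (Just.rot hT hi hR rot6_47 rot6_47r) (AllP.cons (Just.rot hT hi hR rot6_48 rot6_48r) (AllP.cons (Just.rot hT hi hR rot6_49 rot6_49r) (AllP.cons (Just.rot hT hi hR rot6_50 rot6_50r)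 (AllP.cons (Just.rot hT hi hR rot6_51 rot6_51r) (AllP.cons (Just.rot hT hi hR rot6_52 rot6_52r) (AllP.cons (Just.rot hT hi hR rot6_53 rot6_53r) (AllP.cons (Just.rot hT hi hR rot6_54 rot6_54r) (AllP.cons (Just.rot hT hi hR rot6_55 rot6_55r) (AllP.cons (Just.rot hT hi hR rot6_56 rot6_56r) (AllP.cons (Just.rot hT hi hR rot6_57 rot6_57r) (AllP.cons (Just.rot hT hi hR rot6_58 rot6_58r) (AllP.cons (Just.rot hT hi hR rot6_59 rot6_59r) (AllP.cons (Just.rot hT hi hR rot6_60 rot6_60r) (AllP.cons (Just.rot hT hi hR rot6_61 rot6_61r) (AllP.cons (Just.rot hT hi hR rot6_62 rot6_62r) (AllP.cons (Just.rot hT hi hR rot6_63 rot6_63r) (AllP.cons (Just.rot hT hi hR rot6_64 rot6_64r) (AllP.cons (Just.rot hT hi hR rot6_65 rot6_65r) (AllP.cons (Just.rot hT hi hR rot6_66 rot6_66r) (AllP.cons (Just.rot hT hi hR rot6_67 rot6_67r) (AllP.cons (Just.rot hT hi hR rot6_68 rot6_68r) (AllP.cons (Just.rot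 hT hi hR rot6_69 rot6_69r) (AllP.cons (Just.rot hT hi hR rot6_70 rot6_70r) (AllP.cons (Just.rot hT hi hR rot6_71 rot6_71r) (AllP.cons (Just.rot hT hi hR rot6_72 rot6_72r) (AllP.cons (Just.rot hT hi hR rot6_73 rot6_73r) (AllP.cons (Just.rot hT hi hR rot6_74 rot6_74r) (AllP.cons (Just.rot hT hi hR rot6_75 rot6_75r) (AllP.cons (Just.rot hT hi hR rot6_76 rot6_76r) (AllP.cons (Just.rot hT hi hR rot6_77 rot6_77r) (AllP.cons (Just.rot hT hi hR rot6_78 rot6_78r) (AllP.cons (Just.rot hT hi hR rot6_79 rot6_79r) (AllP.cons (Just.rot hT hi hR rot6_80 rot6_80r) (AllP.cons (Just.rot hT hi hR rot6_81 rot6_81r) (AllP.cons (Just.rot hT hi hR rot6_82 rot6_82r) (AllP.cons (Just.rot hT hi hR rot6_83 rot6_83r) (AllP.cons (Just.rot hT hi hR rot6_84 rot6_84r) (AllP.cons (Just.rot hT hi hR rot6_85 rot6_85r) (AllP.cons (Just.rot hT hi hR rot6_86 rot6_86r) (AllP.cons (Just.rot hT hi hR rot6_87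 rot6_87r) (AllP.cons (Just.rot hT hi hR rot6_88 rot6_88r) (AllP.cons (Just.rot hT hi hR rot6_89 rot6_89r) (AllP.cons (Just.rot hT hi hR rot6_90 rot6_90r) (AllP.cons (Just.rot hT hi hR rot6_91 rot6_91r) (AllP.cons (Just.rot hT hi hR rot6_92 rot6_92r) (AllP.cons (Just.rot hT hi hR rot6_93 rot6_93r) (AllP.cons (Just.rot hT hi hR rot6_94 rot6_94r) (AllP.cons (Just.rot hT hi hR rot6_95 rot6_95r) (AllP.cons (Just.rot hT hi hR rot6_96 rot6_96r) (AllP.cons (Just.rot hT hi hR rot6_97 rot6_97r) (AllP.cons (Just.rot hT hi hR rot6_98 rot6_98r) (AllP.cons (Just.rot hT hi hR rot6_99 rot6_99r) (AllP.cons (Just.rot hT hi hR rot6_100 rot6_100r) (AllP.cons (Just.rot hT hi hR rot6_101 rot6_101r) (AllP.cons (Just.rot hT hi hR rot6_102 rot6_102r) (AllP.cons (Just.rot hT hi hR rot6_103 rot6_103r) (AllP.cons (Just.rot hT hi hR rot6_104 rot6_104r) (AllP.cons (Just.rot hT hi hR rot6_105 rot6_105r)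 (AllP.cons (Just.rot hT hi hR rot6_106 rot6_106r) (AllP.cons (Just.rot hT hi hR rot6_107 rot6_107r) (AllP.cons (Just.rot hT hi hR rot6_108 rot6_108r) (AllP.cons (Just.rot hT hi hR rot6_109 rot6_109r) (AllP.cons (Just.rot hT hi hR rot6_110 rot6_110r) (AllP.cons (Just.rot hT hi hR rot6_111 rot6_111r) (AllP.cons (Just.rot hT hi hR rot6_112 rot6_112r) (AllP.cons (Just.rot hT hi hR rot6_113 rot6_113r) (AllP.cons (Just.rot hT hi hR rot6_114 rot6_114r) (AllP.cons (Just.rot hT hi hR rot6_115 rot6_115r) (AllP.cons (Just.rot hT hi hR rot6_116 rot6_116r) (AllP.cons (Just.rot hT hi hR rot6_117 rot6_117r) (AllP.cons (Just.rot hT hi hR rot6_118 rot6_118r) (AllP.cons (Just.rot hT hi hR rot6_119 rot6_119r) (AllP.cons (Just.rot hT hi hR rot6_120 rot6_120r) (AllP.cons (Just.rot hT hi hR rot6_121 rot6_121r) (AllP.cons (Just.rot hT hi hR rot6_122 rot6_122r) (AllP.cons (Just.rot hT hi hR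 rot6_123 rot6_123r) (AllP.cons (Just.rot hT hi hR rot6_124 rot6_124r) (AllP.cons (Just.rot hT hi hR rot6_125 rot6_125r) (AllP.cons (Just.rot hT hi hR rot6_126 rot6_126r) (AllP.cons (Just.rot hT hi hR rot6_127 rot6_127r) (AllP.cons (Just.rot hT hi hR rot6_128 rot6_128r) (AllP.cons (Just.rot hT hi hR rot6_129 rot6_129r) (AllP.cons (Just.rot hT hi hR rot6_130 rot6_130r) (AllP.cons (Just.rot hT hi hR rot6_131 rot6_131r) (AllP.cons (Just.rot hT hi hR rot6_132 rot6_132r) (AllP.cons (Just.rot hT hi hR rot6_133 rot6_133r) (AllP.cons (Just.rot hT hi hR rot6_134 rot6_134r) (AllP.cons (Just.rot hT hi hR rot6_135 rot6_135r) (AllP.cons (Just.rot hT hi hR rot6_136 rot6_136r) (AllP.cons (Just.rot hT hi hR rot6_137 rot6_137r) (AllP.cons (Just.rot hT hi hR rot6_138 rot6_138r) (AllP.cons (Just.rot hT hi hR rot6_139 rot6_139r) (AllP.nil))))))))))))))))))))))))))))))))))))))))))))))))))))))))))))))))))))))))))))))))))))))))))))))))))))))))))))))))))))))))))))))))))))))))))))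
theorem let7 : LetOk H (letV a EX) T L 7 :=
  LetOk.of hT tl7 cov7 (AllP.cons (Just.rot hT hi hR rot7_1 rot7_1r) (AllP.cons (Just.rot hT hi hR rot7_2 rot7_2r) (AllP.cons (Just.rot hT hi hR rot7_3 rot7_3r) (AllP.cons (Just.rot hT hi hR rot7_4 rot7_4r) (AllP.cons (Just.rot hT hi hR rot7_5 rot7_5r) (AllP.cons (Just.rot hT hi hR rot7_6 rot7_6r) (AllP.cons (Just.rot hT hi hR rot7_7 rot7_7r) (AllP.cons (Just.rot hT hi hR rot7_8 rot7_8r) (AllP.cons (Just.rot hT hi hR rot7_9 rot7_9r) (AllP.cons (Just.rot hT hi hR rot7_10 rot7_10r) (AllP.cons (Just.rot hT hi hR rot7_11 rot7_11r) (AllP.cons (Just.rot hT hi hR rot7_12 rot7_12r) (AllP.cons (Just.rot hT hi hR rot7_13 rot7_13r) (AllP.cons (Just.rot hT hi hR rot7_14 rot7_14r) (AllP.cons (Just.rot hT hi hR rot7_15 rot7_15r) (AllP.cons (Just.rot hT hi hR rot7_16 rot7_16r) (AllP.cons (Just.rot hT hi hR rot7_17 rot7_17r) (AllP.cons (Just.rot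 hT hi hR rot7_18 rot7_18r) (AllP.cons (Just.rot hT hi hR rot7_19 rot7_19r) (AllP.cons (Just.rot hT hi hR rot7_20 rot7_20r) (AllP.cons (Just.rot hT hi hR rot7_21 rot7_21r) (AllP.cons (Just.rot hT hi hR rot7_22 rot7_22r) (AllP.cons (Just.rot hT hi hR rot7_23 rot7_23r) (AllP.cons (Just.rot hT hi hR rot7_24 rot7_24r) (AllP.cons (Just.rot hT hi hR rot7_25 rot7_25r) (AllP.cons (Just.rot hT hi hR rot7_26 rot7_26r) (AllP.cons (Just.rot hT hi hR rot7_27 rot7_27r) (AllP.cons (Just.rot hT hi hR rot7_28 rot7_28r) (AllP.cons (Just.rot hT hi hR rot7_29 rot7_29r) (AllP.cons (Just.rot hT hi hR rot7_30 rot7_30r) (AllP.cons (Just.rot hT hi hR rot7_31 rot7_31r) (AllP.cons (Just.rot hT hi hR rot7_32 rot7_32r) (AllP.cons (Just.rot hT hi hR rot7_33 rot7_33r) (AllP.cons (Just.rot hT hi hR rot7_34 rot7_34r) (AllP.cons (Just.rot hT hi hR rot7_35 rot7_35r) (AllP.cons (Just.rot hT hi hR rot7_36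 rot7_36r) (AllP.cons (Just.rot hT hi hR rot7_37 rot7_37r) (AllP.cons (Just.rot hT hi hR rot7_38 rot7_38r) (AllP.cons (Just.rot hT hi hR rot7_39 rot7_39r) (AllP.cons (Just.rot hT hi hR rot7_40 rot7_40r) (AllP.cons (Just.rot hT hi hR rot7_41 rot7_41r) (AllP.cons (Just.rot hT hi hR rot7_42 rot7_42r) (AllP.cons (Just.rot hT hi hR rot7_43 rot7_43r) (AllP.cons (Just.rot hT hi hR rot7_44 rot7_44r) (AllP.cons (Just.rot hT hi hR rot7_45 rot7_45r) (AllP.cons (Just.rot hT hi hR rot7_46 rot7_46r) (AllP.cons (Just.rot hT hi hR rot7_47 rot7_47r) (AllP.cons (Just.rot hT hi hR rot7_48 rot7_48r) (AllP.cons (Just.rot hT hi hR rot7_49 rot7_49r) (AllP.cons (Just.rot hT hi hR rot7_50 rot7_50r) (AllP.cons (Just.rot hT hi hR rot7_51 rot7_51r) (AllP.cons (Just.rot hT hi hR rot7_52 rot7_52r) (AllP.cons (Just.rot hT hi hR rot7_53 rot7_53r) (AllP.cons (Just.rot hT hi hR rot7_54 rot7_54r) (AllP.cons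 (Just.rot hT hi hR rot7_55 rot7_55r) (AllP.cons (Just.rot hT hi hR rot7_56 rot7_56r) (AllP.cons (Just.rot hT hi hR rot7_57 rot7_57r) (AllP.cons (Just.rot hT hi hR rot7_58 rot7_58r) (AllP.cons (Just.rot hT hi hR rot7_59 rot7_59r) (AllP.cons (Just.rot hT hi hR rot7_60 rot7_60r) (AllP.cons (Just.rot hT hi hR rot7_61 rot7_61r) (AllP.cons (Just.rot hT hi hR rot7_62 rot7_62r) (AllP.cons (Just.rot hT hi hR rot7_63 rot7_63r) (AllP.cons (Just.rot hT hi hR rot7_64 rot7_64r) (AllP.cons (Just.rot hT hi hR rot7_65 rot7_65r) (AllP.cons (Just.rot hT hi hR rot7_66 rot7_66r) (AllP.cons (Just.rot hT hi hR rot7_67 rot7_67r) (AllP.cons (Just.rot hT hi hR rot7_68 rot7_68r) (AllP.cons (Just.rot hT hi hR rot7_69 rot7_69r) (AllP.cons (Just.rot hT hi hR rot7_70 rot7_70r) (AllP.cons (Just.rot hT hi hR rot7_71 rot7_71r) (AllP.cons (Just.rot hT hi hR rot7_72 rot7_72r) (AllP.cons (Just.rot hT hi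 hR rot7_73 rot7_73r) (AllP.cons (Just.rot hT hi hR rot7_74 rot7_74r) (AllP.cons (Just.rot hT hi hR rot7_75 rot7_75r) (AllP.cons (Just.rot hT hi hR rot7_76 rot7_76r) (AllP.cons (Just.rot hT hi hR rot7_77 rot7_77r) (AllP.cons (Just.rot hT hi hR rot7_78 rot7_78r) (AllP.cons (Just.rot hT hi hR rot7_79 rot7_79r) (AllP.cons (Just.rot hT hi hR rot7_80 rot7_80r) (AllP.cons (Just.rot hT hi hR rot7_81 rot7_81r) (AllP.cons (Just.rot hT hi hR rot7_82 rot7_82r) (AllP.cons (Just.rot hT hi hR rot7_83 rot7_83r) (AllP.cons (Just.rot hT hi hR rot7_84 rot7_84r) (AllP.cons (Just.rot hT hi hR rot7_85 rot7_85r) (AllP.cons (Just.rot hT hi hR rot7_86 rot7_86r) (AllP.cons (Just.rot hT hi hR rot7_87 rot7_87r) (AllP.cons (Just.rot hT hi hR rot7_88 rot7_88r) (AllP.cons (Just.rot hT hi hR rot7_89 rot7_89r) (AllP.cons (Just.rot hT hi hR rot7_90 rot7_90r) (AllP.cons (Just.rot hT hi hR rot7_91 rot7_91r)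 (AllP.cons (Just.rot hT hi hR rot7_92 rot7_92r) (AllP.cons (Just.rot hT hi hR rot7_93 rot7_93r) (AllP.cons (Just.rot hT hi hR rot7_94 rot7_94r) (AllP.cons (Just.rot hT hi hR rot7_95 rot7_95r) (AllP.cons (Just.rot hT hi hR rot7_96 rot7_96r) (AllP.cons (Just.rot hT hi hR rot7_97 rot7_97r) (AllP.cons (Just.rot hT hi hR rot7_98 rot7_98r) (AllP.cons (Just.rot hT hi hR rot7_99 rot7_99r) (AllP.cons (Just.rot hT hi hR rot7_100 rot7_100r) (AllP.cons (Just.rot hT hi hR rot7_101 rot7_101r) (AllP.cons (Just.rot hT hi hR rot7_102 rot7_102r) (AllP.cons (Just.rot hT hi hR rot7_103 rot7_103r) (AllP.cons (Just.rot hT hi hR rot7_104 rot7_104r) (AllP.cons (Just.rot hT hi hR rot7_105 rot7_105r) (AllP.cons (Just.rot hT hi hR rot7_106 rot7_106r) (AllP.cons (Just.rot hT hi hR rot7_107 rot7_107r) (AllP.cons (Just.rot hT hi hR rot7_108 rot7_108r) (AllP.cons (Just.rot hT hi hR rot7_109 rot7_109r)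 (AllP.cons (Just.rot hT hi hR rot7_110 rot7_110r) (AllP.nil)))))))))))))))))))))))))))))))))))))))))))))))))))))))))))))))))))))))))))))))))))))))))))))))))))))))))))))))
theorem let8 : LetOk H (letV a EX) T L 8 :=
  LetOk.of hT tl8 cov8 (AllP.cons (Just.rot hT hi hR rot8_1 rot8_1r) (AllP.cons (Just.rot hT hi hR rot8_2 rot8_2r) (AllP.cons (Just.rot hT hi hR rot8_3 rot8_3r) (AllP.cons (Just.rot hT hi hR rot8_4 rot8_4r) (AllP.cons (Just.rot hT hi hR rot8_5 rot8_5r) (AllP.cons (Just.rot hT hi hR rot8_6 rot8_6r) (AllP.cons (Just.rot hT hi hR rot8_7 rot8_7r) (AllP.cons (Just.rot hT hi hR rot8_8 rot8_8r) (AllP.cons (Just.rot hT hi hR rot8_9 rot8_9r) (AllP.cons (Just.rot hT hi hR rot8_10 rot8_10r) (AllP.cons (Just.rot hT hi hR rot8_11 rot8_11r) (AllP.cons (Just.rot hT hi hR rot8_12 rot8_12r) (AllP.cons (Just.rot hT hi hR rot8_13 rot8_13r) (AllP.cons (Just.rot hT hi hR rot8_14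 rot8_14r) (AllP.cons (Just.rot hT hi hR rot8_15 rot8_15r) (AllP.cons (Just.rot hT hi hR rot8_16 rot8_16r) (AllP.cons (Just.rot hT hi hR rot8_17 rot8_17r) (AllP.cons (Just.rot hT hi hR rot8_18 rot8_18r) (AllP.cons (Just.rot hT hi hR rot8_19 rot8_19r) (AllP.cons (Just.rot hT hi hR rot8_20 rot8_20r) (AllP.cons (Just.rot hT hi hR rot8_21 rot8_21r) (AllP.cons (Just.rot hT hi hR rot8_22 rot8_22r) (AllP.cons (Just.rot hT hi hR rot8_23 rot8_23r) (AllP.cons (Just.rot hT hi hR rot8_24 rot8_24r) (AllP.cons (Just.rot hT hi hR rot8_25 rot8_25r) (AllP.cons (Just.rot hT hi hR rot8_26 rot8_26r) (AllP.cons (Just.rot hT hi hR rot8_27 rot8_27r) (AllP.cons (Just.rot hT hi hR rot8_28 rot8_28r) (AllP.cons (Just.rot hT hi hR rot8_29 rot8_29r) (AllP.cons (Just.rot hT hi hR rot8_30 rot8_30r) (AllP.cons (Just.rot hT hi hR rot8_31 rot8_31r) (AllP.cons (Just.rot hT hi hR rot8_32 rot8_32r) (AllP.cons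 (Just.rot hT hi hR rot8_33 rot8_33r) (AllP.cons (Just.rot hT hi hR rot8_34 rot8_34r) (AllP.cons (Just.rot hT hi hR rot8_35 rot8_35r) (AllP.cons (Just.rot hT hi hR rot8_36 rot8_36r) (AllP.cons (Just.rot hT hi hR rot8_37 rot8_37r) (AllP.cons (Just.rot hT hi hR rot8_38 rot8_38r) (AllP.cons (Just.rot hT hi hR rot8_39 rot8_39r) (AllP.nil))))))))))))))))))))))))))))))))))))))))
theorem hlet : AllP (LetOk H (letV a EX) T L) L :=
  show AllP (LetOk H (letV a EX) T L) [1, 2, 3, 4, 5, 6, 7, 8] from AllP.cons (let1 hi hR hb) (AllP.cons (let2 hi hR hb) (AllP.cons (let3 hi hR hb) (AllP.cons (let4 hi hR hb) (AllP.cons (let5 hi hR hb) (AllP.cons (let6 hi hR hb) (AllP.cons (let7 hi hR hb) (AllP.cons (let8 hi hR hb) (AllP.nil))))))))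
end

theorem cert : Cert 4 0 RL BW fP 7128 :=
  Cert.of hT ⟨hsq, hrel⟩ hPZ (fun _ _ _ hi hR _ hb => hlet hi hR hb) hcov hg (by decide +kernel)

end Cfsg.Agent.Spor.LyMca
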