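import Cfsg.Agent.Spor.Sub3
import Cfsg.Agent.Spor.LyMca.S.Main
import Cfsg.Agent.Spor.LyMca.L.Main
import Cfsg.Agent.Spor.DC
import Cfsg.Agent.Spor.LyMcb.Main
import Cfsg.Agent.Spor.LyMcc.Main
import Cfsg.Agent.Spor.PX3
import Cfsg.Agent.Spor.LyMcN1.Main

set_option autoImplicit false
set_option maxRecDepth 100000

namespace Cfsg.Agent.Spor.LyMca

theorem bound : Bound 4 0 RL 898128000 := show Bound 4 0 RL (7128 * (252 * (500))) from (LyMca.cert.bound' (LyMcb.cert.bound LyMcc.cert.bound_nil (H := [([], 5, true), ([], 0, true), ([], 1, true), ([], 2, true), ([], 3, true), ([], 4, true)]) (by decide +kernel)) (H := [([], 0, true), ([], 1, true), ([], 2, true), ([], 3, true), ([], 4, true), ([], 5, true), ([], 6, true), ([], 7, true), ([], 8, true), ([], 9, true), ([], 10, true), ([], 11, true), ([], 12, true), ([], 13, true), ([], 14, true), ([], 15, true), ([], 16, true), ([], 17, true), ([], 18, true), ([], 19, true), ([], 20, true), ([], 21, true), ([], 22, true), ([], 23, true), ([], 24, true), ([], 25, true), ([], 26, true), ([], 27, true), ([], 28, true)])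 (H' := [([], 0, true), ([], 1, true), ([], 2, true), ([], 3, true), ([], 4, true), ([], 5, true), ([], 6, true), ([], 7, true), ([], 8, true), ([], 9, true)]) (by decide +kernel) (by decide +kernel))

/-- the permutation group -/
noncomputable abbrev P : Subgroup (Equiv.Perm ℕ) := gsub 4 fP
noncomputable abbrev p : ℕ → P := lift P fP

theorem lbP : 898128000 ∣ Nat.card P := by
  rw [P, L.eG]; exact L.lb

theorem cardP : Nat.card P = 898128000 := Nat.dvd_antisymm (bound _ _ cert.pres) lbP

instance instFiniteP : Finite P := Nat.finite_of_card_ne_zero (by rw [cardP]; norm_num)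

theorem coatomP : IsCoatom (wsub 4 p BW) :=
  cert.self.coatom (by norm_num) ((map_wsub_lift fP BW).trans S.eH)
    ((Subgroup.range_subtype _).trans S.eG) S.hX S.hXc S.hY

theorem coreP : (wsub 4 p BW).normalCore = ⊥ :=
  cert.self.core_eq_bot P.subtype_injective ((Subgroup.range_subtype P).symm ▸ S.hfix)

theorem presP : Pres 4 0 RL p := cert.pres.lift

theorem pow11 : ev (atm 4 p) [0, 4, 2, 6] ^ 11 = 1 := by
  rw [← ev_replicate]
  exact (cert.pres.append L.hX11).lift.rel _ (by decide +kernel)

theorem simpleP : IsSimpleGroup P :=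
  simple_of_coatom coatomP coreP pow11
    (by rw [card_of_index (M := 126000) cardP cert.self.index (by norm_num)]; norm_num)
    fun N _ h => LyMcN1.cert.bound_nil.eq_top presP (gsub_lift 4 fP) N (AW := [[0, 4, 2, 6]])
      (fun w hw => List.mem_singleton.mp hw ▸ h) (H := [([], 0, true), ([], 1, true), ([], 2, true), ([], 3, true), ([], 4, true), ([], 5, true), ([], 6, true), ([], 7, true), ([], 8, true), ([], 9, true), ([], 10, true), ([], 11, true), ([], 12, true), ([], 13, true), ([], 14, true), ([], 15, true), ([], 16, true), ([], 17, true), ([], 18, true), ([], 19, true), ([], 20, true), ([], 21, true), ([], 22, true), ([], 23, true), ([], 24, true), ([], 25, true), ([], 26, true), ([], 27, true), ([], 28, true), ([], 29, true)]) (by decide +kernel)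

end Cfsg.Agent.Spor.LyMca
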